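/-
Bit-mask coordinates for the 24 points of the length-24 code.

A subset of `GolayPt` is coded as a natural number below `2^24`: the point `none` is bit 23 and the
point `some x` is bit `x.val`.
-/
import Cfsg.Prelude.Def_Sporadic_a

set_option autoImplicit false

namespace CfsgLib.Golay

open Cfsg

/-- Bit position of a point. -/
def idx : GolayPt → ℕ
  | none => 23
  | some x => x.val

theorem idx_lt (p : GolayPt) : idx p < 24 := by
  cases p with
  | none => decide
  | some x =>
    have := ZMod.val_lt x
    simp only [idx]; omega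

theorem idx_inj : Function.Injective idx := by
  decide

/-- Point at a bit position (`none` beyond the residues). -/
def pt (n : ℕ) : GolayPt := if n < 23 then some (n : ZMod 23) else none

theorem pt_idx (p : GolayPt) : pt (idx p) = p := by
  revert p; decide

theorem idx_pt {n : ℕ} (h : n < 24) : idx (pt n) = n := by
  unfold pt
  split_ifs with h'
  · simp only [idx]
    rw [ZMod.val_natCast]
    exact Nat.mod_eq_of_lt h'
  · simp only [idx]; omega

/-- The subset of points coded by a mask. -/
def fs (m : ℕ) : Finset GolayPt := Finset.univ.filter fun p => m.testBit (idx p) = true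

@[simp] theorem mem_fs {m : ℕ} {p : GolayPt} : p ∈ fs m ↔ m.testBit (idx p) = true := by
  simp [fs]

/-- The binary word with support coded by a mask. -/
def word (m : ℕ) : GolayPt → ZMod 2 := fun p => if m.testBit (idx p) = true then 1 else 0

theorem word_apply (m : ℕ) (p : GolayPt) : word m p = if m.testBit (idx p) = true then 1 else 0 := rfl

theorem support_word (m : ℕ) : support₂ (word m) = fs m := by
  ext p
  simp only [support₂, word, mem_fs]
  by_cases h : m.testBit (idx p) = true <;> simp [h]

theorem word_xor (a b : ℕ) : word (a ^^^ b) = word a + word b := by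
  funext p
  simp only [word, Pi.add_apply, Nat.testBit_xor]
  cases a.testBit (idx p) <;> cases b.testBit (idx p) <;> decide

theorem word_zero : word 0 = 0 := by
  funext p; simp [word]

theorem fs_zero : fs 0 = ∅ := by
  ext p; simp

theorem fs_land (a b : ℕ) : fs (a &&& b) = fs a ∩ fs b := by
  ext p; simp [Nat.testBit_and]

theorem fs_lor (a b : ℕ) : fs (a ||| b) = fs a ∪ fs b := by
  ext p; simp [Nat.testBit_or]

theorem fs_xor (a b : ℕ) : fs (a ^^^ b) = symmDiff (fs a) (fs b) := by
  ext p
  simp only [mem_fs, Nat.testBit_xor, Finset.mem_symmDiff]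
  cases a.testBit (idx p) <;> cases b.testBit (idx p) <;> simp

/-- Bits below 24 determine a mask below `2^24`. -/
theorem eq_of_fs_eq {a b : ℕ} (ha : a < 2 ^ 24) (hb : b < 2 ^ 24) (h : fs a = fs b) : a = b := by
  apply Nat.eq_of_testBit_eq
  intro i
  by_cases hi : i < 24
  · have := congrArg (fun s => pt i ∈ s) h
    simp only [mem_fs, idx_pt hi, eq_iff_iff] at this
    cases ha' : a.testBit i <;> cases hb' : b.testBit i <;> simp_all
  · have hi' : 24 ≤ i := by omega
    have h2 : (2 : ℕ) ^ 24 ≤ 2 ^ i := Nat.pow_le_pow_right (by norm_num) hi'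
    rw [Nat.testBit_lt_two_pow (lt_of_lt_of_le ha h2), Nat.testBit_lt_two_pow (lt_of_lt_of_le hb h2)]

/-- The mask of a subset. -/
def mask (s : Finset GolayPt) : ℕ := ∑ p ∈ s, 2 ^ idx p

theorem sum_two_pow_lt (s : Finset ℕ) (n : ℕ) (h : ∀ i ∈ s, i < n) : ∑ i ∈ s, 2 ^ i < 2 ^ n := by
  have h1 : ∑ i ∈ s, 2 ^ i ≤ ∑ i ∈ Finset.range n, 2 ^ i :=
    Finset.sum_le_sum_of_subset (fun i hi => Finset.mem_range.mpr (h i hi))
  have h2 : ∑ i ∈ Finset.range n, (2 : ℕ) ^ i = 2 ^ n - 1 := by
    rw [Nat.geomSum_eq (by norm_num)]; simp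
  have h3 : 0 < (2 : ℕ) ^ n := by positivity
  omega

theorem testBit_sum_two_pow (s : Finset ℕ) (i : ℕ) :
    (∑ j ∈ s, 2 ^ j).testBit i = decide (i ∈ s) := by
  have h : (∑ j ∈ s, 2 ^ j).testBit i = true ↔ i ∈ s := by
    rw [← Nat.mem_bitIndices, ← List.mem_toFinset, Finset.toFinset_bitIndices_sum_two_pow]
  by_cases hi : i ∈ s
  · simp [hi, h.mpr hi]
  · simp only [hi, decide_false]
    by_contra hne
    exact hi (h.mp (by simpa using hne))

theorem mask_eq_sum (s : Finset GolayPt) : mask s = ∑ j ∈ s.image idx, 2 ^ j := by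
  rw [Finset.sum_image (fun a _ b _ h => idx_inj h)]
  rfl

theorem mask_lt (s : Finset GolayPt) : mask s < 2 ^ 24 := by
  rw [mask_eq_sum]
  apply sum_two_pow_lt
  intro i hi
  obtain ⟨p, -, rfl⟩ := Finset.mem_image.mp hi
  exact idx_lt p

theorem fs_mask (s : Finset GolayPt) : fs (mask s) = s := by
  ext p
  rw [mem_fs, mask_eq_sum, testBit_sum_two_pow]
  simp only [decide_eq_true_eq, Finset.mem_image]
  constructor
  · rintro ⟨q, hq, h⟩
    rw [← idx_inj h]; exact hq
  · intro h; exact ⟨p, h, rfl⟩

theorem mask_fs {m : ℕ} (h : m < 2 ^ 24) : mask (fs m) = m :=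
  eq_of_fs_eq (mask_lt _) h (fs_mask _)

theorem mask_singleton (p : GolayPt) : mask {p} = 2 ^ idx p := by
  simp [mask]

theorem word_support_eq (w : GolayPt → ZMod 2) : word (mask (support₂ w)) = w := by
  funext p
  have : (mask (support₂ w)).testBit (idx p) = true ↔ p ∈ support₂ w := by
    rw [← mem_fs, fs_mask]
  simp only [word, this]
  simp only [support₂, Finset.mem_filter, Finset.mem_univ, true_and]
  by_cases h : w p = 0
  · simp [h]
  · simp only [h, ne_eq, not_false_eq_true, if_true]
    generalize w p = a at h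
    revert a; decide

/-! ### Population count -/

/-- Population count of one bit mask below 256, through a table of 256 four-bit entries. -/
def popTable : ℕ :=
  0x8776766576656554766565546554544376656554655454436554544354434332766565546554544365545443544343326554544354434332544343324332322176656554655454436554544354434332655454435443433254434332433232216554544354434332544343324332322154434332433232214332322132212110

/-- Count of the set bits among the low 8 positions, by table. -/
def pop8 (b : ℕ) : ℕ := Nat.land (Nat.shiftRight popTable (Nat.mul 4 b)) 15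

/-- Count of the set bits among the low 24 positions. -/
def pop (m : ℕ) : ℕ :=
  Nat.add (Nat.add (pop8 (Nat.land m 255)) (pop8 (Nat.land (Nat.shiftRight m 8) 255)))
    (pop8 (Nat.land (Nat.shiftRight m 16) 255))

/-- The specification of `pop8`: the bits below 8, counted. -/
def bitCount (n m : ℕ) : ℕ := ((Finset.range n).filter fun i => m.testBit i = true).card

theorem pop8_eq : ∀ b < 256, pop8 b = bitCount 8 b := by
  decide +kernel

theorem testBit_land_255 (m i : ℕ) (hi : i < 8) : (Nat.land m 255).testBit i = m.testBit i := by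
  change (m &&& (2 ^ 8 - 1)).testBit i = _
  rw [Nat.testBit_and, Nat.testBit_two_pow_sub_one]
  simp [hi]

theorem land_255_lt (m : ℕ) : Nat.land m 255 < 256 := by
  change m &&& 255 < 256
  exact lt_of_le_of_lt Nat.and_le_right (by norm_num)

theorem bitCount_add (n k m : ℕ) :
    bitCount (n + k) m = bitCount n m + bitCount k (Nat.shiftRight m n) := by
  unfold bitCount
  rw [Finset.card_filter, Finset.card_filter, Finset.card_filter, Finset.sum_range_add]
  congr 1
  apply Finset.sum_congr rfl
  intro i _
  change (if m.testBit (n + i) = true then 1 else 0) = if (m >>> n).testBit i = true then 1 else 0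
  rw [Nat.testBit_shiftRight]

theorem bitCount_land (m : ℕ) : bitCount 8 (Nat.land m 255) = bitCount 8 m := by
  unfold bitCount
  congr 1
  apply Finset.filter_congr
  intro i hi
  rw [testBit_land_255 _ _ (Finset.mem_range.mp hi)]

theorem pop_eq (m : ℕ) : pop m = bitCount 24 m := by
  unfold pop
  have h1 := pop8_eq _ (land_255_lt m)
  have h2 := pop8_eq _ (land_255_lt (Nat.shiftRight m 8))
  have h3 := pop8_eq _ (land_255_lt (Nat.shiftRight m 16))
  rw [bitCount_land] at h1 h2 h3
  have e : bitCount 24 m = bitCount 8 m + bitCount 8 (Nat.shiftRight m 8) + bitCount 8 (Nat.shiftRight m 16) := by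
    have a1 := bitCount_add 16 8 m
    have a2 := bitCount_add 8 8 m
    rw [show (24 : ℕ) = 16 + 8 from rfl, a1, show (16 : ℕ) = 8 + 8 from rfl, a2]
  rw [e]
  change pop8 _ + pop8 _ + pop8 _ = _
  rw [h1, h2, h3]

theorem card_fs (m : ℕ) : (fs m).card = pop m := by
  rw [pop_eq]
  unfold bitCount
  rw [← Finset.card_image_of_injective (fs m) idx_inj]
  congr 1
  ext i
  simp only [Finset.mem_image, mem_fs, Finset.mem_filter, Finset.mem_range]
  constructor
  · rintro ⟨p, hp, rfl⟩
    exact ⟨idx_lt p, hp⟩
  · rintro ⟨hi, h⟩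
    exact ⟨pt i, by rw [idx_pt hi]; exact h, idx_pt hi⟩

theorem mem_fs_pt {m i : ℕ} (hi : i < 24) : pt i ∈ fs m ↔ m.testBit i = true := by
  rw [mem_fs, idx_pt hi]

theorem hammingNorm_word (m : ℕ) : hammingNorm (word m) = pop m := by
  rw [← card_fs, ← support_word]
  rfl

theorem hammingNorm_eq_card (w : GolayPt → ZMod 2) : hammingNorm w = (support₂ w).card := rfl

end CfsgLib.Golay
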