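/-
The length-24 code `Cfsg.golayCode` as an explicit list of 4096 masks.
-/
import Cfsg.Agent.Lib.Golay.Mask

set_option autoImplicit false

namespace CfsgLib.Golay

open Cfsg

/-- A reduced basis of the code (masks), with the pivot bit of each. -/
def basisP : List (ℕ × ℕ) :=
  [(0x401ed, 18), (0x803da, 19), (0x1007b4, 20), (0x200f68, 21), (0x400a4f, 22), (0x8dc6, 15),
   (0x10f13, 16), (0x20ab9, 17), (0x149f, 12), (0x293e, 13), (0x46e3, 14), (0x800c75, 23)]

/-- The basis masks. -/
def basis : List ℕ := basisP.map Prod.fst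

/-- All xor-combinations of a list of masks. -/
def spanList : List ℕ → List ℕ
  | [] => [0]
  | b :: B => spanList B ++ (spanList B).map (fun x => Nat.xor x b)

/-- The 4096 code words as masks. -/
def allCode : List ℕ := spanList basis

theorem mem_spanList_cons {b c : ℕ} {B : List ℕ} :
    c ∈ spanList (b :: B) ↔ c ∈ spanList B ∨ ∃ d ∈ spanList B, c = d ^^^ b := by
  simp only [spanList, List.mem_append, List.mem_map]
  constructor
  · rintro (h | ⟨d, hd, rfl⟩)
    · exact Or.inl h
    · exact Or.inr ⟨d, hd, rfl⟩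
  · rintro (h | ⟨d, hd, rfl⟩)
    · exact Or.inl h
    · exact Or.inr ⟨d, hd, rfl⟩

theorem zero_mem_spanList (B : List ℕ) : 0 ∈ spanList B := by
  induction B with
  | nil => simp [spanList]
  | cons b B ih => exact mem_spanList_cons.mpr (Or.inl ih)

theorem xor_mem_spanList {B : List ℕ} {a c : ℕ} (ha : a ∈ spanList B) (hc : c ∈ spanList B) :
    a ^^^ c ∈ spanList B := by
  induction B generalizing a c with
  | nil =>
    simp only [spanList, List.mem_singleton] at ha hc ⊢
    subst ha hc; rfl
  | cons b B ih =>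
    rcases mem_spanList_cons.mp ha with ha | ⟨d, hd, rfl⟩ <;>
      rcases mem_spanList_cons.mp hc with hc | ⟨e, he, rfl⟩
    · exact mem_spanList_cons.mpr (Or.inl (ih ha hc))
    · refine mem_spanList_cons.mpr (Or.inr ⟨a ^^^ e, ih ha he, ?_⟩)
      rw [Nat.xor_assoc]
    · refine mem_spanList_cons.mpr (Or.inr ⟨d ^^^ c, ih hd hc, ?_⟩)
      rw [Nat.xor_assoc, Nat.xor_comm b c, Nat.xor_assoc]
    · refine mem_spanList_cons.mpr (Or.inl ?_)
      have : d ^^^ b ^^^ (e ^^^ b) = d ^^^ e := by
        rw [Nat.xor_assoc, Nat.xor_comm e b, ← Nat.xor_assoc b b e, Nat.xor_self, Nat.zero_xor]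
      rw [this]
      exact ih hd he

theorem self_mem_spanList {B : List ℕ} {b : ℕ} (h : b ∈ B) : b ∈ spanList B := by
  induction B with
  | nil => simp at h
  | cons x B ih =>
    rcases List.mem_cons.mp h with rfl | h
    · refine mem_spanList_cons.mpr (Or.inr ⟨0, zero_mem_spanList B, ?_⟩)
      simp
    · exact mem_spanList_cons.mpr (Or.inl (ih h))

/-- Reduction modulo a reduced basis. -/
def red : List (ℕ × ℕ) → ℕ → ℕ
  | [], m => m
  | (b, p) :: L, m =>
    red L (match Nat.land (Nat.shiftRight m p) 1 with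
      | 0 => m
      | _ + 1 => Nat.xor m b)

theorem mem_spanList_of_red {L : List (ℕ × ℕ)} {m : ℕ} (h : red L m = 0) :
    m ∈ spanList (L.map Prod.fst) := by
  induction L generalizing m with
  | nil =>
    simp only [red] at h
    simp [spanList, h]
  | cons x L ih =>
    obtain ⟨b, p⟩ := x
    simp only [red] at h
    simp only [List.map_cons]
    split at h
    · exact mem_spanList_cons.mpr (Or.inl (ih h))
    · refine mem_spanList_cons.mpr (Or.inr ⟨_, ih h, ?_⟩)
      change m = (m ^^^ b) ^^^ b
      rw [Nat.xor_assoc, Nat.xor_self, Nat.xor_zero]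

/-- A mask lies in the code if it reduces to zero. -/
def isCode (m : ℕ) : Bool := Nat.beq (red basisP m) 0

theorem mem_allCode_of_isCode {m : ℕ} (h : isCode m = true) : m ∈ allCode := by
  apply mem_spanList_of_red
  exact Nat.eq_of_beq_eq_true h

theorem zero_mem_allCode : 0 ∈ allCode := zero_mem_spanList _

theorem xor_mem_allCode {a c : ℕ} (ha : a ∈ allCode) (hc : c ∈ allCode) : a ^^^ c ∈ allCode :=
  xor_mem_spanList ha hc

theorem allCode_lt_aux : ∀ c ∈ allCode, c < 2 ^ 24 := by
  have : allCode.all (fun c => Nat.blt c (2 ^ 24)) = true := by decide +kernel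
  intro c hc
  have h := List.all_eq_true.mp this c hc
  exact Nat.le_of_ble_eq_true h

theorem isCode_of_mem : ∀ c ∈ allCode, isCode c = true := by
  have : allCode.all isCode = true := by decide +kernel
  exact fun c hc => List.all_eq_true.mp this c hc

theorem isCode_iff (m : ℕ) : isCode m = true ↔ m ∈ allCode :=
  ⟨mem_allCode_of_isCode, isCode_of_mem m⟩

/-- The translate masks of the squares. -/
def qrMasks : List ℕ :=
  [0x5335f, 0xa66be, 0x14cd7c, 0x299af8, 0x5335f0, 0x266be1, 0x4cd7c2, 0x19af85, 0x335f0a, 0x66be14,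
   0x4d7c29, 0x1af853, 0x35f0a6, 0x6be14c, 0x57c299, 0x2f8533, 0x5f0a66, 0x3e14cd, 0x7c299a,
   0x785335, 0x70a66b, 0x614cd7, 0x4299af]

theorem qrWord_eq : ∀ t : ZMod 23, qrWord t = word (qrMasks.getD t.val 0) := by
  have : ∀ (t : ZMod 23) (p : GolayPt), qrWord t p = word (qrMasks.getD t.val 0) p := by
    decide +kernel
  exact fun t => funext (this t)

theorem one_eq_word : (1 : GolayPt → ZMod 2) = word 0xffffff := by
  have : ∀ p : GolayPt, (1 : GolayPt → ZMod 2) p = word 0xffffff p := by decide +kernel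
  exact funext this

/-- Generators of the code, by mask. -/
def genMasks : List ℕ := qrMasks ++ [0xffffff]

/-- Expression of the basis masks through the generators. -/
def basisComb : List (List ℕ) :=
  [[0, 7, 8, 9, 10], [0, 5, 6, 7, 8, 10], [0, 5, 8], [1, 6, 9], [0, 2, 3, 4, 6, 7, 8, 10],
   [0, 3, 4, 7, 9], [0, 1, 3, 5, 6, 10], [2, 3, 5, 6, 8, 9], [0, 3, 4, 6, 8], [1, 4, 5, 7, 9],
   [0, 2, 3, 4, 5, 10], [1, 2, 4, 7, 9, 10, 23]]

theorem word_qrMask_mem (i : ℕ) (hi : i < 23) : word (qrMasks.getD i 0) ∈ golayCode := by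
  have h := qrWord_eq ((i : ℕ) : ZMod 23)
  rw [ZMod.val_natCast, Nat.mod_eq_of_lt hi] at h
  rw [← h]
  exact Submodule.subset_span (Set.mem_union_left _ ⟨_, rfl⟩)

theorem word_gen_mem (i : ℕ) (hi : i ≤ 23) : word (genMasks.getD i 0) ∈ golayCode := by
  rcases Nat.lt_or_ge i 23 with h | h
  · have e : genMasks.getD i 0 = qrMasks.getD i 0 := by
      interval_cases i <;> rfl
    rw [e]
    exact word_qrMask_mem i h
  · have : i = 23 := by omega
    subst this
    change word 0xffffff ∈ golayCode
    rw [← one_eq_word]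
    exact Submodule.subset_span (Set.mem_union_right _ rfl)

theorem word_foldr_mem (l : List ℕ) (hl : ∀ i ∈ l, i ≤ 23) :
    word (l.foldr (fun i acc => Nat.xor (genMasks.getD i 0) acc) 0) ∈ golayCode := by
  induction l with
  | nil =>
    simp only [List.foldr, word_zero]
    exact Submodule.zero_mem _
  | cons a l ih =>
    simp only [List.foldr]
    change word (genMasks.getD a 0 ^^^ _) ∈ golayCode
    rw [word_xor]
    exact Submodule.add_mem _ (word_gen_mem a (hl a (by simp)))
      (ih (fun i hi => hl i (by simp [hi])))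

theorem basisComb_spec : ∀ b ∈ basis, ∃ l ∈ basisComb, (∀ i ∈ l, i ≤ 23) ∧
    b = l.foldr (fun i acc => Nat.xor (genMasks.getD i 0) acc) 0 := by
  decide +kernel

theorem word_basis_mem {b : ℕ} (hb : b ∈ basis) : word b ∈ golayCode := by
  obtain ⟨l, -, hl, rfl⟩ := basisComb_spec b hb
  exact word_foldr_mem l hl

theorem word_mem_golayCode_of_spanList {B : List ℕ} (hB : ∀ b ∈ B, word b ∈ golayCode) {c : ℕ}
    (hc : c ∈ spanList B) : word c ∈ golayCode := by
  induction B generalizing c with
  | nil =>
    simp only [spanList, List.mem_singleton] at hc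
    subst hc
    rw [word_zero]
    exact Submodule.zero_mem _
  | cons b B ih =>
    have hB' : ∀ x ∈ B, word x ∈ golayCode := fun x hx => hB x (by simp [hx])
    rcases mem_spanList_cons.mp hc with h | ⟨d, hd, rfl⟩
    · exact ih hB' h
    · rw [word_xor]
      exact Submodule.add_mem _ (ih hB' hd) (hB b (by simp))

theorem word_mem_golayCode {c : ℕ} (hc : c ∈ allCode) : word c ∈ golayCode :=
  word_mem_golayCode_of_spanList (fun _ hb => word_basis_mem hb) hc

theorem qrMasks_isCode : ∀ m ∈ genMasks, isCode m = true := by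
  decide +kernel

/-- The code as a submodule, through the list. -/
def codeSub : Submodule (ZMod 2) (GolayPt → ZMod 2) where
  carrier := {w | ∃ c ∈ allCode, w = word c}
  zero_mem' := ⟨0, zero_mem_allCode, word_zero.symm⟩
  add_mem' := by
    rintro _ _ ⟨a, ha, rfl⟩ ⟨c, hc, rfl⟩
    exact ⟨a ^^^ c, xor_mem_allCode ha hc, (word_xor a c).symm⟩
  smul_mem' := by
    rintro r _ ⟨c, hc, rfl⟩
    have hr : r = 0 ∨ r = 1 := by revert r; decide
    rcases hr with rfl | rfl
    · exact ⟨0, zero_mem_allCode, by rw [zero_smul, word_zero]⟩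
    · exact ⟨c, hc, by rw [one_smul]⟩

theorem golayCode_le_codeSub : golayCode ≤ codeSub := by
  unfold golayCode
  rw [Submodule.span_le]
  rintro w (⟨t, rfl⟩ | rfl)
  · rw [qrWord_eq t]
    refine ⟨_, mem_allCode_of_isCode (qrMasks_isCode _ ?_), rfl⟩
    have h : t.val < 23 := ZMod.val_lt t
    simp only [genMasks, List.mem_append]
    refine Or.inl ?_
    rw [List.getD_eq_getElem _ _ (by simpa [qrMasks] using h)]
    exact List.getElem_mem _
  · refine ⟨0xffffff, mem_allCode_of_isCode (qrMasks_isCode _ (by simp [genMasks])), ?_⟩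
    exact one_eq_word

theorem mem_golayCode_iff (w : GolayPt → ZMod 2) : w ∈ golayCode ↔ ∃ c ∈ allCode, w = word c := by
  constructor
  · exact fun h => golayCode_le_codeSub h
  · rintro ⟨c, hc, rfl⟩
    exact word_mem_golayCode hc

/-- The supports of the code, through the list. -/
theorem mem_supports_iff (s : Finset GolayPt) :
    s ∈ supports (golayCode : Set (GolayPt → ZMod 2)) ↔ ∃ c ∈ allCode, s = fs c := by
  constructor
  · rintro ⟨w, hw, rfl⟩
    obtain ⟨c, hc, rfl⟩ := (mem_golayCode_iff w).mp hw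
    exact ⟨c, hc, support_word c⟩
  · rintro ⟨c, hc, rfl⟩
    exact ⟨word c, word_mem_golayCode hc, support_word c⟩

theorem mask_mem_allCode_iff (s : Finset GolayPt) :
    s ∈ supports (golayCode : Set (GolayPt → ZMod 2)) ↔ mask s ∈ allCode := by
  rw [mem_supports_iff]
  constructor
  · rintro ⟨c, hc, rfl⟩
    rwa [mask_fs (allCode_lt_aux c hc)]
  · intro h
    exact ⟨_, h, (fs_mask s).symm⟩

theorem fs_mem_supports {c : ℕ} (hc : c ∈ allCode) :
    fs c ∈ supports (golayCode : Set (GolayPt → ZMod 2)) :=
  (mem_supports_iff _).mpr ⟨c, hc, rfl⟩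

/-- Members of `wordsOfWeight`. -/
theorem mem_wordsOfWeight_iff (s : Finset GolayPt) (n : ℕ) :
    s ∈ wordsOfWeight (golayCode : Set (GolayPt → ZMod 2)) n ↔ ∃ c ∈ allCode, pop c = n ∧ s = fs c := by
  unfold wordsOfWeight
  simp only [Set.mem_ofPred_eq, mem_supports_iff]
  constructor
  · rintro ⟨⟨c, hc, rfl⟩, h⟩
    exact ⟨c, hc, by rw [← card_fs, h], rfl⟩
  · rintro ⟨c, hc, h, rfl⟩
    exact ⟨⟨c, hc, rfl⟩, by rw [card_fs, h]⟩

theorem mem_octads_iff (s : Finset GolayPt) : s ∈ octads ↔ ∃ c ∈ allCode, pop c = 8 ∧ s = fs c :=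
  mem_wordsOfWeight_iff s 8

theorem mem_dodecads_iff (s : Finset GolayPt) :
    s ∈ dodecads ↔ ∃ c ∈ allCode, pop c = 12 ∧ s = fs c :=
  mem_wordsOfWeight_iff s 12

/-! ### Computed facts about the list -/

/-- Does a list of masks below `2^24` have distinct members? (a bit set of seen values) -/
def nodupBits : List ℕ → ℕ → Bool
  | [], _ => true
  | x :: xs, seen =>
    match Nat.land (Nat.shiftRight seen x) 1 with
    | 0 => nodupBits xs (Nat.lor seen (Nat.shiftLeft 1 x))
    | _ + 1 => false

theorem nodup_of_nodupBits {l : List ℕ} {seen : ℕ} (h : nodupBits l seen = true) :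
    l.Nodup ∧ ∀ x ∈ l, seen.testBit x = false := by
  induction l generalizing seen with
  | nil => simp
  | cons x xs ih =>
    simp only [nodupBits] at h
    split at h
    · rename_i hb
      obtain ⟨h1, h2⟩ := ih h
      have h3 : seen.testBit x = false := by
        have : (seen >>> x &&& 1) = 0 := hb
        rw [Nat.testBit_eq_decide_div_mod_eq]
        rw [Nat.and_one_is_mod, Nat.shiftRight_eq_div_pow] at this
        simp [this]
      have h4 : ∀ y ∈ xs, (Nat.lor seen (Nat.shiftLeft 1 x)).testBit y = false := h2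
      constructor
      · refine List.nodup_cons.mpr ⟨?_, h1⟩
        intro hx
        have := h4 x hx
        change (seen ||| 1 <<< x).testBit x = false at this
        rw [Nat.testBit_or, Nat.one_shiftLeft, Nat.testBit_two_pow_self] at this
        simp at this
      · intro y hy
        rcases List.mem_cons.mp hy with rfl | hy
        · exact h3
        · have := h4 y hy
          change (seen ||| 1 <<< x).testBit y = false at this
          rw [Nat.testBit_or] at this
          simp only [Bool.or_eq_false_iff] at this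
          exact this.1
    · exact absurd h (by simp)

theorem allCode_nodup : allCode.Nodup := by
  have : nodupBits allCode 0 = true := by decide +kernel
  exact (nodup_of_nodupBits this).1

theorem allCode_length : allCode.length = 4096 := by decide +kernel

/-- The five possible weights. -/
def weightOK (w : ℕ) : Bool :=
  Nat.beq w 0 || Nat.beq w 8 || Nat.beq w 12 || Nat.beq w 16 || Nat.beq w 24

theorem weightOK_spec {w : ℕ} (h : weightOK w = true) :
    w = 0 ∨ w = 8 ∨ w = 12 ∨ w = 16 ∨ w = 24 := by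
  simp only [weightOK, Bool.or_eq_true] at h
  rcases h with ((((h | h) | h) | h) | h)
  · exact Or.inl (Nat.eq_of_beq_eq_true h)
  · exact Or.inr (Or.inl (Nat.eq_of_beq_eq_true h))
  · exact Or.inr (Or.inr (Or.inl (Nat.eq_of_beq_eq_true h)))
  · exact Or.inr (Or.inr (Or.inr (Or.inl (Nat.eq_of_beq_eq_true h))))
  · exact Or.inr (Or.inr (Or.inr (Or.inr (Nat.eq_of_beq_eq_true h))))

/-- Weight distribution: all weights are 0, 8, 12, 16 or 24. -/
theorem weight_cases : ∀ c ∈ allCode, pop c = 0 ∨ pop c = 8 ∨ pop c = 12 ∨ pop c = 16 ∨ pop c = 24 := by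
  have : allCode.all (fun c => weightOK (pop c)) = true := by
    decide +kernel
  intro c hc
  exact weightOK_spec (List.all_eq_true.mp this c hc)

/-- The octad masks. -/
def octadList : List ℕ := allCode.filter (fun c => Nat.beq (pop c) 8)

/-- The dodecad masks. -/
def dodecadList : List ℕ := allCode.filter (fun c => Nat.beq (pop c) 12)

theorem octadList_length : octadList.length = 759 := by decide +kernel

theorem dodecadList_length : dodecadList.length = 2576 := by decide +kernel

theorem mem_octadList {c : ℕ} : c ∈ octadList ↔ c ∈ allCode ∧ pop c = 8 := by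
  simp [octadList]

theorem mem_dodecadList {c : ℕ} : c ∈ dodecadList ↔ c ∈ allCode ∧ pop c = 12 := by
  simp [dodecadList]

theorem octadList_nodup : octadList.Nodup := allCode_nodup.filter _

theorem dodecadList_nodup : dodecadList.Nodup := allCode_nodup.filter _

theorem mem_octads_iff' (s : Finset GolayPt) : s ∈ octads ↔ mask s ∈ octadList := by
  rw [mem_octads_iff, mem_octadList]
  constructor
  · rintro ⟨c, hc, h, rfl⟩
    rw [mask_fs (allCode_lt_aux c hc)]
    exact ⟨hc, h⟩
  · rintro ⟨h1, h2⟩
    exact ⟨_, h1, h2, (fs_mask s).symm⟩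

theorem fs_mem_octads {c : ℕ} (hc : c ∈ octadList) : fs c ∈ octads := by
  rw [mem_octads_iff]
  obtain ⟨h1, h2⟩ := mem_octadList.mp hc
  exact ⟨c, h1, h2, rfl⟩

theorem fs_mem_dodecads {c : ℕ} (hc : c ∈ dodecadList) : fs c ∈ dodecads := by
  rw [mem_dodecads_iff]
  obtain ⟨h1, h2⟩ := mem_dodecadList.mp hc
  exact ⟨c, h1, h2, rfl⟩

theorem fs_injOn_allCode {a c : ℕ} (ha : a ∈ allCode) (hc : c ∈ allCode) (h : fs a = fs c) : a = c :=
  eq_of_fs_eq (allCode_lt_aux a ha) (allCode_lt_aux c hc) h

/-- The set of images under `fs` of a sublist of the code has as many members as the list. -/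
theorem ncard_fs_image {l : List ℕ} (hl : ∀ c ∈ l, c < 2 ^ 24) (hn : l.Nodup) :
    Set.ncard {s : Finset GolayPt | ∃ c ∈ l, s = fs c} = l.length := by
  classical
  have : {s : Finset GolayPt | ∃ c ∈ l, s = fs c} = ((l.toFinset.image fs : Finset _) : Set _) := by
    ext s
    simp [eq_comm]
  rw [this, Set.ncard_coe_finset, Finset.card_image_of_injOn, List.toFinset_card_of_nodup hn]
  intro a ha c hc h
  simp only [Finset.mem_coe, List.mem_toFinset] at ha hc
  exact eq_of_fs_eq (hl a ha) (hl c hc) h

theorem octads_eq : octads = {s | ∃ c ∈ octadList, s = fs c} := by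
  ext s
  simp only [mem_octads_iff, mem_octadList, Set.mem_ofPred_eq]
  constructor
  · rintro ⟨c, h1, h2, rfl⟩
    exact ⟨c, ⟨h1, h2⟩, rfl⟩
  · rintro ⟨c, ⟨h1, h2⟩, rfl⟩
    exact ⟨c, h1, h2, rfl⟩

theorem dodecads_eq : dodecads = {s | ∃ c ∈ dodecadList, s = fs c} := by
  ext s
  simp only [mem_dodecads_iff, mem_dodecadList, Set.mem_ofPred_eq]
  constructor
  · rintro ⟨c, h1, h2, rfl⟩
    exact ⟨c, ⟨h1, h2⟩, rfl⟩
  · rintro ⟨c, ⟨h1, h2⟩, rfl⟩
    exact ⟨c, h1, h2, rfl⟩

theorem octads_ncard : octads.ncard = 759 := by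
  rw [octads_eq, ncard_fs_image (fun c hc => allCode_lt_aux c (mem_octadList.mp hc).1) octadList_nodup,
    octadList_length]

theorem dodecads_ncard : dodecads.ncard = 2576 := by
  rw [dodecads_eq,
    ncard_fs_image (fun c hc => allCode_lt_aux c (mem_dodecadList.mp hc).1) dodecadList_nodup,
    dodecadList_length]

/-! ### Self-orthogonality and dimension -/

theorem spanList_induction {B : List ℕ} {Q : ℕ → Prop} (h0 : Q 0)
    (hx : ∀ c, ∀ b ∈ B, Q c → Q (c ^^^ b)) {c : ℕ} (hc : c ∈ spanList B) : Q c := by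
  induction B generalizing c with
  | nil =>
    simp only [spanList, List.mem_singleton] at hc
    subst hc; exact h0
  | cons b B ih =>
    have hx' : ∀ c, ∀ b ∈ B, Q c → Q (c ^^^ b) := fun c b' hb' => hx c b' (by simp [hb'])
    rcases mem_spanList_cons.mp hc with h | ⟨d, hd, rfl⟩
    · exact ih hx' h
    · exact hx _ b (by simp) (ih hx' hd)

theorem sum_word (m : ℕ) : ∑ p, word m p = ((pop m : ℕ) : ZMod 2) := by
  rw [← card_fs]
  simp only [word]
  rw [Finset.sum_boole]
  rfl

theorem word_mul (a c : ℕ) : word a * word c = word (a &&& c) := by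
  funext p
  simp only [Pi.mul_apply, word, Nat.testBit_and]
  cases a.testBit (idx p) <;> cases c.testBit (idx p) <;> simp

theorem sum_word_mul (a c : ℕ) : ∑ p, word a p * word c p = ((pop (a &&& c) : ℕ) : ZMod 2) := by
  rw [← sum_word, ← word_mul]
  rfl

theorem basis_orth : ∀ a ∈ basis, ∀ c ∈ basis, ∑ p, word a p * word c p = 0 := by
  have h : ∀ a ∈ basis, ∀ c ∈ basis, ((pop (a &&& c) : ℕ) : ZMod 2) = 0 := by decide +kernel
  intro a ha c hc
  rw [sum_word_mul]
  exact h a ha c hc

theorem code_orth {a c : ℕ} (ha : a ∈ allCode) (hc : c ∈ allCode) :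
    ∑ p, word a p * word c p = 0 := by
  refine spanList_induction (B := basis) (Q := fun a => ∑ p, word a p * word c p = 0)
    (by simp [word_zero]) ?_ ha
  intro x b hb hx
  have h2 : ∑ p, word b p * word c p = 0 := by
    refine spanList_induction (B := basis) (Q := fun c => ∑ p, word b p * word c p = 0)
      (by simp [word_zero]) ?_ hc
    intro y e he hy
    simp only [word_xor, Pi.add_apply, mul_add, Finset.sum_add_distrib, hy, basis_orth b hb e he,
      add_zero]
  simp only [word_xor, Pi.add_apply, add_mul, Finset.sum_add_distrib, hx, h2, add_zero]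

theorem word_injOn {a c : ℕ} (ha : a < 2 ^ 24) (hc : c < 2 ^ 24) (h : word a = word c) : a = c := by
  apply eq_of_fs_eq ha hc
  rw [← support_word, ← support_word, h]

theorem golayCode_finrank : Module.finrank (ZMod 2) golayCode = 12 := by
  classical
  have h1 : (golayCode : Set (GolayPt → ZMod 2)) =
      ((allCode.toFinset.image word : Finset _) : Set (GolayPt → ZMod 2)) := by
    ext w
    simp only [SetLike.mem_coe, mem_golayCode_iff, Finset.coe_image, List.coe_toFinset,
      Set.mem_image, Set.mem_ofPred_eq]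
    constructor
    · rintro ⟨c, hc, rfl⟩
      exact ⟨c, hc, rfl⟩
    · rintro ⟨c, hc, rfl⟩
      exact ⟨c, hc, rfl⟩
  have h2 : (allCode.toFinset.image word).card = 4096 := by
    rw [Finset.card_image_of_injOn, List.toFinset_card_of_nodup allCode_nodup, allCode_length]
    intro a ha c hc h
    simp only [Finset.mem_coe, List.mem_toFinset] at ha hc
    exact word_injOn (allCode_lt_aux a ha) (allCode_lt_aux c hc) h
  have h3 : Nat.card golayCode = 4096 := by
    have : Nat.card golayCode = Set.ncard (golayCode : Set (GolayPt → ZMod 2)) :=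
      Nat.card_coe_set_eq _
    rw [this, h1, Set.ncard_coe_finset, h2]
  letI : Fintype golayCode := Fintype.ofFinite _
  have h4 := Module.card_eq_pow_finrank (K := ZMod 2) (V := golayCode)
  rw [← Nat.card_eq_fintype_card, h3, ZMod.card] at h4
  have h5 : (2 : ℕ) ^ 12 = 2 ^ Module.finrank (ZMod 2) golayCode := by
    rw [← h4]; norm_num
  exact (Nat.pow_right_injective (le_refl 2) h5).symm

end CfsgLib.Golay
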