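/-
Permutations of the 24 points packed in natural numbers (5 bits per image), their action on
masks, and a check for membership in `Cfsg.M24`.
-/
import Cfsg.Agent.Lib.Golay.Code

set_option autoImplicit false

namespace CfsgLib.Golay

open Cfsg
open scoped Pointwise

/-- Image of the bit position `i` under the packed permutation `c`. -/
def pa (c i : ℕ) : ℕ := Nat.land (Nat.shiftRight c (Nat.mul 5 i)) 31

/-- The function on points given by a packed permutation. -/
def pf (c : ℕ) (q : GolayPt) : GolayPt := pt (pa c (idx q))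

/-- Image of the mask `m` (shifted by `i`), accumulating in `acc`. -/
def imgAux (c : ℕ) : ℕ → ℕ → ℕ → ℕ → ℕ
  | 0, _, _, acc => acc
  | k + 1, i, m, acc =>
    imgAux c k (Nat.succ i) (Nat.shiftRight m 1)
      (match Nat.land m 1 with
        | 0 => acc
        | _ + 1 => Nat.lor acc (Nat.shiftLeft 1 (pa c i)))

/-- Image of a mask under a packed permutation. -/
def img (c m : ℕ) : ℕ := imgAux c 24 0 m 0

theorem testBit_imgAux (c k i m acc j : ℕ) :
    (imgAux c k i m acc).testBit j = true ↔
      acc.testBit j = true ∨ ∃ t < k, (m >>> t).testBit 0 = true ∧ pa c (i + t) = j := by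
  induction k generalizing i m acc with
  | zero => simp [imgAux]
  | succ k ih =>
    simp only [imgAux]
    rw [ih]
    have hbit : ∀ n : ℕ, Nat.land n 1 = if n.testBit 0 = true then 1 else 0 := by
      intro n
      change n &&& 1 = _
      rw [Nat.and_one_is_mod]
      by_cases h : n.testBit 0 = true
      · rw [if_pos h]
        rw [Nat.testBit_zero] at h
        simpa using h
      · rw [if_neg h]
        rw [Nat.testBit_zero] at h
        simpa using h
    constructor
    · rintro (h | ⟨t, ht, h1, h2⟩)
      · split at h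
        · exact Or.inl h
        · rename_i n hn
          change (acc ||| 1 <<< pa c i).testBit j = true at h
          rw [Nat.testBit_or, Nat.one_shiftLeft, Nat.testBit_two_pow] at h
          simp only [Bool.or_eq_true, decide_eq_true_eq] at h
          rcases h with h | h
          · exact Or.inl h
          · refine Or.inr ⟨0, Nat.succ_pos _, ?_, by simpa using h⟩
            simp only [Nat.shiftRight_zero]
            by_contra hne
            have h5 := hbit m
            rw [if_neg hne] at h5
            omega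
      · refine Or.inr ⟨t + 1, by omega, ?_, ?_⟩
        · have : m >>> (t + 1) = Nat.shiftRight m 1 >>> t := by
            change _ = (m >>> 1) >>> t
            rw [Nat.add_comm, Nat.shiftRight_add]
          rw [this]; exact h1
        · rw [← h2]; congr 1; simp only [Nat.succ_eq_add_one]; omega
    · rintro (h | ⟨t, ht, h1, h2⟩)
      · refine Or.inl ?_
        split
        · exact h
        · change (acc ||| 1 <<< pa c i).testBit j = true
          rw [Nat.testBit_or, h]; rfl
      · rcases t with _ | t
        · refine Or.inl ?_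
          simp only [Nat.shiftRight_zero] at h1
          rw [hbit, if_pos h1]
          change (acc ||| 1 <<< pa c i).testBit j = true
          rw [Nat.testBit_or, Nat.one_shiftLeft, Nat.testBit_two_pow]
          simp only [Bool.or_eq_true, decide_eq_true_eq]
          exact Or.inr (by simpa using h2)
        · refine Or.inr ⟨t, by omega, ?_, ?_⟩
          · have : m >>> (t + 1) = Nat.shiftRight m 1 >>> t := by
              change _ = (m >>> 1) >>> t
              rw [Nat.add_comm, Nat.shiftRight_add]
            rw [← this]; exact h1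
          · rw [← h2]; congr 1; simp only [Nat.succ_eq_add_one]; omega

theorem testBit_img (c m j : ℕ) :
    (img c m).testBit j = true ↔ ∃ t < 24, m.testBit t = true ∧ pa c t = j := by
  unfold img
  rw [testBit_imgAux]
  simp only [Nat.zero_testBit, Bool.false_eq_true, false_or, zero_add]
  constructor
  · rintro ⟨t, ht, h1, h2⟩
    refine ⟨t, ht, ?_, h2⟩
    rw [Nat.testBit_shiftRight] at h1
    simpa using h1
  · rintro ⟨t, ht, h1, h2⟩
    refine ⟨t, ht, ?_, h2⟩
    rw [Nat.testBit_shiftRight]
    simpa using h1

/-- A packed permutation is valid if the image of the full mask is the full mask. -/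
def valid (c : ℕ) : Bool := Nat.beq (img c 0xffffff) 0xffffff

theorem testBit_full {t : ℕ} : (0xffffff : ℕ).testBit t = true ↔ t < 24 := by
  have : (0xffffff : ℕ) = 2 ^ 24 - 1 := by norm_num
  rw [this, Nat.testBit_two_pow_sub_one]
  simp

theorem valid_img_eq {c : ℕ} (h : valid c = true) : img c 0xffffff = 0xffffff :=
  Nat.eq_of_beq_eq_true h

theorem pa_lt {c : ℕ} (h : valid c = true) {t : ℕ} (ht : t < 24) : pa c t < 24 := by
  have h1 := valid_img_eq h
  have h2 : (img c 0xffffff).testBit (pa c t) = true :=
    (testBit_img c _ _).mpr ⟨t, ht, testBit_full.mpr ht, rfl⟩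
  rw [h1] at h2
  exact testBit_full.mp h2

theorem pa_surj {c : ℕ} (h : valid c = true) {j : ℕ} (hj : j < 24) : ∃ t < 24, pa c t = j := by
  have h1 := valid_img_eq h
  have h2 : (img c 0xffffff).testBit j = true := by rw [h1]; exact testBit_full.mpr hj
  obtain ⟨t, ht, -, h3⟩ := (testBit_img c _ _).mp h2
  exact ⟨t, ht, h3⟩

theorem pf_surj {c : ℕ} (h : valid c = true) : Function.Surjective (pf c) := by
  intro q
  obtain ⟨t, ht, h3⟩ := pa_surj h (idx_lt q)
  refine ⟨pt t, ?_⟩
  simp only [pf]
  rw [idx_pt ht, h3, pt_idx]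

theorem pf_bij {c : ℕ} (h : valid c = true) : Function.Bijective (pf c) :=
  ⟨Finite.injective_iff_surjective.mpr (pf_surj h), pf_surj h⟩

/-- The permutation of the points given by a packed permutation (the identity if not valid). -/
noncomputable def mk (c : ℕ) : Equiv.Perm GolayPt :=
  if h : valid c = true then Equiv.ofBijective (pf c) (pf_bij h) else 1

theorem mk_apply {c : ℕ} (h : valid c = true) (q : GolayPt) : mk c q = pf c q := by
  simp [mk, h]

theorem idx_mk {c : ℕ} (h : valid c = true) (q : GolayPt) : idx (mk c q) = pa c (idx q) := by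
  rw [mk_apply h, pf, idx_pt (pa_lt h (idx_lt q))]

theorem mk_pt {c : ℕ} (h : valid c = true) {t : ℕ} (ht : t < 24) : mk c (pt t) = pt (pa c t) := by
  rw [mk_apply h, pf, idx_pt ht]

/-- The mask of the image of a subset is the image of the mask. -/
theorem fs_img {c : ℕ} (h : valid c = true) (m : ℕ) : fs (img c m) = mk c • fs m := by
  ext q
  rw [mem_fs, testBit_img, Finset.mem_smul_finset]
  constructor
  · rintro ⟨t, ht, h1, h2⟩
    refine ⟨pt t, ?_, ?_⟩
    · rw [mem_fs, idx_pt ht]; exact h1
    · change mk c (pt t) = q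
      rw [mk_pt h ht, h2, pt_idx]
  · rintro ⟨p, hp, rfl⟩
    rw [mem_fs] at hp
    refine ⟨idx p, idx_lt p, hp, ?_⟩
    change pa c (idx p) = idx (mk c p)
    rw [idx_mk h]

theorem testBit_lt_of_lt {m j : ℕ} (hm : m < 2 ^ 24) (h : m.testBit j = true) : j < 24 := by
  by_contra hj
  have h2 : (2 : ℕ) ^ 24 ≤ 2 ^ j := Nat.pow_le_pow_right (by norm_num) (by omega)
  rw [Nat.testBit_lt_two_pow (lt_of_lt_of_le hm h2)] at h
  exact absurd h (by simp)

theorem lt_of_testBit_imp {m : ℕ} (h : ∀ j, m.testBit j = true → j < 24) : m < 2 ^ 24 := by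
  by_contra hm
  have hm0 : m ≠ 0 := by
    intro h0; subst h0; simp at hm
  have h1 := Nat.testBit_log2 hm0
  have h2 := h _ h1
  have h3 : m < 2 ^ (m.log2 + 1) := Nat.lt_log2_self
  have h4 : (2 : ℕ) ^ (m.log2 + 1) ≤ 2 ^ 24 := Nat.pow_le_pow_right (by norm_num) (by omega)
  omega

theorem img_lt {c : ℕ} (h : valid c = true) (m : ℕ) : img c m < 2 ^ 24 := by
  apply lt_of_testBit_imp
  intro j hj
  obtain ⟨t, ht, -, rfl⟩ := (testBit_img c m j).mp hj
  exact pa_lt h ht

theorem mk_smul_symmDiff (σ : Equiv.Perm GolayPt) (a b : Finset GolayPt) :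
    σ • symmDiff a b = symmDiff (σ • a) (σ • b) := by
  ext q
  simp only [← Finset.inv_smul_mem_iff, Finset.mem_symmDiff]

/-- Code words are mapped to code words if the basis is. -/
theorem smul_supports_of_basis {σ : Equiv.Perm GolayPt}
    (h : ∀ b ∈ basis, σ • fs b ∈ supports (golayCode : Set (GolayPt → ZMod 2))) {a : ℕ}
    (ha : a ∈ allCode) : σ • fs a ∈ supports (golayCode : Set (GolayPt → ZMod 2)) := by
  refine spanList_induction (B := basis)
    (Q := fun a => σ • fs a ∈ supports (golayCode : Set (GolayPt → ZMod 2))) ?_ ?_ ha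
  · rw [fs_zero, Finset.smul_finset_empty]
    have := fs_mem_supports zero_mem_allCode
    rwa [fs_zero] at this
  · intro x b hb hx
    rw [fs_xor, mk_smul_symmDiff]
    obtain ⟨u, hu, hu'⟩ := (mem_supports_iff _).mp hx
    obtain ⟨v, hv, hv'⟩ := (mem_supports_iff _).mp (h b hb)
    rw [hu', hv', ← fs_xor]
    exact fs_mem_supports (xor_mem_allCode hu hv)

theorem mem_M24_of_forall {σ : Equiv.Perm GolayPt}
    (h : ∀ s ∈ supports (golayCode : Set (GolayPt → ZMod 2)),
      σ • s ∈ supports (golayCode : Set (GolayPt → ZMod 2))) : σ ∈ M24 := by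
  rw [M24, setSystemAut, MulAction.mem_stabilizer_iff]
  set S := supports (golayCode : Set (GolayPt → ZMod 2)) with hS
  have hsub : σ • S ⊆ S := by
    rintro _ ⟨s, hs, rfl⟩
    exact h s hs
  have hfin : S.Finite := Set.toFinite _
  refine Set.eq_of_subset_of_ncard_le hsub ?_ hfin
  rw [Set.ncard_smul_set]

theorem mem_M24_of_basis {σ : Equiv.Perm GolayPt}
    (h : ∀ b ∈ basis, σ • fs b ∈ supports (golayCode : Set (GolayPt → ZMod 2))) : σ ∈ M24 := by
  apply mem_M24_of_forall
  intro s hs
  obtain ⟨c, hc, rfl⟩ := (mem_supports_iff _).mp hs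
  exact smul_supports_of_basis h hc

/-- Boolean check that a packed permutation preserves the code. -/
def isAut (c : ℕ) : Bool := valid c && basis.all fun b => isCode (img c b)

theorem isAut_valid {c : ℕ} (h : isAut c = true) : valid c = true := by
  simp only [isAut, Bool.and_eq_true] at h
  exact h.1

theorem mk_mem_M24 {c : ℕ} (h : isAut c = true) : mk c ∈ M24 := by
  simp only [isAut, Bool.and_eq_true, List.all_eq_true] at h
  apply mem_M24_of_basis
  intro b hb
  rw [← fs_img h.1]
  exact fs_mem_supports (mem_allCode_of_isCode (h.2 b hb))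

/-- Elements of `M24` preserve the code. -/
theorem M24_smul_mem {σ : Equiv.Perm GolayPt} (hσ : σ ∈ M24) {s : Finset GolayPt}
    (hs : s ∈ supports (golayCode : Set (GolayPt → ZMod 2))) :
    σ • s ∈ supports (golayCode : Set (GolayPt → ZMod 2)) := by
  rw [M24, setSystemAut, MulAction.mem_stabilizer_iff] at hσ
  rw [← hσ]
  exact Set.smul_mem_smul_set hs

theorem M24_smul_octad {σ : Equiv.Perm GolayPt} (hσ : σ ∈ M24) {s : Finset GolayPt}
    (hs : s ∈ octads) : σ • s ∈ octads := by
  obtain ⟨h1, h2⟩ := hs
  exact ⟨M24_smul_mem hσ h1, by rw [Finset.card_smul_finset]; exact h2⟩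

theorem M24_smul_dodecad {σ : Equiv.Perm GolayPt} (hσ : σ ∈ M24) {s : Finset GolayPt}
    (hs : s ∈ dodecads) : σ • s ∈ dodecads := by
  obtain ⟨h1, h2⟩ := hs
  exact ⟨M24_smul_mem hσ h1, by rw [Finset.card_smul_finset]; exact h2⟩

/-! ### Composition of packed permutations -/

/-- Packed composition: `comp a b` is `a ∘ b`. -/
def compAux (a b : ℕ) : ℕ → ℕ → ℕ → ℕ
  | 0, _, acc => acc
  | k + 1, i, acc =>
    compAux a b k (Nat.succ i) (Nat.lor acc (Nat.shiftLeft (pa a (pa b i)) (Nat.mul 5 i)))

/-- Packed composition. -/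
def comp (a b : ℕ) : ℕ := compAux a b 24 0 0

end CfsgLib.Golay
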