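/-
The octads form a Steiner system S(5, 8, 24); uniqueness of octads through five points.
-/
import Cfsg.Agent.Lib.Golay.Perm
import Cfsg.Agent.Lib.Steiner.Basic

set_option autoImplicit false

namespace CfsgLib.Golay

open Cfsg
open scoped Pointwise

theorem octad_mask_eq {a c : ℕ} (ha : a ∈ allCode) (hc : c ∈ allCode)
    (h8a : pop a = 8) (h8c : pop c = 8) (h : 5 ≤ (fs a ∩ fs c).card) : a = c := by
  have hx := xor_mem_allCode ha hc
  have hw := weight_cases _ hx
  have hcard : (fs (a ^^^ c)).card + 2 * (fs a ∩ fs c).card = (fs a).card + (fs c).card := by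
    rw [fs_xor]
    have h1 : symmDiff (fs a) (fs c) = (fs a \ fs c) ∪ (fs c \ fs a) := rfl
    rw [h1, Finset.card_union_of_disjoint (by
      rw [Finset.disjoint_left]; intro x hx1 hx2
      exact (Finset.mem_sdiff.mp hx1).2 (Finset.mem_sdiff.mp hx2).1)]
    have h2 := Finset.card_sdiff_add_card_inter (fs a) (fs c)
    have h3 := Finset.card_sdiff_add_card_inter (fs c) (fs a)
    rw [Finset.inter_comm] at h3
    omega
  rw [card_fs, card_fs, card_fs] at hcard
  have h0 : pop (a ^^^ c) = 0 := by omega
  have h1 : fs (a ^^^ c) = ∅ := by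
    rw [← Finset.card_eq_zero, card_fs]; exact h0
  have h2 : fs a = fs c := by
    rw [fs_xor] at h1
    exact (symmDiff_eq_bot.mp h1)
  exact fs_injOn_allCode ha hc h2

/-- Two octads sharing at least five points are equal. -/
theorem octad_unique {o o' : Finset GolayPt} (ho : o ∈ octads) (ho' : o' ∈ octads)
    (h : 5 ≤ (o ∩ o').card) : o = o' := by
  obtain ⟨a, ha, h8a, rfl⟩ := (mem_octads_iff o).mp ho
  obtain ⟨c, hc, h8c, rfl⟩ := (mem_octads_iff o').mp ho'
  rw [octad_mask_eq ha hc h8a h8c h]

/-- The octads form a Steiner system. -/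
theorem octads_steiner : IsSteinerSystem 5 8 octads := by
  refine CfsgLib.Steiner.steiner_of_count (fun b hb => hb.2) ?_ ?_
  · intro b hb c hc s hs hsb hsc
    apply octad_unique hb hc
    rw [← hs]
    exact Finset.card_le_card (Finset.subset_inter hsb hsc)
  · rw [octads_ncard]
    decide +kernel

end CfsgLib.Golay
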