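/-
Generic counting lemmas: orbit-stabiliser for subgroups, level lemmas, fixers of point lists.
-/
import Cfsg.Agent.Lib.Golay.Steiner

set_option autoImplicit false

namespace CfsgLib.Golay

open Cfsg
open scoped Pointwise

section generic

variable {G X : Type*} [Group G] [MulAction G X]

theorem card_inf_stabilizer_eq (K : Subgroup G) (x : X) :
    Nat.card (MulAction.stabilizer K x) = Nat.card ↥(K ⊓ MulAction.stabilizer G x) := by
  refine Nat.card_congr ?_
  refine
    { toFun := fun g => ⟨(g : K), ⟨(g : K).2, ?_⟩⟩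
      invFun := fun g => ⟨⟨g, g.2.1⟩, ?_⟩
      left_inv := fun g => rfl
      right_inv := fun g => rfl }
  · have := g.2
    rw [MulAction.mem_stabilizer_iff] at this
    exact this
  · have : (g : G) • x = x := g.2.2
    rw [MulAction.mem_stabilizer_iff]
    exact this

/-- Orbit-stabiliser for a subgroup `K` of `G` acting on a `G`-set. -/
theorem card_orbit_step (K : Subgroup G) (x : X) :
    Nat.card K = (MulAction.orbit K x).ncard * Nat.card ↥(K ⊓ MulAction.stabilizer G x) := by
  rw [← card_inf_stabilizer_eq, ← MulAction.index_stabilizer, mul_comm, Subgroup.card_mul_index]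

/-- Orbit-stabiliser with an orbit described by a set. -/
theorem card_set_step (K : Subgroup G) (x : X) (D : Set X) (h1 : ∀ g ∈ K, g • x ∈ D)
    (h2 : ∀ y ∈ D, ∃ g ∈ K, g • x = y) :
    Nat.card K = D.ncard * Nat.card ↥(K ⊓ MulAction.stabilizer G x) := by
  have : MulAction.orbit K x = D := by
    ext y
    constructor
    · rintro ⟨g, rfl⟩
      exact h1 g g.2
    · intro hy
      obtain ⟨g, hg, rfl⟩ := h2 y hy
      exact ⟨⟨g, hg⟩, rfl⟩
  rw [card_orbit_step K x, this]

end generic

/-- Elements of `K` fixing the points with index in `F`. -/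
def fixIn (K : Subgroup (Equiv.Perm GolayPt)) (F : List ℕ) : Subgroup (Equiv.Perm GolayPt) :=
  K ⊓ fixingSubgroup (Equiv.Perm GolayPt) {q : GolayPt | idx q ∈ F}

theorem mem_fixIn {K : Subgroup (Equiv.Perm GolayPt)} {F : List ℕ} {g : Equiv.Perm GolayPt} :
    g ∈ fixIn K F ↔ g ∈ K ∧ ∀ q, idx q ∈ F → g q = q := by
  simp only [fixIn, Subgroup.mem_inf, mem_fixingSubgroup_iff, Set.mem_ofPred_eq, Equiv.Perm.smul_def]

theorem fixIn_nil (K : Subgroup (Equiv.Perm GolayPt)) : fixIn K [] = K := by
  ext g
  simp [mem_fixIn]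

theorem fixIn_cons (K : Subgroup (Equiv.Perm GolayPt)) (F : List ℕ) {b : ℕ} (hb : b < 24) :
    fixIn K (b :: F) = fixIn K F ⊓ MulAction.stabilizer (Equiv.Perm GolayPt) (pt b) := by
  ext g
  simp only [Subgroup.mem_inf, mem_fixIn, MulAction.mem_stabilizer_iff, Equiv.Perm.smul_def,
    List.mem_cons]
  constructor
  · rintro ⟨h1, h2⟩
    exact ⟨⟨h1, fun q hq => h2 q (Or.inr hq)⟩, h2 _ (Or.inl (idx_pt hb))⟩
  · rintro ⟨⟨h1, h2⟩, h3⟩
    refine ⟨h1, fun q hq => ?_⟩
    rcases hq with hq | hq
    · rw [← pt_idx q, hq]; exact h3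
    · exact h2 q hq

/-- A level of a stabiliser chain: the list `L` of packed permutations lies in `K`, fixes `F` and
moves `b` onto each entry of `D`. -/
structure LevelOK (K : Subgroup (Equiv.Perm GolayPt)) (F : List ℕ) (b : ℕ) (D L : List ℕ) : Prop where
  hval : ∀ c ∈ L, CfsgLib.Golay.valid c = true
  hmem : ∀ c ∈ L, CfsgLib.Golay.mk c ∈ K
  hfix : ∀ c ∈ L, ∀ i ∈ F, pa c i = i
  hcov : ∀ y ∈ D, ∃ c ∈ L, pa c b = y

theorem LevelOK.exists_fix {K : Subgroup (Equiv.Perm GolayPt)} {F : List ℕ} {b : ℕ} {D L : List ℕ}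
    (h : LevelOK K F b D L) (hb : b < 24) {y : ℕ} (hy : y ∈ D) :
    ∃ g ∈ fixIn K F, idx (g (pt b)) = y := by
  obtain ⟨c, hc, hcy⟩ := h.hcov y hy
  have hv := h.hval c hc
  refine ⟨CfsgLib.Golay.mk c, mem_fixIn.mpr ⟨h.hmem c hc, fun q hq => ?_⟩, ?_⟩
  · apply idx_inj
    rw [idx_mk hv, h.hfix c hc _ hq]
  · rw [idx_mk hv, idx_pt hb, hcy]

/-- The count at one level. -/
theorem card_level {K : Subgroup (Equiv.Perm GolayPt)} {F : List ℕ} {b : ℕ} {D L : List ℕ}
    (h : LevelOK K F b D L) (hb : b < 24) (hnd : D.Nodup)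
    (hD : ∀ g ∈ fixIn K F, idx (g (pt b)) ∈ D) :
    Nat.card ↥(fixIn K F) = D.length * Nat.card ↥(fixIn K (b :: F)) := by
  rw [fixIn_cons K F hb]
  have hDl : ∀ y ∈ D, y < 24 := by
    intro y hy
    obtain ⟨g, -, rfl⟩ := h.exists_fix hb hy
    exact idx_lt _
  have hncard : ({q : GolayPt | idx q ∈ D} : Set GolayPt).ncard = D.length := by
    have h1 : ({q : GolayPt | idx q ∈ D} : Set GolayPt) = (↑(D.toFinset.image pt) : Set GolayPt) := by
      ext q
      simp only [Set.mem_ofPred_eq, Finset.coe_image, Set.mem_image, Finset.mem_coe, List.mem_toFinset]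
      constructor
      · intro hq
        exact ⟨_, hq, pt_idx q⟩
      · rintro ⟨y, hy, rfl⟩
        rw [idx_pt (hDl y hy)]
        exact hy
    rw [h1, Set.ncard_coe_finset, Finset.card_image_of_injOn, List.toFinset_card_of_nodup hnd]
    intro a ha c hc hac
    have ha' : a ∈ D := by simpa using ha
    have hc' : c ∈ D := by simpa using hc
    have := congrArg idx hac
    rwa [idx_pt (hDl a ha'), idx_pt (hDl c hc')] at this
  rw [← hncard]
  apply card_set_step
  · intro g hg
    exact hD g hg
  · intro q hq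
    obtain ⟨g, hg, hgq⟩ := h.exists_fix hb hq
    refine ⟨g, hg, idx_inj hgq⟩

/-- Boolean check for a level of `M24`. -/
def levelCheck (F : List ℕ) (b : ℕ) (D L : List ℕ) : Bool :=
  L.all (fun c => isAut c && F.all (fun i => Nat.beq (pa c i) i)) &&
    D.all (fun y => L.any (fun c => Nat.beq (pa c b) y))

theorem levelOK_of_check {F : List ℕ} {b : ℕ} {D L : List ℕ} (h : levelCheck F b D L = true) :
    LevelOK M24 F b D L := by
  simp only [levelCheck, Bool.and_eq_true, List.all_eq_true, List.any_eq_true] at h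
  obtain ⟨h1, h2⟩ := h
  refine ⟨fun c hc => isAut_valid (h1 c hc).1, fun c hc => mk_mem_M24 (h1 c hc).1, ?_, ?_⟩
  · intro c hc i hi
    exact Nat.eq_of_beq_eq_true ((h1 c hc).2 i hi)
  · intro y hy
    obtain ⟨c, hc, hcy⟩ := h2 y hy
    exact ⟨c, hc, Nat.eq_of_beq_eq_true hcy⟩

/-- An octad with at least five pointwise fixed points is invariant. -/
theorem M24_fix_octad {g : Equiv.Perm GolayPt} (hg : g ∈ M24) {o F : ℕ} (hc : isCode o = true)
    (h8 : pop o = 8) (hF : ∀ q ∈ fs F, g q = q) (h5 : 5 ≤ pop (o &&& F)) : g • fs o = fs o := by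
  have ho : fs o ∈ octads := (mem_octads_iff _).mpr ⟨o, mem_allCode_of_isCode hc, h8, rfl⟩
  apply octad_unique (M24_smul_octad hg ho) ho
  calc 5 ≤ pop (o &&& F) := h5
    _ = (fs (o &&& F)).card := (card_fs _).symm
    _ ≤ (g • fs o ∩ fs o).card := by
      apply Finset.card_le_card
      intro q hq
      rw [fs_land, Finset.mem_inter] at hq
      refine Finset.mem_inter.mpr ⟨?_, hq.1⟩
      rw [Finset.mem_smul_finset]
      exact ⟨q, hq.1, hF q hq.2⟩

/-- A mask is invariant if `g` preserves `fs m`: membership is preserved. -/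
theorem mem_of_smul_eq {g : Equiv.Perm GolayPt} {s : Finset GolayPt} (h : g • s = s) (q : GolayPt) :
    g q ∈ s ↔ q ∈ s := by
  conv_lhs => rw [← h]
  rw [Finset.mem_smul_finset]
  constructor
  · rintro ⟨a, ha, hae⟩
    have : a = q := g.injective hae
    rwa [← this]
  · intro hq
    exact ⟨q, hq, rfl⟩

/-- The octads of a round: each is a code word of weight 8 with ≥ 5 bits in `F`. -/
def roundOK (F : ℕ) (os : List ℕ) : Bool :=
  os.all fun o => isCode o && Nat.beq (pop o) 8 && Nat.ble 5 (pop (Nat.land o F))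

/-- `a` and `b` have the same membership in all the masks. -/
def sigEq (os : List ℕ) (a b : ℕ) : Bool :=
  os.all fun o => !(Bool.xor (Nat.testBit o a) (Nat.testBit o b))

/-- `y` is separated from the other points by the masks. -/
def sepFrom (os : List ℕ) (y : ℕ) : Bool :=
  (List.range 24).all fun z => Nat.beq z y || !sigEq os z y

/-- The points separated by the masks. -/
def sepAux (os : List ℕ) : ℕ → ℕ → ℕ
  | 0, acc => acc
  | n + 1, acc => sepAux os n (if sepFrom os n then Nat.lor acc (Nat.shiftLeft 1 n) else acc)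

theorem testBit_sepAux (os : List ℕ) (n acc i : ℕ) (h : (sepAux os n acc).testBit i = true) :
    acc.testBit i = true ∨ (i < n ∧ sepFrom os i = true) := by
  induction n generalizing acc with
  | zero => exact Or.inl h
  | succ n ih =>
    rcases ih _ h with h1 | ⟨h1, h2⟩
    · split_ifs at h1 with h3
      · change (acc ||| 1 <<< n).testBit i = true at h1
        rw [Nat.testBit_or, Nat.one_shiftLeft, Nat.testBit_two_pow] at h1
        simp only [Bool.or_eq_true, decide_eq_true_eq] at h1
        rcases h1 with h1 | h1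
        · exact Or.inl h1
        · subst h1
          exact Or.inr ⟨Nat.lt_succ_self _, h3⟩
      · exact Or.inl h1
    · exact Or.inr ⟨by omega, h2⟩

theorem sep_fixed {g : Equiv.Perm GolayPt} {os : List ℕ} (hos : ∀ o ∈ os, g • fs o = fs o)
    {i : ℕ} (hi : sepFrom os i = true) (hi24 : i < 24) : g (pt i) = pt i := by
  have h1 := List.all_eq_true.mp hi (idx (g (pt i))) (List.mem_range.mpr (idx_lt _))
  rw [Bool.or_eq_true] at h1
  rcases h1 with h1 | h1
  · have := Nat.eq_of_beq_eq_true h1
    apply idx_inj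
    rw [this, idx_pt hi24]
  · exfalso
    rw [Bool.not_eq_true', ← Bool.not_eq_true] at h1
    apply h1
    apply List.all_eq_true.mpr
    intro o ho
    have h2 := mem_of_smul_eq (hos o ho) (pt i)
    rw [mem_fs, mem_fs_pt hi24] at h2
    have h3 : Nat.testBit o (idx (g (pt i))) = Nat.testBit o i := by
      by_cases h4 : Nat.testBit o i = true
      · rw [h4]; exact h2.mpr h4
      · rw [Bool.not_eq_true] at h4
        rw [h4]
        by_contra h5
        rw [Bool.not_eq_false] at h5
        have := h2.mp h5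
        rw [h4] at this
        exact absurd this (by simp)
    rw [h3]
    cases Nat.testBit o i <;> rfl

/-- One round of refinement. -/
def roundFix (F : ℕ) (os : List ℕ) : ℕ := sepAux os 24 F

theorem roundFix_fixed {g : Equiv.Perm GolayPt} (hg : g ∈ M24) {F : ℕ} {os : List ℕ}
    (hF : ∀ q ∈ fs F, g q = q) (hos : roundOK F os = true) : ∀ q ∈ fs (roundFix F os), g q = q := by
  have hos' : ∀ o ∈ os, g • fs o = fs o := by
    intro o ho
    have := List.all_eq_true.mp hos o ho
    simp only [Bool.and_eq_true] at this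
    exact M24_fix_octad hg this.1.1 (Nat.eq_of_beq_eq_true this.1.2) hF (Nat.le_of_ble_eq_true this.2)
  intro q hq
  rw [mem_fs] at hq
  rcases testBit_sepAux os 24 F _ hq with h1 | ⟨h1, h2⟩
  · exact hF q (mem_fs.mpr h1)
  · have := sep_fixed hos' h2 h1
    rwa [pt_idx] at this

/-- Iterated rounds. -/
def runRounds : ℕ → List (List ℕ) → ℕ
  | F, [] => F
  | F, os :: r => if roundOK F os then runRounds (roundFix F os) r else F

theorem runRounds_fixed {g : Equiv.Perm GolayPt} (hg : g ∈ M24) (rs : List (List ℕ)) (F : ℕ)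
    (hF : ∀ q ∈ fs F, g q = q) : ∀ q ∈ fs (runRounds F rs), g q = q := by
  induction rs generalizing F with
  | nil => exact hF
  | cons os r ih =>
    simp only [runRounds]
    split_ifs with h
    · exact ih _ (roundFix_fixed hg hF h)
    · exact hF

/-- The fixer of `Fl` in `M24` is trivial if the rounds reach all points. -/
theorem fixIn_eq_bot_of_rounds {Fl : List ℕ} {F : ℕ} {rs : List (List ℕ)}
    (hF : ∀ i < 24, F.testBit i = true → i ∈ Fl) (h : runRounds F rs = 0xffffff) :
    fixIn M24 Fl = ⊥ := by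
  rw [eq_bot_iff]
  intro g hg
  obtain ⟨h1, h2⟩ := mem_fixIn.mp hg
  have h3 := runRounds_fixed h1 rs F (fun q hq => h2 q (hF _ (idx_lt q) (mem_fs.mp hq)))
  rw [h] at h3
  rw [Subgroup.mem_bot]
  ext1 q
  refine h3 q (mem_fs.mpr ?_)
  exact testBit_full.mpr (idx_lt q)

/-- Off-fixed-points target of a level. -/
theorem moved_of_fix {K : Subgroup (Equiv.Perm GolayPt)} {F : List ℕ} {b : ℕ} (hb : b < 24)
    (hbF : b ∉ F) {g : Equiv.Perm GolayPt} (hg : g ∈ fixIn K F) : idx (g (pt b)) ∉ F := by
  intro h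
  obtain ⟨-, h2⟩ := mem_fixIn.mp hg
  have h3 := h2 _ h
  have h4 := g.injective h3
  rw [h4, idx_pt hb] at h
  exact hbF h

/-- The target list of a level with no further constraint. -/
def offList (F : List ℕ) : List ℕ := (List.range 24).filter fun i => !(F.contains i)

theorem mem_offList {F : List ℕ} {i : ℕ} : i ∈ offList F ↔ i < 24 ∧ i ∉ F := by
  simp [offList]

theorem offList_nodup (F : List ℕ) : (offList F).Nodup := (List.nodup_range).filter _

theorem mem_offList_of_fix {K : Subgroup (Equiv.Perm GolayPt)} {F : List ℕ} {b : ℕ} (hb : b < 24)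
    (hbF : b ∉ F) {g : Equiv.Perm GolayPt} (hg : g ∈ fixIn K F) : idx (g (pt b)) ∈ offList F :=
  mem_offList.mpr ⟨idx_lt _, moved_of_fix hb hbF hg⟩

/-! ### Transitivity on tuples -/

/-- Chain condition giving transitivity on tuples with entries in `D`. -/
def ChainLv (K : Subgroup (Equiv.Perm GolayPt)) (D : Finset GolayPt) : List ℕ → List ℕ → Prop
  | _, [] => True
  | F, b :: bs => b < 24 ∧ b ∉ F ∧ pt b ∈ D ∧
      (∀ y ∈ D, idx y ∉ F → ∃ g ∈ fixIn K F, g (pt b) = y) ∧ ChainLv K D (b :: F) bs

theorem chain_tuple {K : Subgroup (Equiv.Perm GolayPt)} {D : Finset GolayPt}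
    (hKD : ∀ g ∈ K, g • D = D) (bs F : List ℕ) (hch : ChainLv K D F bs) (ys : List GolayPt)
    (hlen : ys.length = bs.length) (hnd : ys.Nodup) (hyD : ∀ y ∈ ys, y ∈ D)
    (hyF : ∀ y ∈ ys, idx y ∉ F) :
    ∃ g ∈ fixIn K F, bs.map (fun b => g (pt b)) = ys := by
  induction bs generalizing F ys with
  | nil =>
    have : ys = [] := List.length_eq_zero_iff.mp hlen
    exact ⟨1, (fixIn K F).one_mem, by simp [this]⟩
  | cons b bs ih =>
    cases ys with
    | nil => simp at hlen
    | cons y ys =>
      obtain ⟨hb, hbF, hbD, hlev, hrest⟩ := hch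
      obtain ⟨h, hh, hhy⟩ := hlev y (hyD y (by simp)) (hyF y (by simp))
      obtain ⟨hhK, hhfix⟩ := mem_fixIn.mp hh
      set ys' := ys.map (fun z => h⁻¹ z) with hys'
      have hnd' : ys.Nodup := (List.nodup_cons.mp hnd).2
      have hy_notin : y ∉ ys := (List.nodup_cons.mp hnd).1
      obtain ⟨g, hg, hgm⟩ := ih (b :: F) hrest ys' (by simp [hys']; simpa using hlen)
        (hnd'.map (Equiv.injective _))
        (by
          intro z hz
          obtain ⟨w, hw, rfl⟩ := List.mem_map.mp hz
          have h1 := mem_of_smul_eq (hKD h⁻¹ (K.inv_mem hhK)) w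
          exact h1.mpr (hyD w (List.mem_cons_of_mem _ hw)))
        (by
          intro z hz
          obtain ⟨w, hw, rfl⟩ := List.mem_map.mp hz
          have hwF := hyF w (List.mem_cons_of_mem _ hw)
          intro hmem
          rw [List.mem_cons] at hmem
          rcases hmem with h2 | h2
          · have h3 : h⁻¹ w = pt b := by
              rw [← pt_idx (h⁻¹ w), h2]
            have h4 : w = h (pt b) := by
              rw [← h3]; simp
            rw [hhy] at h4
            exact hy_notin (h4 ▸ hw)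
          · have h3 := hhfix _ h2
            have h4 : w = h⁻¹ w := by
              have h5 : h (h⁻¹ w) = w := by simp
              rw [h3] at h5
              exact h5.symm
            rw [← h4] at h2
            exact hwF h2)
      obtain ⟨hgK, hgfix⟩ := mem_fixIn.mp hg
      refine ⟨h * g, mem_fixIn.mpr ⟨K.mul_mem hhK hgK, ?_⟩, ?_⟩
      · intro q hq
        rw [Equiv.Perm.mul_apply, hgfix q (List.mem_cons_of_mem _ hq), hhfix q hq]
      · simp only [List.map_cons, Equiv.Perm.mul_apply, List.cons.injEq]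
        constructor
        · rw [hgfix (pt b) (by rw [idx_pt hb]; simp), hhy]
        · have : ys = (bs.map fun b => g (pt b)).map (fun z => h z) := by
            rw [hgm, hys', List.map_map]
            conv_lhs => rw [← List.map_id ys]
            apply List.map_congr_left
            intro a _
            simp
          rw [this, List.map_map]
          rfl

/-- Tuples from `Fin n ↪ α` as lists. -/
theorem chain_embedding {K : Subgroup (Equiv.Perm GolayPt)} {D : Finset GolayPt}
    (hKD : ∀ g ∈ K, g • D = D) (n : ℕ) (bs : Fin n → ℕ) (hch : ChainLv K D [] (List.ofFn bs))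
    (x : Fin n ↪ GolayPt) (hx : ∀ i, x i ∈ D) : ∃ g ∈ K, ∀ i, g (pt (bs i)) = x i := by
  obtain ⟨g, hg, hgm⟩ := chain_tuple hKD (List.ofFn bs) [] hch (List.ofFn x) (by simp)
    ((List.nodup_ofFn).mpr x.injective)
    (by
      intro y hy
      obtain ⟨i, rfl⟩ := (List.mem_ofFn' _ _).mp hy
      exact hx i)
    (by simp)
  refine ⟨g, (mem_fixIn.mp hg).1, ?_⟩
  rw [List.map_ofFn] at hgm
  intro i
  have := List.ofFn_injective hgm
  exact congrFun this i

end CfsgLib.Golay
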