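/-
An explicit base and strong generating set of `M24`: orders, 5-transitivity, factorisation.
-/
import Cfsg.Agent.Lib.Golay.Group

set_option autoImplicit false

namespace CfsgLib.Golay

open Cfsg
open scoped Pointwise

/-- The octad through the first five base points. -/
def octO : ℕ := 5279

/-- Transversal at level 0. -/
def T0 : List ℕ := [984818244535754528103549039458486304, 956302485175575353788796878166559809, 956709441910203461498593497208492130, 1933505755790287748113725571356963, 956085195133363055212480936219446308, 956018597979951125137170929790715941, 978766510459594708251448298497017958, 10443713537357089847957060179186823, 1891834249197906908674160663892200, 29992659629646431088977884677058249, 2201204255661424199326931316086506, 1483787914120127908665162405682571, 14325184733287029975604651230532844, 20825543731190122870294589611689645, 30596650610690344108468126695669358, 27315715882868779635779935834397199, 1596664283556254502710289548744432, 30408901076059374988283922698754289, 955976305995358692400003018625453266, 1807252737103554121653670516314707, 1750969250392003240425126190891636, 1797036017949906751834563391734261, 29911808450092068199315215539027318,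 1795248432537898728475572672376535]

/-- Orbit at level 0. -/
def D0 : List ℕ := [0, 1, 2, 3, 4, 5, 6, 7, 8, 9, 10, 11, 12, 13, 14, 15, 16, 17, 18, 19, 20, 21, 22, 23]

/-- Transversal at level 1. -/
def T1 : List ℕ := [984818244535754528103549039458486304, 969952412052033243847481939299780672, 801736695968209310670982899371682912, 977864963184960973661438897150854272, 301255527776561316142051651882671264, 935440664812414583564720990310241472, 858444893456942055157807780322189536, 425385614913381488525982453133186304, 675255177805245343848477152637997344, 154649657758130858006776100649709888, 353982086846123489134716700644717920, 147508003987829860813876548567769472, 460232447313022879253511194274382240, 381112438805152178021351489870005696, 592171239963659846039488903965672928, 612252520792668187325403059592999424, 352010848078229443892903947471521312, 974380510768821363662145534143076928, 563839676782074497992601756589369952, 684953100407655857990484306356717184, 423350601149135584404852607604538016, 809159844024436514468450911872210624, 403238485563548577249390649187805920]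

/-- Orbit at level 1. -/
def D1 : List ℕ := [1, 2, 3, 4, 5, 6, 7, 8, 9, 10, 11, 12, 13, 14, 15, 16, 17, 18, 19, 20, 21, 22, 23]

/-- Transversal at level 2. -/
def T2 : List ℕ := [984818244535754528103549039458486304, 606510420209274794826263211136289824, 692304936030835154411052581937123360, 378406002624553732251175131328091168, 473089399245406053550491629299374112, 522406074755408678778042091299871776, 137989053924096150034625052125274144, 762311402773563547831784871708140576, 710660641002337963748182633967986720, 925103009950279377860984623329258528, 185116613270098859034664591028367392, 763941085853195044874790917739525152, 236513593219670682920566941039704096, 174678928943070280325905948042705952, 143342611058286552578302844332392480, 217411601979155035886470966639576096, 861013051938128754065407778060584992, 141869528024763792229201501587229728, 144586062391583601370488516812394528, 135696069591986820555301637009789984, 191410649199761926931643002183505952, 136850899293635155361582816889887776]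

/-- Orbit at level 2. -/
def D2 : List ℕ := [2, 3, 4, 5, 6, 7, 8, 9, 10, 11, 12, 13, 14, 15, 16, 17, 18, 19, 20, 21, 22, 23]

/-- Transversal at level 3. -/
def T3 : List ℕ := [984818244535754528103549039458486304, 937560294376254693619950480927098912, 512104801692965094644019567955970080, 525283379981869658138553439406458912, 755951082605112511478297934069729312, 440863889911179120746248624021964832, 930156658651243055480868286153132064, 836191167353072944188010328765040672, 512259766833016009356084985268111392, 482202450813278892395230341028513824, 527392653172648571141204566992128032, 512077822337008412812288455132776480, 218260648055453865104381876208371744, 511670025854812918765688756575406112, 445691280842962353576954936427055136, 599083164362007124048148250773489696, 519438118686304199044237392447375392, 982972223309192050273598343822837792, 691284500317766841013342440747862048, 798531311454158673226803316163020832, 512220278170509516492379913565472800]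

/-- Orbit at level 3. -/
def D3 : List ℕ := [3, 4, 5, 6, 7, 8, 9, 10, 11, 12, 13, 14, 15, 16, 17, 18, 19, 20, 21, 22, 23]

/-- Transversal at level 4. -/
def T4 : List ℕ := [984818244535754528103549039458486304, 426318963765105611823003890902730784, 518883083974777233938794043913898016, 937906304651846736873004268195514400, 716073904417384586510962454576597024, 354552537091501601292795591693273120, 982125237077252311731715764534741024, 758250484705764392880168690322081824, 356576375949138676144150577187751968, 255895882513737669920856993573210144, 401894847446056335097298619560200224, 215655977805262399894591978666559520, 769929514001852615728013198833584160, 341868340851069704675701522821122080, 486953369505838109648964637044082720, 434461462369671746329460825232869408, 936087087280011233533252845447514144, 980224387687010295957922729495201824, 855606407013521266046970057071888416, 880272395722813194907554025955231776]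

/-- Orbit at level 4. -/
def D4 : List ℕ := [4, 5, 6, 7, 8, 9, 10, 11, 12, 13, 14, 15, 16, 17, 18, 19, 20, 21, 22, 23]

/-- Transversal at level 5. -/
def T5 : List ℕ := [984818244535754528103549039458486304, 695226755442639250267515720785037344, 935448248327800417350548951748675616]

/-- Orbit at level 5. -/
def D5 : List ℕ := [7, 10, 12]

/-- Transversal at level 6. -/
def T6 : List ℕ := [984818244535754528103549039458486304, 479663310730678034207776437455390752, 651239579074641248992907580101724192, 944319304547998642267612847938832416, 268195153026948482477577069584812064, 772944516003414818434737759861180448, 720981692062171673584743151055243296, 358662142733855540651195105552730144, 812852730107173232200347929486133280, 590072960059042287979885064796342304, 561475773312554808336860583768983584, 681942991418186671700734416290678816, 892716570080838209712931004353710112, 841384528646309054241536335100872736, 380679813245078647833929983948064800, 220213109803259289183002082616117280]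

/-- Orbit at level 6. -/
def D6 : List ℕ := [5, 6, 8, 9, 11, 13, 14, 15, 16, 17, 18, 19, 20, 21, 22, 23]


theorem level0 : LevelOK M24 [] 0 D0 T0 := levelOK_of_check (by decide +kernel)
theorem level1 : LevelOK M24 [0] 1 D1 T1 := levelOK_of_check (by decide +kernel)
theorem level2 : LevelOK M24 [1, 0] 2 D2 T2 := levelOK_of_check (by decide +kernel)
theorem level3 : LevelOK M24 [2, 1, 0] 3 D3 T3 := levelOK_of_check (by decide +kernel)
theorem level4 : LevelOK M24 [3, 2, 1, 0] 4 D4 T4 := levelOK_of_check (by decide +kernel)
theorem level5 : LevelOK M24 [4, 3, 2, 1, 0] 7 D5 T5 := levelOK_of_check (by decide +kernel)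
theorem level6 : LevelOK M24 [7, 4, 3, 2, 1, 0] 5 D6 T6 := levelOK_of_check (by decide +kernel)

theorem D0_eq : D0 = offList [] := by decide +kernel
theorem D1_eq : D1 = offList [0] := by decide +kernel
theorem D2_eq : D2 = offList [1, 0] := by decide +kernel
theorem D3_eq : D3 = offList [2, 1, 0] := by decide +kernel
theorem D4_eq : D4 = offList [3, 2, 1, 0] := by decide +kernel

theorem fixIn_bot : fixIn M24 [5, 7, 4, 3, 2, 1, 0] = ⊥ :=
  fixIn_eq_bot_of_rounds (F := 191) (rs := [[1116327, 4325622, 5279, 10558, 4726955, 1327290, 2121909, 8421811, 8536111], [8611330, 9465987, 14709264, 8484900, 8581192]])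
    (by decide +kernel) (by decide +kernel)

/-- Fixing the first five base points preserves the octad through them. -/
theorem octO_inv {g : Equiv.Perm GolayPt} (hg : g ∈ fixIn M24 [4, 3, 2, 1, 0]) : g • fs octO = fs octO := by
  obtain ⟨h1, h2⟩ := mem_fixIn.mp hg
  refine M24_fix_octad h1 (F := 31) (by decide +kernel) (by decide +kernel) ?_ (by decide +kernel)
  intro q hq
  apply h2
  have := mem_fs.mp hq
  have hl := idx_lt q
  revert this
  generalize idx q = i at hl
  revert i
  decide +kernel

theorem D5_cover : ∀ i < 24, octO.testBit i = true → i ∉ [4, 3, 2, 1, 0] → i ∈ D5 := by decide +kernel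

theorem D6_cover : ∀ i < 24, octO.testBit i = false → i ∈ D6 := by decide +kernel

/-- The order of `M24`. -/
theorem card_M24 : Nat.card M24 = 244823040 := by
  have h0 := card_level level0 (by norm_num) (by decide +kernel)
    (fun g hg => by rw [D0_eq]; exact mem_offList_of_fix (by norm_num) (by simp) hg)
  have h1 := card_level level1 (by norm_num) (by decide +kernel)
    (fun g hg => by rw [D1_eq]; exact mem_offList_of_fix (by norm_num) (by simp) hg)
  have h2 := card_level level2 (by norm_num) (by decide +kernel)
    (fun g hg => by rw [D2_eq]; exact mem_offList_of_fix (by norm_num) (by simp) hg)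
  have h3 := card_level level3 (by norm_num) (by decide +kernel)
    (fun g hg => by rw [D3_eq]; exact mem_offList_of_fix (by norm_num) (by simp) hg)
  have h4 := card_level level4 (by norm_num) (by decide +kernel)
    (fun g hg => by rw [D4_eq]; exact mem_offList_of_fix (by norm_num) (by simp) hg)
  have h5 := card_level level5 (by norm_num) (by decide +kernel)
    (fun g hg => by
      have hinv := octO_inv hg
      apply D5_cover _ (idx_lt _)
      · have h7 : pt 7 ∈ fs octO := by rw [mem_fs_pt (by norm_num)]; decide +kernel
        have := (mem_of_smul_eq hinv (pt 7)).mpr h7
        exact mem_fs.mp this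
      · exact moved_of_fix (by norm_num) (by simp) hg)
  have h6 := card_level level6 (by norm_num) (by decide +kernel)
    (fun g hg => by
      have hg' : g ∈ fixIn M24 [4, 3, 2, 1, 0] := by
        obtain ⟨h1, h2⟩ := mem_fixIn.mp hg
        exact mem_fixIn.mpr ⟨h1, fun q hq => h2 q (List.mem_cons_of_mem _ hq)⟩
      have hinv := octO_inv hg'
      apply D6_cover _ (idx_lt _)
      have h7 : pt 5 ∉ fs octO := by rw [mem_fs_pt (by norm_num)]; decide +kernel
      have := mt (mem_of_smul_eq hinv (pt 5)).mp h7
      rw [mem_fs] at this
      simpa using this)
  have hbot : Nat.card ↥(fixIn M24 [5, 7, 4, 3, 2, 1, 0]) = 1 := by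
    rw [fixIn_bot]; exact Subgroup.card_bot
  rw [fixIn_nil] at h0
  rw [h0, h1, h2, h3, h4, h5, h6, hbot]
  rfl

theorem chain_M24 : ChainLv M24 Finset.univ [] [0, 1, 2, 3, 4] := by
  have key : ∀ {F : List ℕ} {b : ℕ} {D L : List ℕ}, LevelOK M24 F b D L → D = offList F → b < 24 →
      ∀ y : GolayPt, idx y ∉ F → ∃ g ∈ fixIn M24 F, g (pt b) = y := by
    intro F b D L h hD hb y hy
    obtain ⟨g, hg, hgy⟩ := h.exists_fix hb (y := idx y) (by rw [hD]; exact mem_offList.mpr ⟨idx_lt _, hy⟩)
    exact ⟨g, hg, idx_inj hgy⟩
  refine ⟨by norm_num, by simp, Finset.mem_univ _, fun y _ => key level0 D0_eq (by norm_num) y, ?_⟩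
  refine ⟨by norm_num, by simp, Finset.mem_univ _, fun y _ => key level1 D1_eq (by norm_num) y, ?_⟩
  refine ⟨by norm_num, by simp, Finset.mem_univ _, fun y _ => key level2 D2_eq (by norm_num) y, ?_⟩
  refine ⟨by norm_num, by simp, Finset.mem_univ _, fun y _ => key level3 D3_eq (by norm_num) y, ?_⟩
  refine ⟨by norm_num, by simp, Finset.mem_univ _, fun y _ => key level4 D4_eq (by norm_num) y, trivial⟩

/-- Transitivity of `M24` on lists of `n ≤ 5` distinct points. -/
theorem M24_tuple (ys : List GolayPt) (hlen : ys.length ≤ 5) (hnd : ys.Nodup) :
    ∃ g ∈ M24, (List.range ys.length).map (fun b => g (pt b)) = ys := by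
  have hkd : ∀ g ∈ M24, g • (Finset.univ : Finset GolayPt) = Finset.univ := by
    intro g _
    ext q
    simp
  have hch : ∀ n ≤ 5, ChainLv M24 Finset.univ [] (List.range n) := by
    have h0 := chain_M24
    obtain ⟨a0, a1, a2, a3, h1⟩ := h0
    obtain ⟨b0, b1, b2, b3, h2⟩ := h1
    obtain ⟨c0, c1, c2, c3, h3⟩ := h2
    obtain ⟨d0, d1, d2, d3, h4⟩ := h3
    obtain ⟨e0, e1, e2, e3, -⟩ := h4
    intro n hn
    interval_cases n
    · trivial
    · exact ⟨a0, a1, a2, a3, trivial⟩
    · exact ⟨a0, a1, a2, a3, b0, b1, b2, b3, trivial⟩
    · exact ⟨a0, a1, a2, a3, b0, b1, b2, b3, c0, c1, c2, c3, trivial⟩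
    · exact ⟨a0, a1, a2, a3, b0, b1, b2, b3, c0, c1, c2, c3, d0, d1, d2, d3, trivial⟩
    · exact ⟨a0, a1, a2, a3, b0, b1, b2, b3, c0, c1, c2, c3, d0, d1, d2, d3, e0, e1, e2, e3, trivial⟩
  obtain ⟨g, hg, hgm⟩ := chain_tuple hkd (List.range ys.length) [] (hch _ hlen) ys (by simp) hnd
    (fun _ _ => Finset.mem_univ _) (by simp)
  exact ⟨g, (mem_fixIn.mp hg).1, hgm⟩

end CfsgLib.Golay
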