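/-
Consequences of the stabiliser chain of `M24`: transitivity on tuples, octads, stabiliser orders.
-/
import Cfsg.Agent.Lib.Golay.Chain

set_option autoImplicit false

namespace CfsgLib.Golay

open Cfsg
open scoped Pointwise

/-- Maps between lists of at most five distinct points. -/
theorem M24_map_list (xs ys : List GolayPt) (hlen : xs.length = ys.length) (h5 : xs.length ≤ 5)
    (hx : xs.Nodup) (hy : ys.Nodup) : ∃ g ∈ M24, xs.map (fun a => g a) = ys := by
  obtain ⟨g1, hg1, h1⟩ := M24_tuple xs h5 hx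
  obtain ⟨g2, hg2, h2⟩ := M24_tuple ys (by omega) hy
  refine ⟨g2 * g1⁻¹, M24.mul_mem hg2 (M24.inv_mem hg1), ?_⟩
  conv_lhs => rw [← h1]
  conv_rhs => rw [← h2, ← hlen]
  rw [List.map_map]
  apply List.map_congr_left
  intro a _
  simp

theorem M24_pt_trans (p q : GolayPt) : ∃ g ∈ M24, g p = q := by
  obtain ⟨g, hg, h⟩ := M24_map_list [p] [q] rfl (by simp) (by simp) (by simp)
  exact ⟨g, hg, by simpa using h⟩

theorem M24_pair_trans {p q p' q' : GolayPt} (h : p ≠ q) (h' : p' ≠ q') :
    ∃ g ∈ M24, g p = p' ∧ g q = q' := by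
  obtain ⟨g, hg, h1⟩ := M24_map_list [p, q] [p', q'] rfl (by simp) (by simpa using h) (by simpa using h')
  refine ⟨g, hg, ?_⟩
  simpa using h1

instance M24_mulTrans5 : MulAction.IsMultiplyPretransitive M24 GolayPt 5 := by
  refine ⟨fun x y => ?_⟩
  obtain ⟨g, hg, h⟩ := M24_map_list (List.ofFn x) (List.ofFn y) (by simp) (by simp)
    ((List.nodup_ofFn).mpr x.injective) ((List.nodup_ofFn).mpr y.injective)
  refine ⟨⟨g, hg⟩, ?_⟩
  rw [List.map_ofFn] at h
  apply DFunLike.coe_injective
  funext i
  have := List.ofFn_injective h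
  exact congrFun this i

/-- A five-subset is mapped to a given five-subset. -/
theorem M24_map_finset {s t : Finset GolayPt} (hs : s.card = t.card) (h5 : s.card ≤ 5) :
    ∃ g ∈ M24, g • s = t := by
  obtain ⟨g, hg, h⟩ := M24_map_list s.toList t.toList (by simpa using hs) (by simpa using h5)
    s.nodup_toList t.nodup_toList
  refine ⟨g, hg, ?_⟩
  ext q
  rw [Finset.mem_smul_finset, ← Finset.mem_toList (s := t), ← h, List.mem_map]
  constructor
  · rintro ⟨a, ha, rfl⟩
    exact ⟨a, Finset.mem_toList.mpr ha, rfl⟩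
  · rintro ⟨a, ha, rfl⟩
    exact ⟨a, Finset.mem_toList.mp ha, rfl⟩

/-- Transitivity on octads. -/
theorem M24_octad_trans {o o' : Finset GolayPt} (ho : o ∈ octads) (ho' : o' ∈ octads) :
    ∃ g ∈ M24, g • o = o' := by
  obtain ⟨s, hs, hsc⟩ := Finset.exists_subset_card_eq (s := o) (n := 5) (by rw [ho.2]; norm_num)
  obtain ⟨t, ht, htc⟩ := Finset.exists_subset_card_eq (s := o') (n := 5) (by rw [ho'.2]; norm_num)
  obtain ⟨g, hg, hgs⟩ := M24_map_finset (hsc.trans htc.symm) hsc.le
  refine ⟨g, hg, ?_⟩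
  apply octad_unique (M24_smul_octad hg ho) ho'
  calc 5 = t.card := htc.symm
    _ ≤ _ := by
      apply Finset.card_le_card
      intro q hq
      refine Finset.mem_inter.mpr ⟨?_, ht hq⟩
      rw [← hgs] at hq
      exact Finset.smul_finset_subset_smul_finset hs hq

theorem M24_smul_apply (g : M24) (q : GolayPt) : g • q = (g : Equiv.Perm GolayPt) q := rfl

theorem orbit_M24_pt (p : GolayPt) : MulAction.orbit M24 p = Set.univ := by
  ext q
  simp only [Set.mem_univ, iff_true]
  obtain ⟨g, hg, h⟩ := M24_pt_trans p q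
  exact ⟨⟨g, hg⟩, h⟩

/-- Order of a point stabiliser. -/
theorem card_stab_pt (p : GolayPt) : Nat.card (MulAction.stabilizer M24 p) = 10200960 := by
  have h1 := Subgroup.card_mul_index (MulAction.stabilizer M24 p)
  rw [MulAction.index_stabilizer, orbit_M24_pt, card_M24, Set.ncard_univ] at h1
  have h2 : Nat.card GolayPt = 24 := by
    rw [Nat.card_eq_fintype_card]; decide +kernel
  rw [h2] at h1
  omega

/-- Order of a two-point stabiliser. -/
theorem card_stab_pair {p q : GolayPt} (hpq : p ≠ q) :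
    Nat.card ↥(MulAction.stabilizer M24 p ⊓ MulAction.stabilizer M24 q) = 443520 := by
  have h1 := card_set_step (MulAction.stabilizer M24 p) q {y : GolayPt | y ≠ p}
    (by
      intro g hg
      intro h
      have h2 : g • p = p := hg
      apply hpq
      exact (MulAction.injective g) (h2.trans h.symm))
    (by
      intro y hy
      obtain ⟨g, hg, h1, h2⟩ := M24_pair_trans hpq (Ne.symm hy : p ≠ y)
      exact ⟨⟨g, hg⟩, h1, h2⟩)
  rw [card_stab_pt] at h1
  have h3 : ({y : GolayPt | y ≠ p} : Set GolayPt).ncard = 23 := by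
    have : ({y : GolayPt | y ≠ p} : Set GolayPt) = (↑(Finset.univ.erase p) : Set GolayPt) := by
      ext y; simp
    rw [this, Set.ncard_coe_finset, Finset.card_erase_of_mem (Finset.mem_univ _), Finset.card_univ]
    decide +kernel
  rw [h3] at h1
  omega

end CfsgLib.Golay
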