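/-
Straight-line programs of packed permutations, with membership in a subgroup.
-/
import Cfsg.Agent.Lib.Golay.Trans

set_option autoImplicit false

namespace CfsgLib.Golay

open Cfsg
open scoped Pointwise

/-- `v = a ∘ b` on the 24 points. -/
def isProd (v a b : ℕ) : Bool := (List.range 24).all fun i => Nat.beq (pa v i) (pa a (pa b i))

/-- `v ∘ a` is the identity on the 24 points. -/
def isInv (v a : ℕ) : Bool := (List.range 24).all fun i => Nat.beq (pa v (pa a i)) i

theorem mk_of_isProd {v a b : ℕ} (hv : valid v = true) (ha : valid a = true) (hb : valid b = true)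
    (h : isProd v a b = true) : mk v = mk a * mk b := by
  ext1 q
  apply idx_inj
  rw [Equiv.Perm.mul_apply, idx_mk hv, idx_mk ha, idx_mk hb]
  exact Nat.eq_of_beq_eq_true (List.all_eq_true.mp h _ (List.mem_range.mpr (idx_lt q)))

theorem mk_of_isInv {v a : ℕ} (hv : valid v = true) (ha : valid a = true)
    (h : isInv v a = true) : mk v = (mk a)⁻¹ := by
  rw [eq_inv_iff_mul_eq_one]
  ext1 q
  apply idx_inj
  rw [Equiv.Perm.mul_apply, idx_mk hv, idx_mk ha, Equiv.Perm.one_apply]
  exact Nat.eq_of_beq_eq_true (List.all_eq_true.mp h _ (List.mem_range.mpr (idx_lt q)))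

/-- Packed inverse. -/
def invAux (c : ℕ) : ℕ → ℕ → ℕ → ℕ
  | 0, _, acc => acc
  | k + 1, i, acc =>
    invAux c k (Nat.succ i) (Nat.lor acc (Nat.shiftLeft i (Nat.mul 5 (pa c i))))

/-- Packed inverse. -/
def pinv (c : ℕ) : ℕ := invAux c 24 0 0

/-- The value of an instruction (`j = 9999` means the inverse of entry `i`). -/
def slpVal (tbl : List ℕ) (i j : ℕ) : ℕ :=
  if Nat.beq j 9999 then pinv (tbl.getD i 0) else comp (tbl.getD i 0) (tbl.getD j 0)

/-- Check of an instruction. -/
def slpOK (tbl : List ℕ) (i j v : ℕ) : Bool :=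
  valid v && valid (tbl.getD i 0) &&
    if Nat.beq j 9999 then isInv v (tbl.getD i 0)
    else valid (tbl.getD j 0) && isProd v (tbl.getD i 0) (tbl.getD j 0)

/-- Running a program: the table grows at the end. -/
def slpRun : List ℕ → List (ℕ × ℕ) → Option (List ℕ)
  | tbl, [] => some tbl
  | tbl, (i, j) :: r =>
    if slpOK tbl i j (slpVal tbl i j) then slpRun (tbl ++ [slpVal tbl i j]) r else none

theorem valid_zero : valid 0 = false := by decide +kernel

theorem getD_mem_of_valid {tbl : List ℕ} {i : ℕ} (h : valid (tbl.getD i 0) = true) :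
    tbl.getD i 0 ∈ tbl := by
  rw [List.getD_eq_getElem?_getD] at h ⊢
  by_cases hi : i < tbl.length
  · rw [List.getElem?_eq_getElem hi]
    simp
  · rw [List.getElem?_eq_none (by omega)] at h
    simp only [Option.getD_none] at h
    rw [valid_zero] at h
    exact absurd h (by simp)

theorem slpRun_sound {C : Subgroup (Equiv.Perm GolayPt)} (prog : List (ℕ × ℕ)) (tbl out : List ℕ)
    (h0 : ∀ v ∈ tbl, valid v = true ∧ mk v ∈ C) (h : slpRun tbl prog = some out) :
    ∀ v ∈ out, valid v = true ∧ mk v ∈ C := by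
  induction prog generalizing tbl with
  | nil =>
    simp only [slpRun, Option.some.injEq] at h
    rw [← h]; exact h0
  | cons ins r ih =>
    obtain ⟨i, j⟩ := ins
    simp only [slpRun] at h
    split_ifs at h with hok
    refine ih _ ?_ h
    intro v hv
    rcases List.mem_append.mp hv with hv | hv
    · exact h0 v hv
    · have hv' : v = slpVal tbl i j := by simpa using hv
      subst hv'
      simp only [slpOK, Bool.and_eq_true] at hok
      obtain ⟨⟨h1, h2⟩, h3⟩ := hok
      have ha := h0 _ (getD_mem_of_valid h2)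
      refine ⟨h1, ?_⟩
      split_ifs at h3 with hj
      · rw [mk_of_isInv h1 h2 h3]
        exact C.inv_mem ha.2
      · simp only [Bool.and_eq_true] at h3
        have hb := h0 _ (getD_mem_of_valid h3.1)
        rw [mk_of_isProd h1 h2 h3.1 h3.2]
        exact C.mul_mem ha.2 hb.2

/-- The output of a program. -/
def slpOut (tbl : List ℕ) (prog : List (ℕ × ℕ)) : List ℕ := (slpRun tbl prog).getD []

theorem slpOut_sound {C : Subgroup (Equiv.Perm GolayPt)} {prog : List (ℕ × ℕ)} {tbl : List ℕ}
    (h0 : ∀ v ∈ tbl, valid v = true ∧ mk v ∈ C) :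
    ∀ v ∈ slpOut tbl prog, valid v = true ∧ mk v ∈ C := by
  unfold slpOut
  cases h : slpRun tbl prog with
  | none => simp
  | some out =>
    simp only [Option.getD_some]
    exact slpRun_sound prog tbl out h0 h

/-- Check of a level inside the output of a program. -/
def levelInOut (out : List ℕ) (F : List ℕ) (b : ℕ) (D : List ℕ) : Bool :=
  D.all fun y => out.any fun c => F.all (fun i => Nat.beq (pa c i) i) && Nat.beq (pa c b) y

theorem levelOK_of_out {C : Subgroup (Equiv.Perm GolayPt)} {out F D : List ℕ} {b : ℕ}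
    (hout : ∀ v ∈ out, valid v = true ∧ mk v ∈ C) (h : levelInOut out F b D = true) :
    LevelOK C F b D (out.filter fun c => F.all (fun i => Nat.beq (pa c i) i)) := by
  refine ⟨fun c hc => (hout c (List.mem_of_mem_filter hc)).1,
    fun c hc => (hout c (List.mem_of_mem_filter hc)).2, ?_, ?_⟩
  · intro c hc i hi
    have := (List.mem_filter.mp hc).2
    exact Nat.eq_of_beq_eq_true (List.all_eq_true.mp this i hi)
  · intro y hy
    obtain ⟨c, hc, h1⟩ := List.any_eq_true.mp (List.all_eq_true.mp h y hy)
    simp only [Bool.and_eq_true] at h1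
    exact ⟨c, List.mem_filter.mpr ⟨hc, h1.1⟩, Nat.eq_of_beq_eq_true h1.2⟩

/-- A subgroup of `M24` containing all levels of the standard chain is `M24`. -/
theorem eq_M24_of_levels {C : Subgroup (Equiv.Perm GolayPt)} (hC : C ≤ M24) {L0 L1 L2 L3 L4 L5 L6 : List ℕ}
    (l0 : LevelOK C [] 0 D0 L0) (l1 : LevelOK C [0] 1 D1 L1) (l2 : LevelOK C [1, 0] 2 D2 L2)
    (l3 : LevelOK C [2, 1, 0] 3 D3 L3) (l4 : LevelOK C [3, 2, 1, 0] 4 D4 L4)
    (l5 : LevelOK C [4, 3, 2, 1, 0] 7 D5 L5) (l6 : LevelOK C [7, 4, 3, 2, 1, 0] 5 D6 L6) : C = M24 := by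
  have hle : ∀ F, fixIn C F ≤ fixIn M24 F := fun F g hg => by
    obtain ⟨h1, h2⟩ := mem_fixIn.mp hg
    exact mem_fixIn.mpr ⟨hC h1, h2⟩
  have h0 := card_level l0 (by norm_num) (by decide +kernel)
    (fun g hg => by rw [D0_eq]; exact mem_offList_of_fix (by norm_num) (by simp) hg)
  have h1 := card_level l1 (by norm_num) (by decide +kernel)
    (fun g hg => by rw [D1_eq]; exact mem_offList_of_fix (by norm_num) (by simp) hg)
  have h2 := card_level l2 (by norm_num) (by decide +kernel)
    (fun g hg => by rw [D2_eq]; exact mem_offList_of_fix (by norm_num) (by simp) hg)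
  have h3 := card_level l3 (by norm_num) (by decide +kernel)
    (fun g hg => by rw [D3_eq]; exact mem_offList_of_fix (by norm_num) (by simp) hg)
  have h4 := card_level l4 (by norm_num) (by decide +kernel)
    (fun g hg => by rw [D4_eq]; exact mem_offList_of_fix (by norm_num) (by simp) hg)
  have h5 := card_level l5 (by norm_num) (by decide +kernel)
    (fun g hg => by
      have hinv := octO_inv (hle _ hg)
      apply D5_cover _ (idx_lt _)
      · have h7 : pt 7 ∈ fs octO := by rw [mem_fs_pt (by norm_num)]; decide +kernel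
        have := (mem_of_smul_eq hinv (pt 7)).mpr h7
        exact mem_fs.mp this
      · exact moved_of_fix (by norm_num) (by simp) hg)
  have h6 := card_level l6 (by norm_num) (by decide +kernel)
    (fun g hg => by
      have hg' : g ∈ fixIn M24 [4, 3, 2, 1, 0] := by
        obtain ⟨h1, h2⟩ := mem_fixIn.mp (hle _ hg)
        exact mem_fixIn.mpr ⟨h1, fun q hq => h2 q (List.mem_cons_of_mem _ hq)⟩
      have hinv := octO_inv hg'
      apply D6_cover _ (idx_lt _)
      have h7 : pt 5 ∉ fs octO := by rw [mem_fs_pt (by norm_num)]; decide +kernel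
      have := mt (mem_of_smul_eq hinv (pt 5)).mp h7
      rw [mem_fs] at this
      simpa using this)
  have hbot : Nat.card ↥(fixIn C [5, 7, 4, 3, 2, 1, 0]) = 1 := by
    have : fixIn C [5, 7, 4, 3, 2, 1, 0] = ⊥ := by
      rw [eq_bot_iff, ← fixIn_bot]; exact hle _
    rw [this]; exact Subgroup.card_bot
  rw [fixIn_nil] at h0
  have hcard : Nat.card C = 244823040 := by
    rw [h0, h1, h2, h3, h4, h5, h6, hbot]
    rfl
  apply Subgroup.eq_of_le_of_card_ge hC
  rw [hcard, card_M24]

end CfsgLib.Golay
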