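/-
Composition and inversion of packed permutations; factorisation of group elements along a chain.
-/
import Cfsg.Agent.Lib.Golay.Chain
import Cfsg.Agent.Lib.Golay.SLP

set_option autoImplicit false

namespace CfsgLib.Golay

open Cfsg
open scoped Pointwise

/-! ### Bits of packed permutations -/

theorem testBit_pa (c i t : ℕ) : (pa c i).testBit t = (decide (t < 5) && c.testBit (5 * i + t)) := by
  have h1 : pa c i = (c >>> (5 * i)) &&& (2 ^ 5 - 1) := rfl
  rw [h1, Nat.testBit_and, Nat.testBit_two_pow_sub_one, Nat.testBit_shiftRight]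
  cases h : decide (t < 5) <;> simp [Bool.and_comm]

theorem pa_lt_32 (c i : ℕ) : pa c i < 32 := by
  have h1 : pa c i = (c >>> (5 * i)) &&& (2 ^ 5 - 1) := rfl
  rw [h1, Nat.and_two_pow_sub_one_eq_mod]
  exact Nat.mod_lt _ (by norm_num)

theorem testBit_lt32 {v t : ℕ} (hv : v < 32) (ht : 5 ≤ t) : v.testBit t = false := by
  apply Nat.testBit_lt_two_pow
  calc v < 32 := hv
    _ = 2 ^ 5 := by norm_num
    _ ≤ 2 ^ t := Nat.pow_le_pow_right (by norm_num) ht

/-- Bits of the accumulating composition. -/
theorem testBit_compAux (a b : ℕ) (k i acc t : ℕ) :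
    (compAux a b k i acc).testBit t = true ↔
      acc.testBit t = true ∨ ∃ j, i ≤ j ∧ j < i + k ∧ 5 * j ≤ t ∧ (pa a (pa b j)).testBit (t - 5 * j) = true := by
  induction k generalizing i acc with
  | zero =>
    simp only [compAux]
    constructor
    · exact Or.inl
    · rintro (h | ⟨j, h1, h2, -⟩)
      · exact h
      · omega
  | succ k ih =>
    simp only [compAux]
    rw [ih]
    have h1 : (acc.lor ((pa a (pa b i)).shiftLeft (Nat.mul 5 i))).testBit t = true ↔
        acc.testBit t = true ∨ (5 * i ≤ t ∧ (pa a (pa b i)).testBit (t - 5 * i) = true) := by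
      change (acc ||| (pa a (pa b i)) <<< (5 * i)).testBit t = true ↔ _
      rw [Nat.testBit_or, Nat.testBit_shiftLeft]
      simp [Bool.or_eq_true, Bool.and_eq_true]
    rw [h1]
    constructor
    · rintro ((h | ⟨h2, h3⟩) | ⟨j, h2, h3, h4, h5⟩)
      · exact Or.inl h
      · exact Or.inr ⟨i, le_refl _, by omega, h2, h3⟩
      · refine Or.inr ⟨j, ?_, by omega, h4, h5⟩
        simp only [Nat.succ_eq_add_one] at h2
        omega
    · rintro (h | ⟨j, h2, h3, h4, h5⟩)
      · exact Or.inl (Or.inl h)
      · by_cases hj : j = i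
        · subst hj
          exact Or.inl (Or.inr ⟨h4, h5⟩)
        · refine Or.inr ⟨j, ?_, by simp only [Nat.succ_eq_add_one]; omega, h4, h5⟩
          simp only [Nat.succ_eq_add_one]
          omega

theorem pa_comp (a b : ℕ) {i : ℕ} (hi : i < 24) : pa (comp a b) i = pa a (pa b i) := by
  apply Nat.eq_of_testBit_eq
  intro t
  rw [testBit_pa]
  by_cases ht : t < 5
  · have h1 : ((comp a b).testBit (5 * i + t) = true) ↔ (pa a (pa b i)).testBit t = true := by
      unfold comp
      rw [testBit_compAux]
      simp only [Nat.zero_testBit, Bool.false_eq_true, false_or]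
      constructor
      · rintro ⟨j, -, h3, h4, h5⟩
        by_cases hji : j = i
        · subst hji
          simpa using h5
        · exfalso
          have hj : j < i := by
            by_contra hj
            have : i < j := by omega
            omega
          have h6 := testBit_lt32 (pa_lt_32 a (pa b j)) (by omega : 5 ≤ 5 * i + t - 5 * j)
          rw [h6] at h5
          exact absurd h5 (by simp)
      · intro h
        refine ⟨i, by omega, by omega, by omega, ?_⟩
        simpa using h
    simp only [ht, decide_true, Bool.true_and]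
    cases h2 : (comp a b).testBit (5 * i + t) <;> cases h3 : (pa a (pa b i)).testBit t <;> simp_all
  · rw [testBit_lt32 (pa_lt_32 _ _) (by omega)]
    simp [ht]

theorem valid_of_pa {c : ℕ} (h1 : ∀ i < 24, pa c i < 24) (h2 : ∀ j < 24, ∃ i < 24, pa c i = j) : valid c = true := by
  have : img c 0xffffff = 0xffffff := by
    apply Nat.eq_of_testBit_eq
    intro j
    by_cases hj : j < 24
    · rw [testBit_full.mpr hj]
      obtain ⟨i, hi, hij⟩ := h2 j hj
      exact (testBit_img _ _ _).mpr ⟨i, hi, testBit_full.mpr hi, hij⟩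
    · have h3 : (0xffffff : ℕ).testBit j = false := by
        rw [← Bool.not_eq_true, testBit_full]
        exact hj
      rw [h3, ← Bool.not_eq_true, testBit_img]
      rintro ⟨t, ht, -, rfl⟩
      exact hj (h1 t ht)
  unfold valid
  rw [this]
  rfl

theorem valid_comp {a b : ℕ} (ha : valid a = true) (hb : valid b = true) : valid (comp a b) = true := by
  apply valid_of_pa
  · intro i hi
    rw [pa_comp _ _ hi]
    exact pa_lt ha (pa_lt hb hi)
  · intro j hj
    obtain ⟨s, hs, h1⟩ := pa_surj ha hj
    obtain ⟨i, hi, h2⟩ := pa_surj hb hs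
    exact ⟨i, hi, by rw [pa_comp _ _ hi, h2, h1]⟩

theorem mk_comp {a b : ℕ} (ha : valid a = true) (hb : valid b = true) : mk (comp a b) = mk a * mk b := by
  ext1 q
  apply idx_inj
  rw [Equiv.Perm.mul_apply, idx_mk (valid_comp ha hb), idx_mk ha, idx_mk hb, pa_comp _ _ (idx_lt q)]

theorem mk_inj_of_valid {a b : ℕ} (ha : valid a = true) (hb : valid b = true) (h : mk a = mk b) :
    ∀ i < 24, pa a i = pa b i := by
  intro i hi
  have h1 := idx_mk ha (pt i)
  have h2 := idx_mk hb (pt i)
  rw [h, h2, idx_pt hi] at h1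
  exact h1.symm

/-- Equality of the coded permutations. -/
theorem mk_eq_iff {a b : ℕ} (ha : valid a = true) (hb : valid b = true) :
    mk a = mk b ↔ ∀ i < 24, pa a i = pa b i := by
  refine ⟨mk_inj_of_valid ha hb, fun h => ?_⟩
  ext1 q
  apply idx_inj
  rw [idx_mk ha, idx_mk hb, h _ (idx_lt q)]

/-- The permutation of a packed number with the points compared: packed numbers below `2 ^ 120` are equal
when they are equal at all positions. -/
def samePerm (a b : ℕ) : Bool := (List.range 24).all fun i => Nat.beq (pa a i) (pa b i)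

theorem mk_eq_of_samePerm {a b : ℕ} (ha : valid a = true) (hb : valid b = true)
    (h : samePerm a b = true) : mk a = mk b :=
  (mk_eq_iff ha hb).mpr fun i hi => Nat.eq_of_beq_eq_true (List.all_eq_true.mp h i (List.mem_range.mpr hi))

theorem mk_comp_mem {a b : ℕ} {K : Subgroup (Equiv.Perm GolayPt)} (ha : valid a = true) (hb : valid b = true)
    (h1 : mk a ∈ K) (h2 : mk b ∈ K) : mk (comp a b) ∈ K := by
  rw [mk_comp ha hb]
  exact K.mul_mem h1 h2

/-! ### The inverse -/

theorem testBit_invAux (c : ℕ) (k i acc t : ℕ) :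
    (invAux c k i acc).testBit t = true ↔
      acc.testBit t = true ∨ ∃ j, i ≤ j ∧ j < i + k ∧ 5 * pa c j ≤ t ∧ j.testBit (t - 5 * pa c j) = true := by
  induction k generalizing i acc with
  | zero =>
    simp only [invAux]
    constructor
    · exact Or.inl
    · rintro (h | ⟨j, h1, h2, -⟩)
      · exact h
      · omega
  | succ k ih =>
    simp only [invAux]
    rw [ih]
    have h1 : (acc.lor (i.shiftLeft (Nat.mul 5 (pa c i)))).testBit t = true ↔
        acc.testBit t = true ∨ (5 * pa c i ≤ t ∧ i.testBit (t - 5 * pa c i) = true) := by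
      change (acc ||| i <<< (5 * pa c i)).testBit t = true ↔ _
      rw [Nat.testBit_or, Nat.testBit_shiftLeft]
      simp [Bool.or_eq_true, Bool.and_eq_true]
    rw [h1]
    constructor
    · rintro ((h | ⟨h2, h3⟩) | ⟨j, h2, h3, h4, h5⟩)
      · exact Or.inl h
      · exact Or.inr ⟨i, le_refl _, by omega, h2, h3⟩
      · refine Or.inr ⟨j, ?_, by omega, h4, h5⟩
        simp only [Nat.succ_eq_add_one] at h2
        omega
    · rintro (h | ⟨j, h2, h3, h4, h5⟩)
      · exact Or.inl (Or.inl h)
      · by_cases hj : j = i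
        · subst hj
          exact Or.inl (Or.inr ⟨h4, h5⟩)
        · refine Or.inr ⟨j, ?_, by simp only [Nat.succ_eq_add_one]; omega, h4, h5⟩
          simp only [Nat.succ_eq_add_one]
          omega

theorem pa_inj_of_valid {c : ℕ} (h : valid c = true) {i j : ℕ} (hi : i < 24) (hj : j < 24)
    (he : pa c i = pa c j) : i = j := by
  have h1 : pf c (pt i) = pf c (pt j) := by
    simp only [pf]
    rw [idx_pt hi, idx_pt hj, he]
  have h2 := (pf_bij h).1 h1
  have h3 := congrArg idx h2
  rwa [idx_pt hi, idx_pt hj] at h3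

theorem pa_pinv {c : ℕ} (h : valid c = true) {i : ℕ} (hi : i < 24) : pa (pinv c) (pa c i) = i := by
  apply Nat.eq_of_testBit_eq
  intro t
  rw [testBit_pa]
  have hci := pa_lt h hi
  by_cases ht : t < 5
  · have h1 : ((pinv c).testBit (5 * pa c i + t) = true) ↔ i.testBit t = true := by
      unfold pinv
      rw [testBit_invAux]
      simp only [Nat.zero_testBit, Bool.false_eq_true, false_or]
      constructor
      · rintro ⟨j, -, h3, h4, h5⟩
        have hj24 : j < 24 := by omega
        have hcj := pa_lt h hj24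
        by_cases hji : pa c j = pa c i
        · have := pa_inj_of_valid h hj24 hi hji
          subst this
          rw [hji] at h5
          simpa using h5
        · exfalso
          have hlt : pa c j < pa c i := by omega
          have hj32 : j < 32 := by omega
          have h6 := testBit_lt32 hj32 (by omega : 5 ≤ 5 * pa c i + t - 5 * pa c j)
          rw [h6] at h5
          exact absurd h5 (by simp)
      · intro h2
        refine ⟨i, by omega, by omega, by omega, ?_⟩
        simpa using h2
    simp only [ht, decide_true, Bool.true_and]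
    cases h2 : (pinv c).testBit (5 * pa c i + t) <;> cases h3 : i.testBit t <;> simp_all
  · have hi32 : i < 32 := by omega
    rw [testBit_lt32 hi32 (by omega)]
    simp [ht]

theorem valid_pinv {c : ℕ} (h : valid c = true) : valid (pinv c) = true := by
  apply valid_of_pa
  · intro i hi
    obtain ⟨j, hj, rfl⟩ := pa_surj h hi
    rw [pa_pinv h hj]
    exact hj
  · intro j hj
    exact ⟨pa c j, pa_lt h hj, pa_pinv h hj⟩

theorem mk_pinv {c : ℕ} (h : valid c = true) : mk (pinv c) = (mk c)⁻¹ := by
  rw [eq_inv_iff_mul_eq_one]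
  ext1 q
  apply idx_inj
  rw [Equiv.Perm.mul_apply, idx_mk (valid_pinv h), idx_mk h, pa_pinv h (idx_lt q), Equiv.Perm.one_apply]

/-! ### Factorisation along a stabiliser chain -/

theorem LevelOK.factor {K : Subgroup (Equiv.Perm GolayPt)} {F : List ℕ} {b : ℕ} {D L : List ℕ}
    (h : LevelOK K F b D L) (hb : b < 24) (hD : ∀ g ∈ fixIn K F, idx (g (pt b)) ∈ D)
    {g : Equiv.Perm GolayPt} (hg : g ∈ fixIn K F) :
    ∃ c ∈ L, valid c = true ∧ (CfsgLib.Golay.mk c)⁻¹ * g ∈ fixIn K (b :: F) := by
  obtain ⟨c, hc, hcb⟩ := h.hcov _ (hD g hg)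
  have hv := h.hval c hc
  have hm := h.hmem c hc
  obtain ⟨hg1, hg2⟩ := mem_fixIn.mp hg
  have hfix : ∀ q : GolayPt, idx q ∈ F → CfsgLib.Golay.mk c q = q := by
    intro q hq
    apply idx_inj
    rw [idx_mk hv, h.hfix c hc _ hq]
  refine ⟨c, hc, hv, mem_fixIn.mpr ⟨K.mul_mem (K.inv_mem hm) hg1, ?_⟩⟩
  intro q hq
  rcases List.mem_cons.mp hq with hq | hq
  · have h1 : g q = CfsgLib.Golay.mk c q := by
      apply idx_inj
      have h5 : q = pt b := by rw [← pt_idx q, hq]
      rw [idx_mk hv, hq, hcb, h5]
    simp only [Equiv.Perm.mul_apply]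
    rw [h1]
    simp
  · simp only [Equiv.Perm.mul_apply]
    rw [hg2 q hq]
    rw [Equiv.Perm.inv_eq_iff_eq]
    exact (hfix q hq).symm

end CfsgLib.Golay
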