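/-
Normal forms of elements of `M24` with respect to the first five base points: conjugacy-class certificates.
-/
import Cfsg.Agent.Lib.Golay.Elems
import Cfsg.Agent.Lib.Golay.Flags
import Cfsg.Agent.Lib.Golay.FamData

set_option autoImplicit false

namespace CfsgLib.Golay

open Cfsg
open scoped Pointwise

/-- The elements fixing the first five base points. -/
def E48 : List ℕ := T5.flatMap fun a => T6.map fun b => comp a b

theorem E48_aut : ∀ c ∈ E48, isAut c = true := by decide +kernel

theorem E48_length : E48.length = 48 := by decide +kernel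

theorem E48_fix : ∀ c ∈ E48, ∀ i ∈ [0, 1, 2, 3, 4], pa c i = i := by decide +kernel

/-- Every element fixing the first five base points is in the list. -/
theorem mem_E48_of_fix {g : Equiv.Perm GolayPt} (hg : g ∈ fixIn M24 [4, 3, 2, 1, 0]) :
    ∃ c ∈ E48, g = CfsgLib.Golay.mk c := by
  have hD5 : ∀ g ∈ fixIn M24 [4, 3, 2, 1, 0], idx (g (pt 7)) ∈ D5 := by
    intro g hg
    have hinv := octO_inv hg
    apply D5_cover _ (idx_lt _)
    · have h7 : pt 7 ∈ fs octO := by rw [mem_fs_pt (by norm_num)]; decide +kernel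
      have := (mem_of_smul_eq hinv (pt 7)).mpr h7
      exact mem_fs.mp this
    · exact moved_of_fix (by norm_num) (by simp) hg
  have hD6 : ∀ g ∈ fixIn M24 [7, 4, 3, 2, 1, 0], idx (g (pt 5)) ∈ D6 := by
    intro g hg
    have hg' : g ∈ fixIn M24 [4, 3, 2, 1, 0] := by
      obtain ⟨h1, h2⟩ := mem_fixIn.mp hg
      exact mem_fixIn.mpr ⟨h1, fun q hq => h2 q (List.mem_cons_of_mem _ hq)⟩
    have hinv := octO_inv hg'
    apply D6_cover _ (idx_lt _)
    have h7 : pt 5 ∉ fs octO := by rw [mem_fs_pt (by norm_num)]; decide +kernel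
    have := mt (mem_of_smul_eq hinv (pt 5)).mp h7
    rw [mem_fs] at this
    simpa using this
  obtain ⟨a, ha, hva, h1⟩ := level5.factor (by norm_num) hD5 hg
  obtain ⟨b, hb, hvb, h2⟩ := level6.factor (by norm_num) hD6 h1
  rw [fixIn_bot, Subgroup.mem_bot] at h2
  have h3 : g = CfsgLib.Golay.mk a * CfsgLib.Golay.mk b := by
    have h4 : (CfsgLib.Golay.mk a)⁻¹ * g = CfsgLib.Golay.mk b := by
      rw [inv_mul_eq_one] at h2
      exact h2.symm
    rw [← h4]
    group
  refine ⟨comp a b, ?_, ?_⟩
  · unfold E48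
    exact List.mem_flatMap.mpr ⟨a, ha, List.mem_map.mpr ⟨b, hb, rfl⟩⟩
  · rw [mk_comp hva hvb, h3]

/-- An element of `M24` with the same values as a packed automorphism on the first five points. -/
theorem coset_form {g : Equiv.Perm GolayPt} {r : ℕ} (hg : g ∈ M24) (hr : isAut r = true)
    (h : ∀ i < 5, idx (g (pt i)) = pa r i) : ∃ c ∈ E48, g = CfsgLib.Golay.mk (comp r c) := by
  have hv := isAut_valid hr
  have hm := mk_mem_M24 hr
  have h1 : (CfsgLib.Golay.mk r)⁻¹ * g ∈ fixIn M24 [4, 3, 2, 1, 0] := by
    refine mem_fixIn.mpr ⟨M24.mul_mem (M24.inv_mem hm) hg, ?_⟩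
    intro q hq
    have hlt : idx q < 5 := by
      simp only [List.mem_cons, List.not_mem_nil, or_false] at hq
      omega
    have h2 : g q = CfsgLib.Golay.mk r q := by
      apply idx_inj
      have h5 : q = pt (idx q) := (pt_idx q).symm
      rw [idx_mk hv, ← h _ hlt, ← h5]
    simp only [Equiv.Perm.mul_apply]
    rw [h2]
    simp
  obtain ⟨c, hc, h2⟩ := mem_E48_of_fix h1
  refine ⟨c, hc, ?_⟩
  rw [mk_comp hv (isAut_valid (E48_aut c hc)), ← h2]
  group

/-! ### Chain representatives -/

/-- The first element with the prescribed value in a transversal. -/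
def findT (L : List ℕ) (b y : ℕ) : ℕ := (L.find? fun c => Nat.beq (pa c b) y).getD 0

/-- A step of the computation of a representative. -/
def repStep (L : List ℕ) (b y r : ℕ) : ℕ := comp r (findT L b (pa (pinv r) y))

/-- A representative of the coset with prescribed values on the first five base points. -/
def repL (y : List ℕ) : ℕ :=
  repStep T4 4 (y.getD 4 0) (repStep T3 3 (y.getD 3 0) (repStep T2 2 (y.getD 2 0)
    (repStep T1 1 (y.getD 1 0) (repStep T0 0 (y.getD 0 0) idP))))

/-- Is the representative correct? -/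
def repOK (y : List ℕ) : Bool :=
  isAut (repL y) && ((List.range 5).map (pa (repL y)) == y)

/-- Candidates for elements with the first five values in a list. -/
def nfCands (ys : List (List ℕ)) : List ℕ := ys.flatMap fun y => E48.map (comp (repL y))

theorem nfCands_mem {ys : List (List ℕ)} (hok : ys.all repOK = true) {x : ℕ} (hx : x ∈ nfCands ys) :
    valid x = true ∧ CfsgLib.Golay.mk x ∈ M24 := by
  obtain ⟨y, hy, hx'⟩ := List.mem_flatMap.mp hx
  obtain ⟨c, hc, rfl⟩ := List.mem_map.mp hx'
  have h1 := List.all_eq_true.mp hok y hy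
  simp only [repOK, Bool.and_eq_true] at h1
  have hc' := E48_aut c hc
  exact ⟨valid_comp (isAut_valid h1.1) (isAut_valid hc'),
    mk_comp_mem (isAut_valid h1.1) (isAut_valid hc') (mk_mem_M24 h1.1) (mk_mem_M24 hc')⟩

/-- Normal form of an element with prescribed values on the first five base points. -/
theorem mem_nfCands {ys : List (List ℕ)} (hok : ys.all repOK = true) {g : Equiv.Perm GolayPt} (hg : g ∈ M24)
    {y0 y1 y2 y3 y4 : ℕ} (hy : [y0, y1, y2, y3, y4] ∈ ys) (h0 : idx (g (pt 0)) = y0) (h1 : idx (g (pt 1)) = y1)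
    (h2 : idx (g (pt 2)) = y2) (h3 : idx (g (pt 3)) = y3) (h4 : idx (g (pt 4)) = y4) :
    ∃ x ∈ nfCands ys, g = CfsgLib.Golay.mk x := by
  have h5 := List.all_eq_true.mp hok _ hy
  simp only [repOK, Bool.and_eq_true, beq_iff_eq] at h5
  obtain ⟨h6, h7⟩ := h5
  have h8 : ∀ i < 5, idx (g (pt i)) = pa (repL [y0, y1, y2, y3, y4]) i := by
    intro i hi
    have h9 : (List.range 5).map (fun i => idx (g (pt i))) = [y0, y1, y2, y3, y4] := by
      subst h0 h1 h2 h3 h4
      rfl
    rw [← h9] at h7
    have h10 := List.map_inj_left.mp h7 i (List.mem_range.mpr hi)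
    rw [← h9]
    exact h10.symm
  obtain ⟨c, hc, h9⟩ := coset_form hg h6 h8
  exact ⟨_, List.mem_flatMap.mpr ⟨_, hy, List.mem_map.mpr ⟨c, hc, rfl⟩⟩, h9⟩

/-! ### Class certificates -/

/-- `h` conjugates `x` to `t`. -/
def conjTo (t h x : ℕ) : Bool := isAut h && samePerm (comp h x) (comp t h)

theorem conj_of_conjTo {t h x : ℕ} (ht : valid t = true) (hx : valid x = true) (hc : conjTo t h x = true) :
    ∃ k ∈ M24, k * CfsgLib.Golay.mk x * k⁻¹ = CfsgLib.Golay.mk t := by
  simp only [conjTo, Bool.and_eq_true] at hc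
  obtain ⟨h1, h2⟩ := hc
  have hv := isAut_valid h1
  refine ⟨CfsgLib.Golay.mk h, mk_mem_M24 h1, ?_⟩
  have h3 := mk_eq_of_samePerm (valid_comp hv hx) (valid_comp ht hv) h2
  rw [mk_comp hv hx, mk_comp ht hv] at h3
  rw [h3]
  group

/-- Every candidate satisfying `P` is conjugated to `t` by the corresponding element of `hs`. -/
def classCheck (P : ℕ → Bool) (t : ℕ) : List ℕ → List ℕ → Bool
  | [], _ => true
  | x :: xs, hs =>
    if P x then
      match hs with
      | [] => false
      | h :: hs' => conjTo t h x && classCheck P t xs hs'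
    else classCheck P t xs hs

theorem classCheck_sound {P : ℕ → Bool} {t : ℕ} : ∀ (xs hs : List ℕ), classCheck P t xs hs = true →
    ∀ x ∈ xs, P x = true → ∃ h, conjTo t h x = true := by
  intro xs
  induction xs with
  | nil => intro hs _ x hx; simp at hx
  | cons a r ih =>
    intro hs hc x hx hP
    rcases List.mem_cons.mp hx with rfl | hx'
    · simp only [classCheck, hP, if_true] at hc
      cases hs with
      | nil => simp at hc
      | cons h hs' =>
        simp only [Bool.and_eq_true] at hc
        exact ⟨h, hc.1⟩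
    · simp only [classCheck] at hc
      by_cases hPa : P a = true
      · simp only [hPa, if_true] at hc
        cases hs with
        | nil => simp at hc
        | cons h hs' =>
          simp only [Bool.and_eq_true] at hc
          exact ih hs' hc.2 x hx' hP
      · simp only [hPa] at hc
        exact ih hs hc x hx' hP

/-- The master theorem for classes. -/
theorem class_conj {P : ℕ → Bool} {t : ℕ} {ys : List (List ℕ)} {hs : List ℕ} (ht : valid t = true)
    (hok : ys.all repOK = true) (hc : classCheck P t (nfCands ys) hs = true)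
    {g : Equiv.Perm GolayPt} (hg : g ∈ M24)
    {y0 y1 y2 y3 y4 : ℕ} (hy : [y0, y1, y2, y3, y4] ∈ ys) (h0 : idx (g (pt 0)) = y0) (h1 : idx (g (pt 1)) = y1)
    (h2 : idx (g (pt 2)) = y2) (h3 : idx (g (pt 3)) = y3) (h4 : idx (g (pt 4)) = y4)
    (hP : ∀ x, valid x = true → g = CfsgLib.Golay.mk x → P x = true) :
    ∃ k ∈ M24, k * g * k⁻¹ = CfsgLib.Golay.mk t := by
  obtain ⟨x, hx, rfl⟩ := mem_nfCands hok hg hy h0 h1 h2 h3 h4
  obtain ⟨h, hh⟩ := classCheck_sound _ _ hc x hx (hP x (nfCands_mem hok hx).1 rfl)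
  exact conj_of_conjTo ht (nfCands_mem hok hx).1 hh

/-- `x ^ 2 = 1` for packed permutations. -/
def isPow2 (x : ℕ) : Bool := samePerm (comp x x) idP

/-- `x ^ 3 = 1` for packed permutations. -/
def isPow3 (x : ℕ) : Bool := samePerm (comp x (comp x x)) idP

theorem valid_idP : valid idP = true := by decide +kernel

theorem samePerm_of_mk_eq {a b : ℕ} (ha : valid a = true) (hb : valid b = true)
    (h : CfsgLib.Golay.mk a = CfsgLib.Golay.mk b) : samePerm a b = true := by
  have h1 := (mk_eq_iff ha hb).mp h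
  unfold samePerm
  apply List.all_eq_true.mpr
  intro i hi
  rw [h1 i (List.mem_range.mp hi)]
  exact Nat.beq_refl _

theorem isPow2_of {x : ℕ} (hx : valid x = true) (h : CfsgLib.Golay.mk x ^ 2 = 1) : isPow2 x = true := by
  apply samePerm_of_mk_eq (valid_comp hx hx) valid_idP
  rw [mk_comp hx hx, mk_idP, ← pow_two, h]

theorem isPow3_of {x : ℕ} (hx : valid x = true) (h : CfsgLib.Golay.mk x ^ 3 = 1) : isPow3 x = true := by
  apply samePerm_of_mk_eq (valid_comp hx (valid_comp hx hx)) valid_idP
  rw [mk_comp hx (valid_comp hx hx), mk_comp hx hx, mk_idP, ← h, pow_three]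

/-! ### Five points -/

theorem exists_conj_five {a b c d e : GolayPt} (hnd : [a, b, c, d, e].Nodup) :
    ∃ k ∈ M24, k a = pt 0 ∧ k b = pt 1 ∧ k c = pt 2 ∧ k d = pt 3 ∧ k e = pt 4 := by
  obtain ⟨g, hg, h⟩ := M24_tuple [a, b, c, d, e] (by simp) hnd
  simp only [List.length_cons, List.length_nil] at h
  have h' : [g (pt 0), g (pt 1), g (pt 2), g (pt 3), g (pt 4)] = [a, b, c, d, e] := h
  simp only [List.cons.injEq, and_true] at h'
  obtain ⟨rfl, rfl, rfl, rfl, rfl⟩ := h'
  exact ⟨g⁻¹, M24.inv_mem hg, by simp, by simp, by simp, by simp, by simp⟩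

theorem conj_pt (k g : Equiv.Perm GolayPt) {a b : GolayPt} {p q : GolayPt} (h1 : k a = p) (h2 : g a = b)
    (h3 : k b = q) : (k * g * k⁻¹) p = q := by
  rw [← h1, conj_apply, h2, h3]

/-! ### Fixed points -/

/-- The mask of the fixed points among the first `n` points. -/
def fixM (c : ℕ) : ℕ → ℕ
  | 0 => 0
  | n + 1 => if Nat.beq (pa c n) n then Nat.lor (fixM c n) (Nat.shiftLeft 1 n) else fixM c n

theorem testBit_fixM (c n i : ℕ) : (fixM c n).testBit i = true ↔ i < n ∧ pa c i = i := by
  induction n with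
  | zero => simp [fixM]
  | succ n ih =>
    simp only [fixM]
    have h1 : ∀ m : ℕ, (Nat.lor m (Nat.shiftLeft 1 n)).testBit i = true ↔ m.testBit i = true ∨ i = n := by
      intro m
      change (m ||| 1 <<< n).testBit i = true ↔ _
      rw [Nat.testBit_or, Bool.or_eq_true, Nat.testBit_shiftLeft]
      have : (decide (i ≥ n) && Nat.testBit 1 (i - n)) = true ↔ i = n := by
        simp only [Bool.and_eq_true, decide_eq_true_eq, Nat.testBit_one_eq_true_iff_self_eq_zero]
        omega
      rw [this]
    by_cases h : pa c n = n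
    · have h2 : Nat.beq (pa c n) n = true := by rw [h]; exact Nat.beq_refl n
      rw [if_pos h2, h1, ih]
      constructor
      · rintro (⟨h3, h4⟩ | rfl)
        · exact ⟨by omega, h4⟩
        · exact ⟨by omega, h⟩
      · rintro ⟨h3, h4⟩
        by_cases hin : i = n
        · exact Or.inr hin
        · exact Or.inl ⟨by omega, h4⟩
    · have h2 : ¬ Nat.beq (pa c n) n = true := fun h3 => h (Nat.eq_of_beq_eq_true h3)
      rw [if_neg h2, ih]
      constructor
      · rintro ⟨h3, h4⟩
        exact ⟨by omega, h4⟩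
      · rintro ⟨h3, h4⟩
        refine ⟨?_, h4⟩
        by_contra h5
        have : i = n := by omega
        subst this
        exact h h4

/-- The set of fixed points of a coded permutation. -/
theorem fix_eq_fs {c : ℕ} (hv : valid c = true) :
    (Finset.univ.filter fun p => CfsgLib.Golay.mk c p = p) = fs (fixM c 24) := by
  ext q
  simp only [Finset.mem_filter, Finset.mem_univ, true_and]
  rw [mem_fs, testBit_fixM]
  constructor
  · intro h
    refine ⟨idx_lt q, ?_⟩
    rw [← idx_mk hv, h]
  · rintro ⟨-, h⟩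
    apply idx_inj
    rw [idx_mk hv, h]

theorem card_fix_mk {c : ℕ} (hv : valid c = true) :
    (Finset.univ.filter fun p => CfsgLib.Golay.mk c p = p).card = pop (fixM c 24) := by
  rw [fix_eq_fs hv, card_fs]

theorem card_fix_conj (k g : Equiv.Perm GolayPt) :
    (Finset.univ.filter fun p => (k * g * k⁻¹) p = p).card = (Finset.univ.filter fun p => g p = p).card := by
  symm
  apply Finset.card_equiv k
  intro p
  simp only [Finset.mem_filter, Finset.mem_univ, true_and]
  rw [conj_apply]
  exact k.injective.eq_iff.symm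

/-- The fixed point structure of the elements fixing the first five base points. -/
theorem E48_fixcount : ∀ c ∈ E48, samePerm c idP = true ∨ pop (fixM c 24) ≤ 8 := by decide +kernel

theorem nodup_five_of_card {s : Finset GolayPt} (h : 5 ≤ s.card) :
    ∃ a b c d e : GolayPt, [a, b, c, d, e].Nodup ∧ ∀ x ∈ [a, b, c, d, e], x ∈ s := by
  obtain ⟨t, hts, ht⟩ := Finset.exists_subset_card_eq h
  have hl : t.toList.length = 5 := by rw [Finset.length_toList, ht]
  have hnd := t.nodup_toList
  have hmem : ∀ x ∈ t.toList, x ∈ s := fun x hx => hts (Finset.mem_toList.mp hx)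
  match hh : t.toList, hl with
  | [a, b, c, d, e], _ =>
    rw [hh] at hnd hmem
    exact ⟨a, b, c, d, e, hnd, hmem⟩

/-- A non-identity element of `M24` fixes at most eight points. -/
theorem fix_le_eight {g : Equiv.Perm GolayPt} (hg : g ∈ M24) (h1 : g ≠ 1) :
    (Finset.univ.filter fun p => g p = p).card ≤ 8 := by
  by_contra hlt
  have h5 : 5 ≤ (Finset.univ.filter fun p => g p = p).card := by omega
  obtain ⟨a, b, c, d, e, hnd, hm⟩ := nodup_five_of_card h5
  simp only [List.mem_cons, List.not_mem_nil, or_false, forall_eq_or_imp, forall_eq, Finset.mem_filter,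
    Finset.mem_univ, true_and] at hm
  obtain ⟨ha, hb, hc, hd, he⟩ := hm
  obtain ⟨k, hk, h0, h2, h3, h4, h6⟩ := exists_conj_five hnd
  have hfix : k * g * k⁻¹ ∈ fixIn M24 [4, 3, 2, 1, 0] := by
    refine mem_fixIn.mpr ⟨conj_mem hk hg, ?_⟩
    intro q hq
    have h7 : q = pt (idx q) := (pt_idx q).symm
    simp only [List.mem_cons, List.not_mem_nil, or_false] at hq
    rcases hq with hq | hq | hq | hq | hq <;> rw [hq] at h7 <;> rw [h7]
    · exact conj_pt k g h6 he h6
    · exact conj_pt k g h4 hd h4
    · exact conj_pt k g h3 hc h3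
    · exact conj_pt k g h2 hb h2
    · exact conj_pt k g h0 ha h0
  obtain ⟨x, hx, hxe⟩ := mem_E48_of_fix hfix
  have hvx := isAut_valid (E48_aut x hx)
  rcases E48_fixcount x hx with h7 | h7
  · have h8 := mk_eq_of_samePerm hvx valid_idP h7
    rw [mk_idP] at h8
    rw [h8] at hxe
    apply h1
    have : k⁻¹ * (k * g * k⁻¹) * k = k⁻¹ * 1 * k := by rw [hxe]
    simpa [mul_assoc] using this
  · apply hlt
    rw [← card_fix_conj k g, hxe, card_fix_mk hvx]
    exact h7

/-- A non-identity element of `M24` moves at least sixteen points. -/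
theorem moved_ge {g : Equiv.Perm GolayPt} (hg : g ∈ M24) (h1 : g ≠ 1) :
    16 ≤ (Finset.univ.filter fun p => g p ≠ p).card := by
  have h2 := fix_le_eight hg h1
  have h3 := Finset.card_filter_add_card_filter_not (s := (Finset.univ : Finset GolayPt)) (fun p => g p = p)
  have h4 : (Finset.univ : Finset GolayPt).card = 24 := by
    rw [Finset.card_univ]
    simp [GolayPt, Fintype.card_option]
  simp only [ne_eq]
  omega

/-- A moved point outside a small set. -/
theorem exists_moved_off {g : Equiv.Perm GolayPt} (hg : g ∈ M24) (h1 : g ≠ 1) (s : Finset GolayPt)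
    (hs : s.card < 16) : ∃ p, g p ≠ p ∧ p ∉ s := by
  have h2 := moved_ge hg h1
  obtain ⟨p, hp, hps⟩ := Finset.exists_mem_notMem_of_card_lt_card (by omega : s.card < (Finset.univ.filter fun p => g p ≠ p).card)
  exact ⟨p, (Finset.mem_filter.mp hp).2, hps⟩

/-- A point outside a small set. -/
theorem exists_off (s : Finset GolayPt) (hs : s.card < 24) : ∃ p, p ∉ s := by
  have h4 : (Finset.univ : Finset GolayPt).card = 24 := by
    rw [Finset.card_univ]
    simp [GolayPt, Fintype.card_option]
  obtain ⟨p, -, hps⟩ := Finset.exists_mem_notMem_of_card_lt_card (by omega : s.card < (Finset.univ : Finset GolayPt).card)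
  exact ⟨p, hps⟩

end CfsgLib.Golay
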