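/-
Certificates for the classes of involutions and elements of order three of `M24`.
-/
import Cfsg.Agent.Lib.Golay.Class

set_option autoImplicit false

namespace CfsgLib.Golay

open Cfsg
open scoped Pointwise

/-- Representative, class 2A. -/
def t2A : ℕ := 974338656214362718975024378963690560

/-- Conjugators, class 2A. -/
def hs2A : List ℕ := [984818244535754528103549039458486304, 93925464068077277127671015746883255, 62641645199042427077363991809668279, 844053094063424990405189384537280631]

/-- Representative, class 2B. -/
def t2B : ℕ := 509592002419337094491636749927779329

/-- Conjugators, class 2B. -/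
def hs2B : List ℕ := [984818244535754528103549039458486304, 358768857962259515249359526297700353, 552557926226968637744180337058718103, 789374201036853029794090645514901911, 958761519132983482344721392347949294, 730940437384111553148238437326440903, 956706726742475603613657583350028566, 393465023254853140546941875360550944, 776705257017238663859527443645023639, 354673874916879061808687069649767456, 271354635124731530830201198337532271, 957317557550276540132208065652069474, 833372786068919505015496324843919048, 679443912050727844699445147395524609, 765200449239293838026445532945354819, 984493369334060478447889424982281248, 275865769929115768199453215550585199, 91394690592589849190758335655750229, 975674024500711835457321361786640517, 525366906811039574343806214798936401, 23914309450051116226632599635473096, 5970962897987584695067389319388908, 293589199199057021295042991224237768, 941357395521310041935053324428028652, 975349743655643039120589804554898565, 791469557760553260407271379630867144, 24965653924477727649151873650679275, 837363816310175685337925596045880558, 17137027586834038746697499798750805, 213130240936586862798170840390675863, 5974564347951132572993829264104855, 108246874141967975589254959981842565,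 434110196621769279363921580955818475, 973660927046330421231220155334608525, 762194588300075533196941190039806700, 393603203125711755910135715065337888, 674655590945444085399369701701814273, 878400152250966690935544873710148975, 132985080668210425281577168528497161, 44847422877452053565885124575608244, 895329460175826987319405411978387620, 274236607867892329112340559969103255, 751846154745109188340365489314513303, 556521019405130613721539103362679496, 15621598362253633846365126156295332, 632549180386008839792450952518589472, 956709441910203461498593497208492130, 721822677111459223524674442233468115, 671687594832237343330521022776821172, 604908511880082617023451390354858732, 692795662118342822827721755509948970, 217602491042456024852734134953728748, 877961243058235647248799079874986262, 768721958128426898188950439045696645, 101436661176996588360190705390933270, 60342866332707175327733542876129894, 972952539307749635189087956092038176, 725731656470033036368526875754737942, 543209305261116374368994060680776705, 309642212201997192411553341152794625, 265619925769283287892017043685748266, 424114640866158487305945941728727476, 30321708947090691069745703380226326, 601712706642259462575343033035817171,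 510281977248701695742156133998035541, 881580056111901035864727119850790600]

/-- Representative, class 3A. -/
def t3A : ℕ := 677174180368596449181142026466397248

/-- Conjugators, class 3A. -/
def hs3A : List ℕ := [984818244535754528103549039458486304, 914505371131056432411525316566196402, 64110616051424157826426312744846068, 168776879003100158207873197697912372, 841523098076651204063156548702550411, 767286249581377726216629173070649547, 481634581512878747485193651811139029, 189861579507859881237638230776158517, 801656047042196824156373532695236884, 630066289329301682223107044873541931, 595984956041268479905718616652568768, 440291153663007997642494932007785613, 22192285795743502578504337202516237, 144958711161088601414422074801898738, 963996387425330953160005380686990901, 570019984652161363165375665270935093, 264171164231789711480253642146463189, 850387600895437458148964494003749611, 978319118252309809405833519373431264, 419567003881042677764404076751600021, 958778224082427440105520013547573524, 305310520881266317367099473118184173, 61739799107565180449772495777702069, 556374599857752518214904381311573323, 774084838237301394261273369042540736, 153503194925716691650516461723174130, 818319769158332717320299183595390059,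 973680130043751604878651637223693938, 10690993049077831354938674837339602, 177407002974178190541225070404360404, 920397456259948683800411383138762176, 957585125678483164519938135213851890, 196902075811886964926010479705797108, 148312194172873864966368763254955349, 881841620046089439438094063886345920, 45922763258909415341423824415658240, 846767827004449768805871727627474048, 692024614968088487660697850655002144, 517511448123887045730769189653976203, 850621730765610793968114674028349490, 296747725318457121461009187002682445, 941600911825669129151802474383394016, 526476250250752360384181402756426253, 969764133470702128941897929851607341, 984672958158114521287530841990798955, 561241154831567836108505256543031572, 465421367489280889417067340131111168, 931512418882766673831744190989503570, 418726781778680918766888307567081877, 876583569876908030101585110599582955, 982967258623310984680851125376964813, 382062828552304008827592586733143285, 306808880722889967023534498988245748, 970328976917084595726250811814258386, 854263803804966925138724782160163296, 836751698788145288111536649279735840, 361290093994134663817833179716820576, 932851889556439074207687598849298688, 554648735665099435449656987497891892,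 233674263771688765666563001420142805, 1682850289876094699607256192917682, 130185626677889797282498109795414509, 973174710121196115316355571997803637, 151471591597999417952776976410817013, 956285564915162967255194036752391797, 558661949631822538516660132076834357, 404366164291834910992393406081278112, 895187719988704950989424820928066027, 378213238721385003162576016363696626, 83572603143238964639610254157759213, 680315832040355684510330916441368267, 588758682526864143882642290313856109]

/-- Representative, class 3B. -/
def t3B : ℕ := 506722709837012669353567500534677569

/-- Conjugators, class 3B. -/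
def hs3B : List ℕ := [984818244535754528103549039458486304, 261627416110051793989172715140976741, 972876580985834619574089616508158978, 443237329373327401681371112203653221, 269395489477074498903067845788196460, 19684132528030754347755783357510387, 716158698053846626611923986825938976, 844344536744989507314704977704918578, 18950256190170688412407203579025670, 956095683599601389995306228578429385, 926987828007195281765476299558329906, 474554292171075641487124315837225222, 109411149041655540056779266933235250, 636897698986728902347349324522360933, 461036032369230675170119276810194327, 255854367414879065309463164397209841, 707946338741966802096045231685739854, 424858219568267742631040085548078211, 25414316406058054223782363121490632, 791243584375173157699380951643594966, 937220260741264647531704588727071475, 818072413187448434163633743920802249, 44426813517843650974819935560682903, 562085964377671195703606250485426633, 425409977818898952670156475320193397, 554672102344775510698833213627375830, 812763741287061561285340808101255430, 318641256308035769060866858657290952, 776910476146906889381183704362520677, 101303374956911562880760826672418917, 710371380820970143893895438096807439, 593512370891862450949687514866876481,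 925715260195795957952509007145389463, 513537242278846123803422198005571122, 315904988695959158937497071659391688, 1483691036400658773357479500161238, 640449654910227015599360798987080053, 527678821723776654782315629107420722, 797440411843473189201851467262570164, 445990486165409617239952101547221206, 113812817848430743507079893206026481, 980581340467571551857744457492831794, 797749004944591909596018972545001929, 45849959779053297691121942701161904, 967821334148134094295294309336290435, 126308045044616629985117530016076149, 889974038477838059829818099291765034, 426467664268174140560493244064240771]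

/-- Fixed-point-free? -/
def isFpf (x : ℕ) : Bool := Nat.beq (fixM x 24) 0

theorem t2A_valid : valid t2A = true := by decide +kernel
theorem t2B_valid : valid t2B = true := by decide +kernel
theorem t3A_valid : valid t3A = true := by decide +kernel
theorem t3B_valid : valid t3B = true := by decide +kernel

theorem t2A_aut : isAut t2A = true := by decide +kernel
theorem t2B_aut : isAut t2B = true := by decide +kernel
theorem t3A_aut : isAut t3A = true := by decide +kernel
theorem t3B_aut : isAut t3B = true := by decide +kernel

/-- The tails for the last normal-form value. -/
def tails (p : ℕ → List ℕ) : List (List ℕ) := (List.range' 5 19).map p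

theorem mem_tails (p : ℕ → List ℕ) {z : ℕ} (h1 : z ≠ 0) (h2 : z ≠ 1) (h3 : z ≠ 2) (h4 : z ≠ 3) (h5 : z ≠ 4)
    (h6 : z < 24) : p z ∈ tails p := by
  refine List.mem_map.mpr ⟨z, List.mem_range'.mpr ⟨z - 5, by omega, by omega⟩, rfl⟩

theorem conj_idx (k g : Equiv.Perm GolayPt) {a b : GolayPt} {i j : ℕ} (hj : j < 24) (h1 : k a = pt i)
    (h2 : g a = b) (h3 : k b = pt j) : idx ((k * g * k⁻¹) (pt i)) = j := by
  rw [conj_pt k g h1 h2 h3, idx_pt hj]

theorem conj_idx' (k g : Equiv.Perm GolayPt) {a : GolayPt} {i : ℕ} (h1 : k a = pt i) :
    idx ((k * g * k⁻¹) (pt i)) = idx (k (g a)) := by
  rw [conj_pt k g h1 rfl rfl]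

theorem idx_ne_of (k : Equiv.Perm GolayPt) {w x : GolayPt} {i : ℕ} (h : k x = pt i) (hne : w ≠ x) :
    idx (k w) ≠ i := by
  intro h1
  apply hne
  apply k.injective
  rw [h, ← h1, pt_idx]

/-- Composition of conjugations. -/
theorem conj_trans {g t : Equiv.Perm GolayPt} {k : Equiv.Perm GolayPt} (hk : k ∈ M24)
    (h : ∃ k' ∈ M24, k' * (k * g * k⁻¹) * k'⁻¹ = t) : ∃ u ∈ M24, u * g * u⁻¹ = t := by
  obtain ⟨k', hk', h1⟩ := h
  refine ⟨k' * k, M24.mul_mem hk' hk, ?_⟩
  rw [← h1]
  group

theorem mk_pow_of_conj {g k : Equiv.Perm GolayPt} {n : ℕ} (h : g ^ n = 1) {x : ℕ}
    (hx : k * g * k⁻¹ = CfsgLib.Golay.mk x) : CfsgLib.Golay.mk x ^ n = 1 := by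
  rw [← hx, conj_pow, h]
  group

theorem fpf_of_conj {g k : Equiv.Perm GolayPt} (h : ∀ p, g p ≠ p) {x : ℕ} (hv : valid x = true)
    (hx : k * g * k⁻¹ = CfsgLib.Golay.mk x) : isFpf x = true := by
  have h1 : fixM x 24 = 0 := by
    apply Nat.eq_of_testBit_eq
    intro i
    rw [Nat.zero_testBit]
    cases h2 : (fixM x 24).testBit i with
    | false => rfl
    | true =>
      exfalso
      obtain ⟨h3, h4⟩ := (testBit_fixM x 24 i).mp h2
      have h5 : CfsgLib.Golay.mk x (pt i) = pt i := by
        apply idx_inj
        rw [idx_mk hv, idx_pt h3, h4]
      rw [← hx, Equiv.Perm.mul_apply, Equiv.Perm.mul_apply] at h5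
      apply h (k⁻¹ (pt i))
      apply k.injective
      simpa using h5
  unfold isFpf
  rw [h1]
  rfl

theorem conj_2A {g : Equiv.Perm GolayPt} (hg : g ∈ M24) (h2 : g ^ 2 = 1) (h1 : g ≠ 1) {a : GolayPt}
    (ha : g a = a) : ∃ k ∈ M24, k * g * k⁻¹ = CfsgLib.Golay.mk t2A := by
  classical
  obtain ⟨b, hb, -⟩ := exists_moved_off hg h1 ∅ (by simp)
  obtain ⟨c, hc, hcs⟩ := exists_moved_off hg h1 {b, g b} (by
    exact lt_of_le_of_lt (Finset.card_le_two) (by norm_num))
  simp only [Finset.mem_insert, Finset.mem_singleton, not_or] at hcs
  have hgg : ∀ x, g (g x) = x := by
    intro x
    rw [← Equiv.Perm.mul_apply, ← pow_two, h2]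
    rfl
  have hnd : [a, b, g b, c, g c].Nodup := by
    simp only [List.nodup_cons, List.mem_cons, List.not_mem_nil, or_false, not_or, List.nodup_nil, and_true,
      not_false_eq_true]
    grind
  obtain ⟨k, hk, h0, h3, h4, h5, h6⟩ := exists_conj_five hnd
  apply conj_trans hk
  exact class_conj (P := isPow2) (ys := [[0, 2, 1, 4, 3]]) (hs := hs2A) t2A_valid (by decide +kernel)
    (by decide +kernel) (conj_mem hk hg) (List.mem_singleton.mpr rfl)
    (conj_idx k g (by norm_num) h0 ha h0) (conj_idx k g (by norm_num) h3 rfl h4)
    (conj_idx k g (by norm_num) h4 (hgg b) h3) (conj_idx k g (by norm_num) h5 rfl h6)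
    (conj_idx k g (by norm_num) h6 (hgg c) h5)
    (fun x hx he => isPow2_of hx (mk_pow_of_conj h2 he))

theorem conj_2B {g : Equiv.Perm GolayPt} (hg : g ∈ M24) (h2 : g ^ 2 = 1) (h0 : ∀ p, g p ≠ p) :
    ∃ k ∈ M24, k * g * k⁻¹ = CfsgLib.Golay.mk t2B := by
  classical
  have hgg : ∀ x, g (g x) = x := by
    intro x
    rw [← Equiv.Perm.mul_apply, ← pow_two, h2]
    rfl
  obtain ⟨a⟩ : Nonempty GolayPt := ⟨pt 0⟩
  obtain ⟨c, hcs⟩ := exists_off {a, g a} (lt_of_le_of_lt Finset.card_le_two (by norm_num))
  simp only [Finset.mem_insert, Finset.mem_singleton, not_or] at hcs
  obtain ⟨e, hes⟩ := exists_off {a, g a, c, g c} (lt_of_le_of_lt Finset.card_le_four (by norm_num))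
  simp only [Finset.mem_insert, Finset.mem_singleton, not_or] at hes
  have hnd : [a, g a, c, g c, e].Nodup := by
    simp only [List.nodup_cons, List.mem_cons, List.not_mem_nil, or_false, not_or, List.nodup_nil, and_true,
      not_false_eq_true]
    grind
  obtain ⟨k, hk, h3, h4, h5, h6, h7⟩ := exists_conj_five hnd
  have hz : [1, 0, 3, 2, idx (k (g e))] ∈ tails (fun z => [1, 0, 3, 2, z]) := by
    apply mem_tails (fun z => [1, 0, 3, 2, z])
    · exact idx_ne_of k h3 (by grind)
    · exact idx_ne_of k h4 (by grind)
    · exact idx_ne_of k h5 (by grind)
    · exact idx_ne_of k h6 (by grind)
    · exact idx_ne_of k h7 (h0 e)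
    · exact idx_lt _
  apply conj_trans hk
  exact class_conj (P := fun x => isPow2 x && isFpf x) (hs := hs2B) t2B_valid (by decide +kernel)
    (by decide +kernel) (conj_mem hk hg) hz
    (conj_idx k g (by norm_num) h3 rfl h4) (conj_idx k g (by norm_num) h4 (hgg a) h3)
    (conj_idx k g (by norm_num) h5 rfl h6) (conj_idx k g (by norm_num) h6 (hgg c) h5)
    (conj_idx' k g h7)
    (fun x hx he => by
      simp only [Bool.and_eq_true]
      exact ⟨isPow2_of hx (mk_pow_of_conj h2 he), fpf_of_conj h0 hx he⟩)

theorem conj_3A {g : Equiv.Perm GolayPt} (hg : g ∈ M24) (h2 : g ^ 3 = 1) (h1 : g ≠ 1) {a : GolayPt}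
    (ha : g a = a) : ∃ k ∈ M24, k * g * k⁻¹ = CfsgLib.Golay.mk t3A := by
  classical
  have hggg : ∀ x, g (g (g x)) = x := by
    intro x
    rw [← Equiv.Perm.mul_apply, ← Equiv.Perm.mul_apply, ← pow_three', h2]
    rfl
  obtain ⟨b, hb, -⟩ := exists_moved_off hg h1 ∅ (by simp)
  obtain ⟨e, he, hes⟩ := exists_moved_off hg h1 {b, g b, g (g b)} (by
    exact lt_of_le_of_lt Finset.card_le_three (by norm_num))
  simp only [Finset.mem_insert, Finset.mem_singleton, not_or] at hes
  have hnd : [a, b, g b, g (g b), e].Nodup := by
    simp only [List.nodup_cons, List.mem_cons, List.not_mem_nil, or_false, not_or, List.nodup_nil, and_true,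
      not_false_eq_true]
    grind
  obtain ⟨k, hk, h0, h3, h4, h5, h6⟩ := exists_conj_five hnd
  have hz : [0, 2, 3, 1, idx (k (g e))] ∈ tails (fun z => [0, 2, 3, 1, z]) := by
    apply mem_tails (fun z => [0, 2, 3, 1, z])
    · exact idx_ne_of k h0 (by grind)
    · exact idx_ne_of k h3 (by grind)
    · exact idx_ne_of k h4 (by grind)
    · exact idx_ne_of k h5 (by grind)
    · exact idx_ne_of k h6 he
    · exact idx_lt _
  apply conj_trans hk
  exact class_conj (P := isPow3) (hs := hs3A) t3A_valid (by decide +kernel)
    (by decide +kernel) (conj_mem hk hg) hz
    (conj_idx k g (by norm_num) h0 ha h0) (conj_idx k g (by norm_num) h3 rfl h4)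
    (conj_idx k g (by norm_num) h4 rfl h5) (conj_idx k g (by norm_num) h5 (hggg b) h3)
    (conj_idx' k g h6)
    (fun x hx he => isPow3_of hx (mk_pow_of_conj h2 he))

theorem conj_3B {g : Equiv.Perm GolayPt} (hg : g ∈ M24) (h2 : g ^ 3 = 1) (h0 : ∀ p, g p ≠ p) :
    ∃ k ∈ M24, k * g * k⁻¹ = CfsgLib.Golay.mk t3B := by
  classical
  have hggg : ∀ x, g (g (g x)) = x := by
    intro x
    rw [← Equiv.Perm.mul_apply, ← Equiv.Perm.mul_apply, ← pow_three', h2]
    rfl
  obtain ⟨a⟩ : Nonempty GolayPt := ⟨pt 0⟩
  obtain ⟨d, hds⟩ := exists_off {a, g a, g (g a)} (lt_of_le_of_lt Finset.card_le_three (by norm_num))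
  simp only [Finset.mem_insert, Finset.mem_singleton, not_or] at hds
  have hnd : [a, g a, g (g a), d, g d].Nodup := by
    simp only [List.nodup_cons, List.mem_cons, List.not_mem_nil, or_false, not_or, List.nodup_nil, and_true,
      not_false_eq_true]
    grind
  obtain ⟨k, hk, h3, h4, h5, h6, h7⟩ := exists_conj_five hnd
  have hz : [1, 2, 0, 4, idx (k (g (g d)))] ∈ tails (fun z => [1, 2, 0, 4, z]) := by
    apply mem_tails (fun z => [1, 2, 0, 4, z])
    · exact idx_ne_of k h3 (by grind)
    · exact idx_ne_of k h4 (by grind)
    · exact idx_ne_of k h5 (by grind)
    · exact idx_ne_of k h6 (by grind)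
    · exact idx_ne_of k h7 (h0 (g d))
    · exact idx_lt _
  apply conj_trans hk
  exact class_conj (P := fun x => isPow3 x && isFpf x) (hs := hs3B) t3B_valid (by decide +kernel)
    (by decide +kernel) (conj_mem hk hg) hz
    (conj_idx k g (by norm_num) h3 rfl h4) (conj_idx k g (by norm_num) h4 rfl h5)
    (conj_idx k g (by norm_num) h5 (hggg a) h3) (conj_idx k g (by norm_num) h6 rfl h7)
    (conj_idx' k g h7)
    (fun x hx he => by
      simp only [Bool.and_eq_true]
      exact ⟨isPow3_of hx (mk_pow_of_conj h2 he), fpf_of_conj h0 hx he⟩)

end CfsgLib.Golay
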