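/-
Counting the invariant octads, dodecads, sextets and trios of coded permutations.
-/
import Cfsg.Agent.Lib.Golay.ClassCert
import Cfsg.Agent.Lib.Golay.Dodecad2

set_option autoImplicit false

namespace CfsgLib.Golay

open Cfsg
open scoped Pointwise

theorem ncard_fixed_conj {Y : Type*} [MulAction (Equiv.Perm GolayPt) Y] (O : Set Y)
    {k : Equiv.Perm GolayPt} (g : Equiv.Perm GolayPt) (hk : ∀ y ∈ O, k • y ∈ O) (hk' : ∀ y ∈ O, k⁻¹ • y ∈ O) :
    {y | y ∈ O ∧ (k * g * k⁻¹) • y = y}.ncard = {y | y ∈ O ∧ g • y = y}.ncard := by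
  have h1 : {y | y ∈ O ∧ (k * g * k⁻¹) • y = y} = (fun y => k • y) '' {y | y ∈ O ∧ g • y = y} := by
    ext y
    simp only [Set.mem_ofPred_eq, Set.mem_image]
    constructor
    · rintro ⟨h2, h3⟩
      refine ⟨k⁻¹ • y, ⟨hk' y h2, ?_⟩, by simp⟩
      rw [mul_smul, mul_smul] at h3
      rw [eq_inv_smul_iff]
      exact h3
    · rintro ⟨x, ⟨h2, h3⟩, rfl⟩
      refine ⟨hk x h2, ?_⟩
      rw [mul_smul, mul_smul, inv_smul_smul, h3]
  rw [h1]
  exact Set.ncard_image_of_injective _ (MulAction.injective k)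

theorem ncard_fix_list {l : List ℕ} (hl : ∀ c ∈ l, c < 2 ^ 24) (hn : l.Nodup) {O : Set (Finset GolayPt)}
    (hO : O = {s | ∃ c ∈ l, s = fs c}) {c : ℕ} (hv : valid c = true) :
    {o | o ∈ O ∧ CfsgLib.Golay.mk c • o = o}.ncard = (l.filter fun a => Nat.beq (img c a) a).length := by
  rw [← ncard_filter_list hl hn (fun o => CfsgLib.Golay.mk c • o = o) (fun a => Nat.beq (img c a) a)]
  · rw [hO]
    rfl
  · intro a ha
    rw [← fs_img hv]
    constructor
    · intro h
      rw [eq_of_fs_eq (img_lt hv a) (hl a ha) h]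
      exact Nat.beq_refl a
    · intro h
      rw [Nat.eq_of_beq_eq_true h]

theorem octads_eq_list : octads = {s | ∃ c ∈ octadList, s = fs c} := by
  ext s
  simp only [Set.mem_ofPred_eq]
  rw [mem_octads_iff']
  constructor
  · intro h
    exact ⟨_, h, (fs_mask s).symm⟩
  · rintro ⟨c, hc, rfl⟩
    rw [mask_fs (allCode_lt_aux c (mem_octadList.mp hc).1)]
    exact hc

theorem dodecads_eq_list : dodecads = {s | ∃ c ∈ dodecadList, s = fs c} := by
  ext s
  simp only [Set.mem_ofPred_eq]
  rw [mem_dodecads_iff]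
  constructor
  · rintro ⟨c, hc, h, rfl⟩
    exact ⟨c, mem_dodecadList.mpr ⟨hc, h⟩, rfl⟩
  · rintro ⟨c, hc, rfl⟩
    exact ⟨c, (mem_dodecadList.mp hc).1, (mem_dodecadList.mp hc).2, rfl⟩

theorem ncard_fix_octads {c : ℕ} (hv : valid c = true) :
    {o | o ∈ octads ∧ CfsgLib.Golay.mk c • o = o}.ncard = (octadList.filter fun a => Nat.beq (img c a) a).length :=
  ncard_fix_list (fun a ha => allCode_lt_aux a (mem_octadList.mp ha).1) octadList_nodup octads_eq_list hv

theorem ncard_fix_dodecads {c : ℕ} (hv : valid c = true) :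
    {o | o ∈ dodecads ∧ CfsgLib.Golay.mk c • o = o}.ncard = (dodecadList.filter fun a => Nat.beq (img c a) a).length :=
  ncard_fix_list (fun a ha => allCode_lt_aux a (mem_dodecadList.mp ha).1) dodecadList_nodup dodecads_eq_list hv

/-- Is the family with a given key invariant? -/
def keyFix (n c k : ℕ) : Bool := (unp n k).all fun a => (unp n k).contains (img c a)

theorem keyFix_iff {n c k : ℕ} (hv : valid c = true) :
    CfsgLib.Golay.mk c • famDec n k = famDec n k ↔ keyFix n c k = true := by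
  classical
  unfold keyFix
  rw [List.all_eq_true]
  constructor
  · intro h a ha
    have h1 : fs a ∈ famDec n k := mem_famDec.mpr ⟨a, ha, rfl⟩
    have h2 : CfsgLib.Golay.mk c • fs a ∈ CfsgLib.Golay.mk c • famDec n k := Finset.smul_mem_smul_finset h1
    rw [h, ← fs_img hv, mem_famDec] at h2
    obtain ⟨b, hb, h3⟩ := h2
    rw [eq_of_fs_eq (unp_lt _ _ b hb) (img_lt hv a) h3] at hb
    simpa using hb
  · intro h
    apply Finset.eq_of_subset_of_card_le
    · intro y hy
      obtain ⟨x, hx, rfl⟩ := Finset.mem_smul_finset.mp hy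
      obtain ⟨a, ha, rfl⟩ := mem_famDec.mp hx
      have h2 := h a ha
      apply mem_famDec.mpr
      refine ⟨img c a, by simpa using h2, ?_⟩
      exact fs_img hv a
    · rw [Finset.card_smul_finset]

theorem ncard_famDec_filter {n : ℕ} {keys : List ℕ} (h : keysOK n keys = true) (p : ℕ → Bool) :
    ({y | ∃ k ∈ keys.filter p, y = famDec n k} : Set (Finset (Finset GolayPt))).ncard = (keys.filter p).length := by
  have h1 := ncard_tab (Y := Finset (Finset GolayPt)) (dec := famDec n) (tab := (keys.filter p).map (fun k => (k, 0)))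
    (by
      intro e he e' he' h2
      obtain ⟨k, hk, rfl⟩ := List.mem_map.mp he
      obtain ⟨k', hk', rfl⟩ := List.mem_map.mp he'
      exact famDec_inj (keysOK_famOK h (List.mem_of_mem_filter hk)) (keysOK_famOK h (List.mem_of_mem_filter hk')) h2)
    (by
      have : ((keys.filter p).map (fun k => (k, 0))).map Prod.fst = keys.filter p := by
        simp [List.map_map, Function.comp_def]
      rw [this]
      exact (keysOK_nodup h).filter _)
  rw [List.length_map] at h1
  rw [← h1]
  congr 1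
  ext y
  simp

theorem ncard_fix_keys {n : ℕ} {keys : List ℕ} (h : keysOK n keys = true) {O : Set (Finset (Finset GolayPt))}
    (hO : O = {y | ∃ k ∈ keys, y = famDec n k}) {c : ℕ} (hv : valid c = true) :
    {y | y ∈ O ∧ CfsgLib.Golay.mk c • y = y}.ncard = (keys.filter (keyFix n c)).length := by
  rw [← ncard_famDec_filter h]
  congr 1
  ext y
  rw [hO]
  simp only [Set.mem_ofPred_eq, List.mem_filter]
  constructor
  · rintro ⟨⟨k, hk, rfl⟩, h1⟩
    exact ⟨k, ⟨hk, (keyFix_iff hv).mp h1⟩, rfl⟩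
  · rintro ⟨k, ⟨hk, h1⟩, rfl⟩
    exact ⟨⟨k, hk, rfl⟩, (keyFix_iff hv).mpr h1⟩

theorem ncard_fix_sextets {c : ℕ} (hv : valid c = true) :
    {y | y ∈ sextets ∧ CfsgLib.Golay.mk c • y = y}.ncard = (sextKeys.filter (keyFix 6 c)).length :=
  ncard_fix_keys sextKeys_ok sextets_eq hv

theorem ncard_fix_trios {c : ℕ} (hv : valid c = true) :
    {y | y ∈ trios ∧ CfsgLib.Golay.mk c • y = y}.ncard = (trioKeys.filter (keyFix 3 c)).length :=
  ncard_fix_keys trioKeys_ok trios_eq hv

/-- Invariance of `octads`, for both an element and its inverse. -/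
theorem octads_smul_of_mem {k : Equiv.Perm GolayPt} (hk : k ∈ M24) : ∀ y ∈ octads, k • y ∈ octads :=
  fun _ hy => M24_smul_octad hk hy

theorem conj_ncard_octads {k g : Equiv.Perm GolayPt} (hk : k ∈ M24) :
    {y | y ∈ octads ∧ (k * g * k⁻¹) • y = y}.ncard = {y | y ∈ octads ∧ g • y = y}.ncard :=
  ncard_fixed_conj _ g (fun _ hy => M24_smul_octad hk hy) (fun _ hy => M24_smul_octad (M24.inv_mem hk) hy)

theorem conj_ncard_sextets {k g : Equiv.Perm GolayPt} (hk : k ∈ M24) :
    {y | y ∈ sextets ∧ (k * g * k⁻¹) • y = y}.ncard = {y | y ∈ sextets ∧ g • y = y}.ncard :=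
  ncard_fixed_conj _ g (fun _ hy => M24_smul_sextet hk hy) (fun _ hy => M24_smul_sextet (M24.inv_mem hk) hy)

theorem conj_ncard_trios {k g : Equiv.Perm GolayPt} (hk : k ∈ M24) :
    {y | y ∈ trios ∧ (k * g * k⁻¹) • y = y}.ncard = {y | y ∈ trios ∧ g • y = y}.ncard :=
  ncard_fixed_conj _ g (fun _ hy => M24_smul_trio hk hy) (fun _ hy => M24_smul_trio (M24.inv_mem hk) hy)

theorem conj_ncard_dodecads {k g : Equiv.Perm GolayPt} (hk : k ∈ M24) :
    {y | y ∈ dodecads ∧ (k * g * k⁻¹) • y = y}.ncard = {y | y ∈ dodecads ∧ g • y = y}.ncard :=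
  ncard_fixed_conj _ g (fun _ hy => M24_smul_dodecad hk hy) (fun _ hy => M24_smul_dodecad (M24.inv_mem hk) hy)

/-- Counts for the four classes. -/
theorem count_2A : (octadList.filter fun a => Nat.beq (img t2A a) a).length = 71 ∧
    (trioKeys.filter (keyFix 3 t2A)).length = 99 ∧ (sextKeys.filter (keyFix 6 t2A)).length = 91 := by
  decide +kernel

theorem count_2B : (octadList.filter fun a => Nat.beq (img t2B a) a).length = 15 ∧
    (trioKeys.filter (keyFix 3 t2B)).length = 75 ∧ (sextKeys.filter (keyFix 6 t2B)).length = 51 := by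
  decide +kernel

theorem count_3A : (octadList.filter fun a => Nat.beq (img t3A a) a).length = 21 ∧
    (trioKeys.filter (keyFix 3 t3A)).length = 15 ∧ (sextKeys.filter (keyFix 6 t3A)).length = 16 ∧
    (dodecadList.filter fun a => Nat.beq (img t3A a) a).length = 20 := by
  decide +kernel

theorem count_3B : (sextKeys.filter (keyFix 6 t3B)).length = 7 ∧
    (trioKeys.filter (keyFix 3 t3B)).length = 15 := by
  decide +kernel

end CfsgLib.Golay
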