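/-
Consequences of the class certificates of `M24`.
-/
import Cfsg.Agent.Lib.Golay.ClassFix

set_option autoImplicit false

namespace CfsgLib.Golay

open Cfsg
open scoped Pointwise

theorem mk_pow2_of {x : ℕ} (hx : valid x = true) (h : isPow2 x = true) : CfsgLib.Golay.mk x ^ 2 = 1 := by
  have h1 := mk_eq_of_samePerm (valid_comp hx hx) valid_idP h
  rw [mk_comp hx hx, mk_idP] at h1
  rw [pow_two, h1]

theorem mk_pow3_of {x : ℕ} (hx : valid x = true) (h : isPow3 x = true) : CfsgLib.Golay.mk x ^ 3 = 1 := by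
  have h1 := mk_eq_of_samePerm (valid_comp hx (valid_comp hx hx)) valid_idP h
  rw [mk_comp hx (valid_comp hx hx), mk_comp hx hx, mk_idP] at h1
  rw [pow_three, h1]

theorem mk_ne_one {x : ℕ} (hx : valid x = true) (h : samePerm x idP = false) : CfsgLib.Golay.mk x ≠ 1 := by
  intro h1
  rw [← mk_idP] at h1
  rw [samePerm_of_mk_eq hx valid_idP h1] at h
  exact absurd h (by simp)

/-- The fixed points under a conjugate. -/
theorem fix_conj_set (k g : Equiv.Perm GolayPt) :
    (Finset.univ.filter fun p => (k * g * k⁻¹) p = p) = k • (Finset.univ.filter fun p => g p = p) := by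
  ext q
  simp only [Finset.mem_filter, Finset.mem_univ, true_and, Finset.mem_smul_finset, Equiv.Perm.smul_def]
  constructor
  · intro h
    refine ⟨k⁻¹ q, ?_, by simp⟩
    apply k.injective
    simpa using h
  · rintro ⟨p, hp, rfl⟩
    rw [conj_apply, hp]

theorem orderOf_two {g : Equiv.Perm GolayPt} (h : orderOf g = 2) : g ^ 2 = 1 := by
  rw [← h]; exact pow_orderOf_eq_one g

theorem orderOf_three {g : Equiv.Perm GolayPt} (h : orderOf g = 3) : g ^ 3 = 1 := by
  rw [← h]; exact pow_orderOf_eq_one g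

theorem ne_one_of_order {g : Equiv.Perm GolayPt} {n : ℕ} (hn : n ≠ 1) (h : orderOf g = n) : g ≠ 1 := by
  rintro rfl
  rw [orderOf_one] at h
  exact hn h.symm

theorem conj_eq_of_two {g h t : Equiv.Perm GolayPt} (h1 : ∃ k ∈ M24, k * g * k⁻¹ = t) (h2 : ∃ k ∈ M24, k * h * k⁻¹ = t) :
    ∃ k ∈ M24, k * g * k⁻¹ = h := by
  obtain ⟨k1, hk1, e1⟩ := h1
  obtain ⟨k2, hk2, e2⟩ := h2
  refine ⟨k2⁻¹ * k1, M24.mul_mem (M24.inv_mem hk2) hk1, ?_⟩
  have : k1 * g * k1⁻¹ = k2 * h * k2⁻¹ := by rw [e1, e2]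
  calc k2⁻¹ * k1 * g * (k2⁻¹ * k1)⁻¹ = k2⁻¹ * (k1 * g * k1⁻¹) * k2 := by group
    _ = h := by rw [this]; group

theorem mk_t2A_ord : orderOf (CfsgLib.Golay.mk t2A) = 2 :=
  orderOf_eq_prime (mk_pow2_of t2A_valid (by decide +kernel)) (mk_ne_one t2A_valid (by decide +kernel))

theorem mk_t2B_ord : orderOf (CfsgLib.Golay.mk t2B) = 2 :=
  orderOf_eq_prime (mk_pow2_of t2B_valid (by decide +kernel)) (mk_ne_one t2B_valid (by decide +kernel))

theorem mk_t3A_ord : orderOf (CfsgLib.Golay.mk t3A) = 3 :=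
  orderOf_eq_prime (mk_pow3_of t3A_valid (by decide +kernel)) (mk_ne_one t3A_valid (by decide +kernel))

theorem mk_t3B_ord : orderOf (CfsgLib.Golay.mk t3B) = 3 :=
  orderOf_eq_prime (mk_pow3_of t3B_valid (by decide +kernel)) (mk_ne_one t3B_valid (by decide +kernel))

theorem fix_t2A_mem : (Finset.univ.filter fun p => CfsgLib.Golay.mk t2A p = p) ∈ octads := by
  rw [fix_eq_fs t2A_valid, mem_octads_iff]
  exact ⟨_, by decide +kernel, by decide +kernel, rfl⟩

theorem fix_t2A_card : (Finset.univ.filter fun p => CfsgLib.Golay.mk t2A p = p).card = 8 := by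
  rw [card_fix_mk t2A_valid]; decide +kernel

theorem fix_t2B_card : (Finset.univ.filter fun p => CfsgLib.Golay.mk t2B p = p).card = 0 := by
  rw [card_fix_mk t2B_valid]; decide +kernel

theorem fix_t3A_card : (Finset.univ.filter fun p => CfsgLib.Golay.mk t3A p = p).card = 6 := by
  rw [card_fix_mk t3A_valid]; decide +kernel

theorem fix_t3B_card : (Finset.univ.filter fun p => CfsgLib.Golay.mk t3B p = p).card = 0 := by
  rw [card_fix_mk t3B_valid]; decide +kernel

theorem fpf_of_card_zero {g : Equiv.Perm GolayPt} (h : (Finset.univ.filter fun p => g p = p).card = 0) :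
    ∀ p, g p ≠ p := by
  intro p hp
  have : p ∈ Finset.univ.filter fun p => g p = p := by simp [hp]
  rw [Finset.card_eq_zero.mp h] at this
  simp at this

theorem card_zero_of_fpf {g : Equiv.Perm GolayPt} (h : ∀ p, g p ≠ p) :
    (Finset.univ.filter fun p => g p = p).card = 0 := by
  rw [Finset.card_eq_zero, Finset.filter_eq_empty_iff]
  intro p _
  exact h p

theorem exists_fix_of_card {g : Equiv.Perm GolayPt} (h : (Finset.univ.filter fun p => g p = p).card ≠ 0) :
    ∃ a, g a = a := by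
  by_contra hn
  simp only [not_exists] at hn
  exact h (card_zero_of_fpf hn)

/-- Dichotomy for involutions. -/
theorem invol_cases {g : Equiv.Perm GolayPt} (hg : g ∈ M24) (h : orderOf g = 2) :
    (∃ k ∈ M24, k * g * k⁻¹ = CfsgLib.Golay.mk t2A) ∨ ((∃ k ∈ M24, k * g * k⁻¹ = CfsgLib.Golay.mk t2B) ∧ ∀ p, g p ≠ p) := by
  by_cases h1 : ∃ a, g a = a
  · obtain ⟨a, ha⟩ := h1
    exact Or.inl (conj_2A hg (orderOf_two h) (ne_one_of_order (by norm_num) h) ha)
  · simp only [not_exists] at h1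
    exact Or.inr ⟨conj_2B hg (orderOf_two h) h1, h1⟩

/-- Dichotomy for elements of order three. -/
theorem ord3_cases {g : Equiv.Perm GolayPt} (hg : g ∈ M24) (h : orderOf g = 3) :
    (∃ k ∈ M24, k * g * k⁻¹ = CfsgLib.Golay.mk t3A) ∨ ((∃ k ∈ M24, k * g * k⁻¹ = CfsgLib.Golay.mk t3B) ∧ ∀ p, g p ≠ p) := by
  by_cases h1 : ∃ a, g a = a
  · obtain ⟨a, ha⟩ := h1
    exact Or.inl (conj_3A hg (orderOf_three h) (ne_one_of_order (by norm_num) h) ha)
  · simp only [not_exists] at h1
    exact Or.inr ⟨conj_3B hg (orderOf_three h) h1, h1⟩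

theorem card_fix_of_conj {g t : Equiv.Perm GolayPt} (h : ∃ k ∈ M24, k * g * k⁻¹ = t) :
    (Finset.univ.filter fun p => g p = p).card = (Finset.univ.filter fun p => t p = p).card := by
  obtain ⟨k, -, rfl⟩ := h
  exact (card_fix_conj k g).symm

theorem fix_octad_of_conj {g k : Equiv.Perm GolayPt} (hk : k ∈ M24)
    (h : (Finset.univ.filter fun p => (k * g * k⁻¹) p = p) ∈ octads) :
    (Finset.univ.filter fun p => g p = p) ∈ octads := by
  have h3 := M24_smul_octad (M24.inv_mem hk) h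
  rw [fix_conj_set] at h3
  have h4 : k⁻¹ • k • (Finset.univ.filter fun p => g p = p) = (Finset.univ.filter fun p => g p = p) :=
    inv_smul_smul k _
  rwa [h4] at h3

end CfsgLib.Golay
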