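/-
The stabiliser of a pair of complementary dodecads is maximal.
-/
import Cfsg.Agent.Lib.Golay.OctadOrbit

set_option autoImplicit false

namespace CfsgLib.Golay

open Cfsg
open scoped Pointwise

theorem compl_smul (g : Equiv.Perm GolayPt) (a : Finset GolayPt) : g • aᶜ = (g • a)ᶜ := by
  ext q
  rw [Finset.mem_smul_finset, Finset.mem_compl, Finset.mem_smul_finset]
  constructor
  · rintro ⟨b, hb, rfl⟩ ⟨c, hc, h⟩
    rw [Finset.mem_compl] at hb
    have : c = b := MulAction.injective g h
    exact hb (this ▸ hc)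
  · intro h
    refine ⟨g⁻¹ • q, ?_, smul_inv_smul _ _⟩
    rw [Finset.mem_compl]
    intro h2
    exact h ⟨_, h2, smul_inv_smul _ _⟩

theorem pair_smul (g : Equiv.Perm GolayPt) (a b : Finset GolayPt) :
    g • ({a, b} : Finset (Finset GolayPt)) = {g • a, g • b} := by
  ext x
  rw [Finset.mem_smul_finset]
  simp only [Finset.mem_insert, Finset.mem_singleton]
  constructor
  · rintro ⟨c, (rfl | rfl), rfl⟩
    · exact Or.inl rfl
    · exact Or.inr rfl
  · rintro (rfl | rfl)
    · exact ⟨a, Or.inl rfl, rfl⟩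
    · exact ⟨b, Or.inr rfl, rfl⟩

theorem compl_dodecad {y : Finset GolayPt} (hy : y ∈ dodecads) : yᶜ ∈ dodecads := by
  obtain ⟨c, hc, h12, rfl⟩ := (mem_dodecads_iff y).mp hy
  have hfull : (0xffffff : ℕ) ∈ allCode := by decide +kernel
  have hx := xor_mem_allCode hc hfull
  have hfs : (fs c)ᶜ = fs (c ^^^ 0xffffff) := by
    ext q
    rw [Finset.mem_compl, mem_fs, mem_fs, Nat.testBit_xor, testBit_full.mpr (idx_lt q)]
    cases Nat.testBit c (idx q) <;> simp
  rw [hfs]
  refine (mem_dodecads_iff _).mpr ⟨_, hx, ?_, rfl⟩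
  rw [← card_fs, ← hfs, Finset.card_compl, card_fs, h12]
  decide +kernel

theorem card_inter_compl (d y : Finset GolayPt) (hd : d.card = 12) : (d ∩ yᶜ).card = 12 - (d ∩ y).card := by
  have h := Finset.card_sdiff_add_card_inter d y
  have h2 : d ∩ yᶜ = d \ y := by
    ext q; simp [Finset.mem_sdiff]
  rw [h2]
  omega

/-- The level function on complementary pairs. -/
def levD (a : ℕ) : ℕ := max a (12 - a)

/-- A set of pairs of complementary dodecads. -/
def dodPairs : Set (Finset (Finset GolayPt)) := {Y | ∃ y ∈ dodecads, Y = {y, yᶜ}}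

/-- The level of a family with respect to a dodecad. -/
def levY (d : Finset GolayPt) (Y : Finset (Finset GolayPt)) : ℕ := Y.sup (fun y => (d ∩ y).card)

theorem levY_pair {d y : Finset GolayPt} (hd : d.card = 12) : levY d {y, yᶜ} = levD (d ∩ y).card := by
  unfold levY levD
  rw [Finset.sup_insert, Finset.sup_singleton, card_inter_compl d y hd]

theorem card_inter_le {d y : Finset GolayPt} (hd : d.card = 12) : (d ∩ y).card ≤ 12 := by
  rw [← hd]; exact Finset.card_le_card Finset.inter_subset_left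

theorem compl_ne_self (y : Finset GolayPt) (p : GolayPt) (hp : p ∈ y) : p ∉ yᶜ := by
  simpa using hp

/-- Count of the pairs of complementary dodecads at a level, via the member through a point. -/
theorem count_levY {d : Finset GolayPt} (hd : d ∈ dodecads) (i : ℕ) :
    Set.ncard {Y | Y ∈ dodPairs ∧ levY d Y = i} =
      (dodecadList.filter (fun c => Nat.testBit c 0 && Nat.beq (levD (pop (dod0 &&& c))) i)).length := by
  classical
  obtain ⟨p, hp⟩ : ∃ p, p ∈ d := Finset.card_pos.mp (by rw [hd.2]; norm_num)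
  obtain ⟨u, hu, rfl, rfl⟩ := exists_conj_Dd0_pt hd hp
  have hcard : (u • Dd0).card = 12 := hd.2
  have h1 : {Y | Y ∈ dodPairs ∧ levY (u • Dd0) Y = i} =
      (fun y : Finset GolayPt => ({y, yᶜ} : Finset (Finset GolayPt))) ''
        {y | y ∈ dodecads ∧ (u (pt 0) ∈ y ∧ levD ((u • Dd0) ∩ y).card = i)} := by
    ext Y
    simp only [Set.mem_ofPred_eq, Set.mem_image]
    constructor
    · rintro ⟨⟨y, hy, rfl⟩, h2⟩
      by_cases hpy : u (pt 0) ∈ y
      · exact ⟨y, ⟨hy, hpy, by rw [← levY_pair hcard]; exact h2⟩, rfl⟩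
      · refine ⟨yᶜ, ⟨compl_dodecad hy, by simpa using hpy, ?_⟩, ?_⟩
        · rw [← levY_pair hcard, compl_compl, Finset.pair_comm]; exact h2
        · rw [compl_compl, Finset.pair_comm]
    · rintro ⟨y, ⟨hy, -, h2⟩, rfl⟩
      exact ⟨⟨y, hy, rfl⟩, by rw [levY_pair hcard]; exact h2⟩
  rw [h1, Set.ncard_image_of_injOn]
  · rw [ncard_transport (B := dodecads) (Q := fun y => pt 0 ∈ y ∧ levD (Dd0 ∩ y).card = i)
      (fun g hg x hx => M24_smul_dodecad hg hx) hu
      (fun x => by
        rw [card_smul_inter]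
        constructor
        · rintro ⟨h3, h4⟩
          refine ⟨?_, h4⟩
          obtain ⟨a, ha, hae⟩ := Finset.mem_smul_finset.mp h3
          have : a = pt 0 := u.injective hae
          rwa [← this]
        · rintro ⟨h3, h4⟩
          exact ⟨Finset.mem_smul_finset.mpr ⟨_, h3, rfl⟩, h4⟩)]
    rw [dodecads_eq]
    refine (ncard_filter_list (p := fun c => Nat.testBit c 0 && Nat.beq (levD (pop (dod0 &&& c))) i)
      (fun c hc => allCode_lt_aux c (mem_dodecadList.mp hc).1) dodecadList_nodup _ ?_)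
    intro c _
    rw [mem_fs_pt (by norm_num), card_inter_fs, Bool.and_eq_true]
    constructor
    · rintro ⟨h3, h4⟩
      exact ⟨h3, by rw [h4]; simp⟩
    · rintro ⟨h3, h4⟩
      exact ⟨h3, Nat.eq_of_beq_eq_true h4⟩
  · rintro y ⟨hy, hpy, -⟩ z ⟨hz, hpz, -⟩ h
    simp only at h
    have h2 : y ∈ ({z, zᶜ} : Finset (Finset GolayPt)) := by
      rw [← h]; simp
    simp only [Finset.mem_insert, Finset.mem_singleton] at h2
    rcases h2 with h2 | h2
    · exact h2
    · rw [h2] at hpy
      exact absurd hpz (by simpa using hpy)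

theorem dod_pair_coatom {d : Finset GolayPt} (hd : d ∈ dodecads) :
    IsCoatom (MulAction.stabilizer M24 ({d, dᶜ} : Finset (Finset GolayPt))) := by
  classical
  have hc12 : d.card = 12 := hd.2
  refine isCoatom_of_levels (G := M24) (X := Finset (Finset GolayPt)) {d, dᶜ} dodPairs (Set.toFinite _)
    (levY d) {6, 8, 12} (fun i => if i = 6 then 792 else if i = 8 then 495 else 1) ⟨d, hd, rfl⟩ ?_ ?_ ?_ ?_ ?_ ?_ ?_ ?_
  · rintro g Y ⟨y, hy, rfl⟩
    refine ⟨(g : Equiv.Perm GolayPt) • y, M24_smul_dodecad g.2 hy, ?_⟩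
    change (g : Equiv.Perm GolayPt) • ({y, yᶜ} : Finset (Finset GolayPt)) = _
    rw [pair_smul, compl_smul]
  · rintro Y ⟨y, hy, rfl⟩
    obtain ⟨g, hg, h⟩ := M24_dodecad_trans hd hy
    refine ⟨⟨g, hg⟩, ?_⟩
    change g • ({d, dᶜ} : Finset (Finset GolayPt)) = _
    rw [pair_smul, compl_smul, h]
  · rintro Y ⟨y, hy, rfl⟩
    rw [levY_pair hc12]
    simp only [Finset.mem_insert, Finset.mem_singleton]
    unfold levD
    rcases dodecad_inter hd hy with h | h | h | h | rfl
    · right; right; rw [h]; rfl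
    · right; left; rw [h]; rfl
    · left; rw [h]; rfl
    · right; left; rw [h]; rfl
    · right; right; rw [Finset.inter_self, hc12]; rfl
  · intro i hi
    simp only [Finset.mem_insert, Finset.mem_singleton] at hi
    rw [count_levY hd]
    rcases hi with rfl | rfl | rfl <;> decide +kernel
  · rintro Y ⟨y, hy, rfl⟩ Z ⟨z, hz, rfl⟩ h
    rw [levY_pair hc12, levY_pair hc12] at h
    have hya := card_inter_le (y := y) hc12
    have hza := card_inter_le (y := z) hc12
    have key : (d ∩ y).card = (d ∩ z).card ∨ (d ∩ y).card = (d ∩ zᶜ).card := by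
      rw [card_inter_compl d z hc12]
      unfold levD at h
      omega
    rcases key with key | key
    · obtain ⟨g, hg, hgy⟩ := dod_orbit hd hy hz key
      obtain ⟨h1, h2⟩ := mem_stabS.mp hg
      refine ⟨⟨g, h1⟩, ?_, ?_⟩
      · change g • ({d, dᶜ} : Finset (Finset GolayPt)) = _
        rw [pair_smul, compl_smul, h2]
      · change g • ({y, yᶜ} : Finset (Finset GolayPt)) = _
        rw [pair_smul, compl_smul, hgy]
    · obtain ⟨g, hg, hgy⟩ := dod_orbit hd hy (compl_dodecad hz) key
      obtain ⟨h1, h2⟩ := mem_stabS.mp hg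
      refine ⟨⟨g, h1⟩, ?_, ?_⟩
      · change g • ({d, dᶜ} : Finset (Finset GolayPt)) = _
        rw [pair_smul, compl_smul, h2]
      · change g • ({y, yᶜ} : Finset (Finset GolayPt)) = _
        rw [pair_smul, compl_smul, hgy, compl_compl, Finset.pair_comm]
  · -- another pair exists
    have h1 : 1 < Set.ncard {Y | Y ∈ dodPairs ∧ levY d Y = 6} := by
      rw [count_levY hd]; decide +kernel
    obtain ⟨Y, hY, hne⟩ := Set.exists_ne_of_one_lt_ncard h1 ({d, dᶜ} : Finset (Finset GolayPt))
    exact ⟨Y, hY.1, hne⟩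
  · rw [levY_pair hc12, Finset.inter_self, hc12]
    rfl
  · rw [levY_pair hc12, Finset.inter_self, hc12]
    decide +kernel

end CfsgLib.Golay
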