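/-
The explicit generators of the group of the code.
-/
import Cfsg.Agent.Lib.Golay.Perm

set_option autoImplicit false

namespace CfsgLib.Golay

open Cfsg
open scoped Pointwise

/-- `x ↦ x + 1`, packed. -/
def gAdd : ℕ := 0xb82d5a4e5183dcd62d4941cc520c41
/-- `x ↦ -1/x`, packed. -/
def gInv : ℕ := 0x5883388a1c8f5140b46cd317aed7
/-- The cube twist, packed. -/
def gCube : ℕ := 0xbba8ab116d7c52899d90286a219a40
/-- `x ↦ 2x`, packed. -/
def gMul : ℕ := 0xbd6717b56939461b52507314831040

theorem isAut_gAdd : isAut gAdd = true := by decide +kernel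
theorem isAut_gInv : isAut gInv = true := by decide +kernel
theorem isAut_gCube : isAut gCube = true := by decide +kernel
theorem isAut_gMul : isAut gMul = true := by decide +kernel

theorem addRight_eq : Equiv.optionCongr (Equiv.addRight (1 : ZMod 23)) = mk gAdd := by
  ext1 q
  rw [mk_apply (isAut_valid isAut_gAdd)]
  revert q
  decide +kernel

theorem projInv_eq : projInv = mk gInv := by
  ext1 q
  rw [mk_apply (isAut_valid isAut_gInv)]
  revert q
  decide +kernel

theorem cubeTwist_eq : cubeTwist = mk gCube := by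
  ext1 q
  rw [mk_apply (isAut_valid isAut_gCube)]
  have : cubeTwist q = cubeTwistFun q := rfl
  rw [this]
  revert q
  decide +kernel

theorem addRight_mem : Equiv.optionCongr (Equiv.addRight (1 : ZMod 23)) ∈ M24 := by
  rw [addRight_eq]; exact mk_mem_M24 isAut_gAdd

theorem projInv_mem : projInv ∈ M24 := by
  rw [projInv_eq]; exact mk_mem_M24 isAut_gInv

theorem cubeTwist_mem : cubeTwist ∈ M24 := by
  rw [cubeTwist_eq]; exact mk_mem_M24 isAut_gCube

/-- The unit 2 modulo 23. -/
def unitTwo : (ZMod 23)ˣ := ⟨2, 12, by decide, by decide⟩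

theorem unitTwo_eq : Equiv.optionCongr (Units.mulLeft unitTwo) = mk gMul := by
  ext1 q
  rw [mk_apply (isAut_valid isAut_gMul)]
  revert q
  decide +kernel

theorem mulLeft_mem_of_pow (k : ℕ) : Equiv.optionCongr (Units.mulLeft (unitTwo ^ k)) ∈ M24 := by
  have hm : Equiv.optionCongr (Units.mulLeft unitTwo) ∈ M24 := by
    rw [unitTwo_eq]; exact mk_mem_M24 isAut_gMul
  have : Equiv.optionCongr (Units.mulLeft (unitTwo ^ k)) =
      (Equiv.optionCongr (Units.mulLeft unitTwo)) ^ k := by
    induction k with
    | zero =>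
      ext q x
      cases q <;> simp [Units.mulLeft]
    | succ k ih =>
      rw [pow_succ, pow_succ, ← ih]
      ext q x
      cases q with
      | none => simp
      | some y =>
        simp only [Equiv.optionCongr_apply, Units.mulLeft_apply, Equiv.Perm.coe_mul,
          Function.comp_apply, Option.map_some, Units.val_mul, mul_assoc, Option.mem_def,
          Option.some.injEq]
  rw [this]
  exact pow_mem hm k

theorem square_pow : ∀ v : (ZMod 23)ˣ, ∃ k : Fin 11, v * v = unitTwo ^ (k : ℕ) := by
  decide +kernel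

theorem mulLeft_mem {u : (ZMod 23)ˣ} (hu : IsSquare u) : Equiv.optionCongr (Units.mulLeft u) ∈ M24 := by
  obtain ⟨v, rfl⟩ := hu
  obtain ⟨k, hk⟩ := square_pow v
  rw [hk]
  exact mulLeft_mem_of_pow k

end CfsgLib.Golay
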