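/-
Octad stabilisers: the pointwise stabiliser of an octad, transport by conjugation.
-/
import Cfsg.Agent.Lib.Golay.SLP

set_option autoImplicit false

namespace CfsgLib.Golay

open Cfsg
open scoped Pointwise

/-- Conjugate subgroups have the same order. -/
theorem card_eq_of_conj {G : Type*} [Group G] (K L : Subgroup G) (h : G)
    (H : ∀ g, g ∈ L ↔ h⁻¹ * g * h ∈ K) : Nat.card L = Nat.card K := by
  refine Nat.card_congr ?_
  refine
    { toFun := fun g => ⟨h⁻¹ * g * h, (H g).mp g.2⟩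
      invFun := fun g => ⟨h * g * h⁻¹, (H _).mpr ?_⟩
      left_inv := fun g => ?_
      right_inv := fun g => ?_ }
  · have : h⁻¹ * (h * (g : G) * h⁻¹) * h = g := by group
    rw [this]; exact g.2
  · ext; simp only; group
  · ext; simp only; group

/-- The pointwise stabiliser of a set of points in `M24`. -/
def fixS (s : Finset GolayPt) : Subgroup (Equiv.Perm GolayPt) :=
  M24 ⊓ fixingSubgroup (Equiv.Perm GolayPt) (s : Set GolayPt)

theorem mem_fixS {s : Finset GolayPt} {g : Equiv.Perm GolayPt} :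
    g ∈ fixS s ↔ g ∈ M24 ∧ ∀ q ∈ s, g q = q := by
  simp only [fixS, Subgroup.mem_inf, mem_fixingSubgroup_iff, Finset.mem_coe, Equiv.Perm.smul_def]

theorem mem_fixS_smul {s : Finset GolayPt} {h g : Equiv.Perm GolayPt} (hh : h ∈ M24) :
    g ∈ fixS (h • s) ↔ h⁻¹ * g * h ∈ fixS s := by
  rw [mem_fixS, mem_fixS]
  constructor
  · rintro ⟨h1, h2⟩
    refine ⟨M24.mul_mem (M24.mul_mem (M24.inv_mem hh) h1) hh, fun q hq => ?_⟩
    have h3 := h2 (h q) (Finset.mem_smul_finset.mpr ⟨q, hq, rfl⟩)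
    simp [h3]
  · rintro ⟨h1, h2⟩
    refine ⟨?_, fun q hq => ?_⟩
    · have : g = h * (h⁻¹ * g * h) * h⁻¹ := by group
      rw [this]
      exact M24.mul_mem (M24.mul_mem hh h1) (M24.inv_mem hh)
    · obtain ⟨a, ha, rfl⟩ := Finset.mem_smul_finset.mp hq
      have h3 := h2 a ha
      simp only [Equiv.Perm.mul_apply] at h3
      change g (h a) = h a
      have h4 := congrArg h h3
      simpa using h4

/-- The base octad. -/
abbrev O0 : Finset GolayPt := fs octO

theorem O0_mem : O0 ∈ octads := (mem_octads_iff _).mpr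
  ⟨octO, mem_allCode_of_isCode (by decide +kernel), by decide +kernel, rfl⟩

theorem exists_conj_O0 {o : Finset GolayPt} (ho : o ∈ octads) : ∃ h ∈ M24, h • O0 = o :=
  M24_octad_trans O0_mem ho

theorem mem_O0_iff (q : GolayPt) : q ∈ O0 ↔ idx q ∈ [12, 10, 7, 4, 3, 2, 1, 0] := by
  rw [mem_fs]
  have hl := idx_lt q
  generalize idx q = i at hl
  revert i
  decide +kernel

theorem fixS_O0 : fixS O0 = fixIn M24 [12, 10, 7, 4, 3, 2, 1, 0] := by
  ext g
  rw [mem_fixS, mem_fixIn]
  constructor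
  · rintro ⟨h1, h2⟩
    exact ⟨h1, fun q hq => h2 q ((mem_O0_iff q).mpr hq)⟩
  · rintro ⟨h1, h2⟩
    exact ⟨h1, fun q hq => h2 q ((mem_O0_iff q).mp hq)⟩

theorem levelO : LevelOK M24 [12, 10, 7, 4, 3, 2, 1, 0] 5 D6 T6 := levelOK_of_check (by decide +kernel)

theorem fixIn_O0_five_bot : fixIn M24 [5, 12, 10, 7, 4, 3, 2, 1, 0] = ⊥ := by
  rw [eq_bot_iff, ← fixIn_bot]
  intro g hg
  obtain ⟨h1, h2⟩ := mem_fixIn.mp hg
  refine mem_fixIn.mpr ⟨h1, fun q hq => h2 q ?_⟩
  simp only [List.mem_cons, List.not_mem_nil, or_false] at hq ⊢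
  omega

theorem fixS_O0_smul {g : Equiv.Perm GolayPt} (hg : g ∈ fixS O0) : g • O0 = O0 := by
  obtain ⟨h1, h2⟩ := mem_fixS.mp hg
  ext q
  rw [Finset.mem_smul_finset]
  constructor
  · rintro ⟨a, ha, rfl⟩
    change g a ∈ O0
    rw [h2 a ha]; exact ha
  · intro hq
    exact ⟨q, hq, h2 q hq⟩

theorem card_fixS_O0 : Nat.card (fixS O0) = 16 := by
  rw [fixS_O0]
  have h := card_level levelO (by norm_num) (by decide +kernel)
    (fun g hg => by
      rw [← fixS_O0] at hg
      have hinv := fixS_O0_smul hg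
      apply D6_cover _ (idx_lt _)
      have h7 : pt 5 ∉ fs octO := by rw [mem_fs_pt (by norm_num)]; decide +kernel
      have := mt (mem_of_smul_eq hinv (pt 5)).mp h7
      rw [mem_fs] at this
      simpa using this)
  rw [h, fixIn_O0_five_bot, Subgroup.card_bot]
  rfl

/-- Each element fixing the base octad pointwise is a packed element of `T6`. -/
theorem fixS_O0_eq_mk {g : Equiv.Perm GolayPt} (hg : g ∈ fixS O0) : ∃ c ∈ T6, g = mk c := by
  have hg2 := hg
  rw [fixS_O0] at hg2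
  have hinv := fixS_O0_smul hg
  have hD : idx (g (pt 5)) ∈ D6 := by
    apply D6_cover _ (idx_lt _)
    have h7 : pt 5 ∉ fs octO := by rw [mem_fs_pt (by norm_num)]; decide +kernel
    have := mt (mem_of_smul_eq hinv (pt 5)).mp h7
    rw [mem_fs] at this
    simpa using this
  obtain ⟨c, hc, hcy⟩ := levelO.hcov _ hD
  refine ⟨c, hc, ?_⟩
  have hv := levelO.hval c hc
  have hm := levelO.hmem c hc
  have hfx := levelO.hfix c hc
  obtain ⟨h1, h2⟩ := mem_fixIn.mp hg2
  have : (mk c)⁻¹ * g ∈ fixIn M24 [5, 12, 10, 7, 4, 3, 2, 1, 0] := by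
    refine mem_fixIn.mpr ⟨M24.mul_mem (M24.inv_mem hm) h1, fun q hq => ?_⟩
    rw [Equiv.Perm.mul_apply, Equiv.Perm.inv_eq_iff_eq]
    rcases List.mem_cons.mp hq with hq | hq
    · have hq' : q = pt 5 := by rw [← pt_idx q, hq]
      subst hq'
      apply idx_inj
      rw [idx_mk hv, idx_pt (by norm_num), hcy]
    · rw [h2 q hq]
      apply idx_inj
      rw [idx_mk hv, hfx _ hq]
  rw [fixIn_O0_five_bot, Subgroup.mem_bot] at this
  exact (inv_mul_eq_one.mp this).symm

theorem T6_inv : T6.all (fun c => isInv c c) = true := by decide +kernel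

theorem fixS_O0_sq {g : Equiv.Perm GolayPt} (hg : g ∈ fixS O0) : g * g = 1 := by
  obtain ⟨c, hc, rfl⟩ := fixS_O0_eq_mk hg
  have hv := levelO.hval c hc
  have := mk_of_isInv hv hv (List.all_eq_true.mp T6_inv c hc)
  rw [mul_eq_one_iff_eq_inv]
  exact this

/-- The pointwise stabiliser of an octad has order 16. -/
theorem card_fixS_octad {o : Finset GolayPt} (ho : o ∈ octads) : Nat.card (fixS o) = 16 := by
  obtain ⟨h, hh, rfl⟩ := exists_conj_O0 ho
  rw [card_eq_of_conj (fixS O0) (fixS (h • O0)) h (fun g => mem_fixS_smul hh), card_fixS_O0]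

theorem fixS_octad_sq {o : Finset GolayPt} (ho : o ∈ octads) {g : Equiv.Perm GolayPt}
    (hg : g ∈ fixS o) : g * g = 1 := by
  obtain ⟨h, hh, rfl⟩ := exists_conj_O0 ho
  have h1 := fixS_O0_sq ((mem_fixS_smul hh).mp hg)
  have h2 : h⁻¹ * (g * g) * h = 1 := by
    have : h⁻¹ * (g * g) * h = (h⁻¹ * g * h) * (h⁻¹ * g * h) := by group
    rw [this, h1]
  have : g * g = h * (h⁻¹ * (g * g) * h) * h⁻¹ := by group
  rw [this, h2]
  group

/-- The packed identity. -/
def idP : ℕ := 0xbdab49ca307b9ac5a928398a418820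

theorem idP_valid : valid idP = true := by decide +kernel

theorem mk_idP : mk idP = 1 := by
  ext1 q
  apply idx_inj
  rw [idx_mk idP_valid, Equiv.Perm.one_apply]
  have hl := idx_lt q
  generalize idx q = i at hl
  revert i
  decide +kernel

/-- The nonidentity elements of `T6` move each point off the base octad. -/
theorem T6_free : T6.all (fun c => Nat.beq c idP ||
    (List.range 24).all (fun i => Nat.testBit octO i || !Nat.beq (pa c i) i)) = true := by
  decide +kernel

/-- An element of `M24` fixing an octad and a further point is trivial. -/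
theorem fixS_octad_free {o : Finset GolayPt} (ho : o ∈ octads) {g : Equiv.Perm GolayPt}
    (hg : g ∈ fixS o) {p : GolayPt} (hp : p ∉ o) (hgp : g p = p) : g = 1 := by
  obtain ⟨h, hh, rfl⟩ := exists_conj_O0 ho
  have h1 := (mem_fixS_smul hh).mp hg
  obtain ⟨c, hc, hcg⟩ := fixS_O0_eq_mk h1
  have hp' : h⁻¹ p ∉ O0 := by
    intro h3
    apply hp
    rw [Finset.mem_smul_finset]
    exact ⟨_, h3, by simp⟩
  have hfix : (h⁻¹ * g * h) (h⁻¹ p) = h⁻¹ p := by
    simp [hgp]
  rw [hcg] at hfix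
  have hv := levelO.hval c hc
  have hfix2 : pa c (idx (h⁻¹ p)) = idx (h⁻¹ p) := by
    rw [← idx_mk hv, hfix]
  have h5 := List.all_eq_true.mp T6_free c hc
  have hc0 : c = idP := by
    rw [Bool.or_eq_true] at h5
    rcases h5 with h5 | h5
    · exact Nat.eq_of_beq_eq_true h5
    · exfalso
      have h6 := List.all_eq_true.mp h5 _ (List.mem_range.mpr (idx_lt (h⁻¹ p)))
      rw [Bool.or_eq_true] at h6
      rcases h6 with h6 | h6
      · exact hp' (mem_fs.mpr h6)
      · rw [hfix2] at h6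
        simp at h6
  rw [hc0, mk_idP] at hcg
  have : g = h * (h⁻¹ * g * h) * h⁻¹ := by group
  rw [this, hcg]
  group

/-- The pointwise stabiliser of an octad is regular on the complement of the octad. -/
theorem fixS_octad_trans {o : Finset GolayPt} (ho : o ∈ octads) {p q : GolayPt} (hp : p ∉ o)
    (hq : q ∉ o) : ∃ g ∈ fixS o, g p = q := by
  obtain ⟨h, hh, rfl⟩ := exists_conj_O0 ho
  have hbase : ∀ {y : GolayPt}, y ∉ O0 → ∃ g ∈ fixS O0, g (pt 5) = y := by
    intro y hy
    have hD : idx y ∈ D6 := by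
      apply D6_cover _ (idx_lt _)
      rw [mem_fs] at hy
      simpa using hy
    obtain ⟨g, hg, hgy⟩ := levelO.exists_fix (by norm_num) hD
    rw [← fixS_O0] at hg
    exact ⟨g, hg, idx_inj hgy⟩
  have hp' : h⁻¹ p ∉ O0 := by
    intro h3
    apply hp
    rw [Finset.mem_smul_finset]
    exact ⟨_, h3, by simp⟩
  have hq' : h⁻¹ q ∉ O0 := by
    intro h3
    apply hq
    rw [Finset.mem_smul_finset]
    exact ⟨_, h3, by simp⟩
  obtain ⟨g1, hg1, h1⟩ := hbase hp'
  obtain ⟨g2, hg2, h2⟩ := hbase hq'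
  refine ⟨h * (g2 * g1⁻¹) * h⁻¹, ?_, ?_⟩
  · rw [mem_fixS_smul hh]
    have : h⁻¹ * (h * (g2 * g1⁻¹) * h⁻¹) * h = g2 * g1⁻¹ := by group
    rw [this]
    exact (fixS O0).mul_mem hg2 ((fixS O0).inv_mem hg1)
  · simp only [Equiv.Perm.mul_apply]
    rw [← h1]
    simp [h2]

end CfsgLib.Golay
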