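/-
Orbit walks: a certificate (a list of stack operations) that a list of keys lies in an orbit.
-/
import Cfsg.Agent.Lib.Golay.Octad
import Cfsg.Agent.Lib.Golay.Gens

set_option autoImplicit false

namespace CfsgLib.Golay

open Cfsg
open scoped Pointwise

/-- The walk: `0` pops the stack, `k + 1` pushes the image of the top under the generator `k`. -/
def walkAux (act : ℕ → ℕ → ℕ) (start : ℕ) : List ℕ → List ℕ → List ℕ → List ℕ
  | [], _, acc => acc
  | 0 :: ops, stack, acc => walkAux act start ops stack.tail acc
  | (k + 1) :: ops, stack, acc =>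
    walkAux act start ops (act k (stack.headD start) :: stack) (act k (stack.headD start) :: acc)

/-- All keys visited by a walk. -/
def walk (act : ℕ → ℕ → ℕ) (start : ℕ) (ops : List ℕ) : List ℕ :=
  walkAux act start ops [start] [start]

theorem walkAux_sound {R : ℕ → Prop} {act : ℕ → ℕ → ℕ} {start : ℕ} (hs : R start)
    (hact : ∀ k m, R m → R (act k m)) (ops stack acc : List ℕ) (h1 : ∀ x ∈ stack, R x)
    (h2 : ∀ x ∈ acc, R x) : ∀ x ∈ walkAux act start ops stack acc, R x := by
  induction ops generalizing stack acc with
  | nil => exact h2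
  | cons k ops ih =>
    cases k with
    | zero =>
      simp only [walkAux]
      refine ih _ _ ?_ h2
      intro x hx
      exact h1 x (List.mem_of_mem_tail hx)
    | succ k =>
      simp only [walkAux]
      have h3 : R (stack.headD start) := by
        cases stack with
        | nil => exact hs
        | cons a l => exact h1 a (by simp)
      refine ih _ _ ?_ ?_
      · intro x hx
        rcases List.mem_cons.mp hx with rfl | hx
        · exact hact _ _ h3
        · exact h1 x hx
      · intro x hx
        rcases List.mem_cons.mp hx with rfl | hx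
        · exact hact _ _ h3
        · exact h2 x hx

theorem walk_sound {R : ℕ → Prop} {act : ℕ → ℕ → ℕ} {start : ℕ} (hs : R start)
    (hact : ∀ k m, R m → R (act k m)) (ops : List ℕ) : ∀ x ∈ walk act start ops, R x :=
  walkAux_sound hs hact ops _ _ (by simpa using hs) (by simpa using hs)

/-- The bitset of a list of keys. -/
def seenOf (l : List ℕ) : ℕ := l.foldr (fun x s => Nat.lor s (Nat.shiftLeft 1 x)) 0

theorem mem_of_testBit_seenOf {l : List ℕ} {x : ℕ} (h : (seenOf l).testBit x = true) : x ∈ l := by
  induction l with
  | nil => simp [seenOf] at h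
  | cons a l ih =>
    have h2 : (seenOf l ||| 1 <<< a).testBit x = true := h
    rw [Nat.testBit_or, Nat.one_shiftLeft, Nat.testBit_two_pow] at h2
    simp only [Bool.or_eq_true, decide_eq_true_eq] at h2
    rcases h2 with h2 | h2
    · exact List.mem_cons_of_mem _ (ih h2)
    · exact h2 ▸ List.mem_cons_self

/-- Action of a list of packed generators on masks (unknown generators act trivially). -/
def actG (gens : List ℕ) (k m : ℕ) : ℕ :=
  match gens[k]? with
  | some g => img g m
  | none => m

/-- The orbit relation for masks under a subgroup. -/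
def InOrbit (K : Subgroup (Equiv.Perm GolayPt)) (m k : ℕ) : Prop :=
  ∃ g ∈ K, g • fs m = fs k

theorem inOrbit_act {K : Subgroup (Equiv.Perm GolayPt)} {gens : List ℕ}
    (hgens : ∀ c ∈ gens, valid c = true ∧ mk c ∈ K) {m : ℕ} (k x : ℕ) (hx : InOrbit K m x) :
    InOrbit K m (actG gens k x) := by
  unfold actG
  cases h : gens[k]? with
  | none => exact hx
  | some g =>
    simp only
    obtain ⟨hv, hm⟩ := hgens g (List.mem_of_getElem? h)
    obtain ⟨u, hu, hux⟩ := hx
    refine ⟨mk g * u, K.mul_mem hm hu, ?_⟩
    rw [mul_smul, hux, fs_img hv]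

theorem inOrbit_of_walk {K : Subgroup (Equiv.Perm GolayPt)} {gens : List ℕ}
    (hgens : ∀ c ∈ gens, valid c = true ∧ mk c ∈ K) {m : ℕ} (ops : List ℕ) {x : ℕ}
    (hx : x ∈ walk (actG gens) m ops) : InOrbit K m x :=
  walk_sound (R := InOrbit K m) ⟨1, K.one_mem, one_smul _ _⟩ (inOrbit_act hgens) ops x hx

/-- Standard generators of `M24`. -/
def stdGens : List ℕ := [gAdd, gInv, gCube]

end CfsgLib.Golay
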