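/-
The base dodecad: walk certificate, stabiliser chain, sharply 5-transitive action.
-/
import Cfsg.Agent.Lib.Golay.Walk

set_option autoImplicit false

namespace CfsgLib.Golay

open Cfsg
open scoped Pointwise

/-- The base dodecad as a mask. -/
def dod0 : ℕ := 165759

/-- Walk certificate for the transitivity on dodecads. -/
def dodOps : List ℕ := [1, 1, 1, 1, 1, 1, 1, 1, 1, 1, 1, 1, 1, 1, 1, 1, 1, 1, 1, 1, 1, 1, 2, 1, 1, 1, 1, 1, 1, 1, 1, 1, 1, 1, 1, 1, 1, 1, 1, 1, 1, 1, 1, 1, 1, 2, 1, 1, 1, 1, 1, 1, 1, 1, 1, 1, 1, 1, 1, 1, 1, 1, 1, 1, 1, 1, 1, 1, 3, 1, 1, 1, 1, 1, 1, 1, 1, 1, 1, 1, 1, 1, 1, 1, 1, 1, 1, 1, 1, 1, 1, 2, 1, 1, 1, 1, 1, 1, 1, 1, 1, 1, 1, 1, 1, 1, 1, 1, 1, 1, 1, 1, 1, 1, 2, 1, 1, 1, 1, 1, 1, 1, 1, 1, 1, 1, 1, 1, 1, 1, 1, 1, 1, 1, 1, 1, 1, 3, 1, 1, 1, 1, 1, 1, 1, 1, 1, 1, 1, 1, 1, 1, 1, 1, 1, 1, 1, 1,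 1, 1, 2, 1, 1, 1, 1, 1, 1, 1, 1, 1, 1, 1, 1, 1, 1, 1, 1, 1, 1, 1, 1, 1, 1, 2, 1, 1, 1, 1, 1, 1, 1, 1, 1, 1, 1, 1, 1, 1, 1, 1, 1, 1, 1, 1, 1, 1, 3, 1, 1, 1, 1, 1, 1, 1, 1, 1, 1, 1, 1, 1, 1, 1, 1, 1, 1, 1, 1, 1, 1, 2, 1, 1, 1, 1, 1, 1, 1, 1, 1, 1, 1, 1, 1, 1, 1, 1, 1, 1, 1, 1, 1, 1, 2, 1, 1, 1, 1, 1, 1, 1, 1, 1, 1, 1, 1, 1, 1, 1, 1, 1, 1, 1, 1, 1, 1, 3, 1, 1, 1, 1, 1, 1, 1, 1, 1, 1, 1, 1, 1, 1, 1, 1, 1, 1, 1, 1, 1, 1, 2, 1, 1, 1, 1, 1, 1, 1, 1, 1, 1, 1, 1, 1, 1, 1, 1, 1, 1, 1, 1, 1, 1, 2, 1, 1, 1, 1, 1, 1, 1, 1, 1, 1, 1, 1, 1, 1, 1, 1, 1, 1, 1, 1, 1, 1, 0, 3, 1, 1, 1, 1, 1, 1, 1, 1, 1, 1, 1, 1, 1, 1, 1, 1, 1, 1, 1, 1, 1, 1, 3, 1, 1, 1, 1, 1, 1, 1, 1, 1, 1, 1, 1, 1, 1, 1, 1, 1, 1, 1, 1, 1, 1, 2, 1, 1, 1, 1, 1, 1, 1, 1, 1, 1, 1, 1, 1, 1, 1, 1, 1, 1, 1, 1, 1, 1, 2, 1, 1, 1, 1, 1, 1, 1, 1, 1, 1, 1, 1, 1, 1, 1, 1, 1, 1, 1,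 1, 1, 1, 0, 2, 1, 1, 1, 1, 1, 1, 1, 1, 1, 1, 1, 1, 1, 1, 1, 1, 1, 1, 1, 1, 1, 1, 3, 1, 1, 1, 1, 1, 1, 1, 1, 1, 1, 1, 1, 1, 1, 1, 1, 1, 1, 1, 1, 1, 1, 2, 1, 1, 1, 1, 1, 1, 1, 1, 1, 1, 1, 1, 1, 1, 1, 1, 1, 1, 1, 1, 1, 1, 2, 1, 1, 1, 1, 1, 1, 1, 1, 1, 1, 1, 1, 1, 1, 1, 1, 1, 1, 1, 1, 1, 1, 0, 2, 1, 1, 1, 1, 1, 1, 1, 1, 1, 1, 1, 1, 1, 1, 1, 1, 1, 1, 1, 1, 1, 1, 3, 1, 1, 1, 1, 1, 1, 1, 1, 1, 1, 1, 1, 1, 1, 1, 1, 1, 1, 1, 1, 1, 1, 2, 1, 1, 1, 1, 1, 1, 1, 1, 1, 1, 1, 1, 1, 1, 1, 1, 1, 1, 1, 1, 1, 1, 3, 1, 1, 1, 1, 1, 1, 1, 1, 1, 1, 1, 1, 1, 1, 1, 1, 1, 1, 1, 1, 1, 1, 2, 1, 1, 1, 1, 1, 1, 1, 1, 1, 1, 1, 1, 1, 1, 1, 1, 1, 1, 1, 1, 1, 1, 0, 2, 1, 1, 1, 1, 1, 1, 1, 1, 1, 1, 1, 1, 1, 1, 1, 1, 1, 1, 1, 1, 1, 1, 3, 1, 1, 1, 1, 1, 1, 1, 1, 1, 1, 1, 1, 1, 1, 1, 1, 1, 1, 1, 1, 1, 1, 2, 1, 1, 1, 1, 1, 1, 1, 1, 1, 1, 1, 1, 1, 1, 1, 1,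 1, 1, 1, 1, 1, 1, 2, 1, 1, 1, 1, 1, 1, 1, 1, 1, 1, 1, 1, 1, 1, 1, 1, 1, 1, 1, 1, 1, 1, 3, 1, 1, 1, 1, 1, 1, 1, 1, 1, 1, 1, 1, 1, 1, 1, 1, 1, 1, 1, 1, 1, 1, 3, 1, 1, 1, 1, 1, 1, 1, 1, 1, 1, 1, 1, 1, 1, 1, 1, 1, 1, 1, 1, 1, 1, 3, 1, 1, 1, 1, 1, 1, 1, 1, 1, 1, 1, 1, 1, 1, 1, 1, 1, 1, 1, 1, 1, 1, 2, 1, 1, 1, 1, 1, 1, 1, 1, 1, 1, 1, 1, 1, 1, 1, 1, 1, 1, 1, 1, 1, 1, 2, 1, 1, 1, 1, 1, 1, 1, 1, 1, 1, 1, 1, 1, 1, 1, 1, 1, 1, 1, 1, 1, 1, 0, 3, 1, 1, 1, 1, 1, 1, 1, 1, 1, 1, 1, 1, 1, 1, 1, 1, 1, 1, 1, 1, 1, 1, 2, 1, 1, 1, 1, 1, 1, 1, 1, 1, 1, 1, 1, 1, 1, 1, 1, 1, 1, 1, 1, 1, 1, 2, 1, 1, 1, 1, 1, 1, 1, 1, 1, 1, 1, 1, 1, 1, 1, 1, 1, 1, 1, 1, 1, 1, 0, 2, 1, 1, 1, 1, 1, 1, 1, 1, 1, 1, 1, 1, 1, 1, 1, 1, 1, 1, 1, 1, 1, 1, 0, 3, 1, 1, 1, 1, 1, 1, 1, 1, 1, 1, 1, 1, 1, 1, 1, 1, 1, 1, 1, 1, 1, 1, 2, 1, 1, 1, 1, 1, 1, 1, 1, 1, 1, 1, 1, 1,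 1, 1, 1, 1, 1, 1, 1, 1, 1, 3, 1, 1, 1, 1, 1, 1, 1, 1, 1, 1, 1, 1, 1, 1, 1, 1, 1, 1, 1, 1, 1, 1, 2, 1, 1, 1, 1, 1, 1, 1, 1, 1, 1, 1, 1, 1, 1, 1, 1, 1, 1, 1, 1, 1, 1, 2, 1, 1, 1, 1, 1, 1, 1, 1, 1, 1, 1, 1, 1, 1, 1, 1, 1, 1, 1, 1, 1, 1, 3, 1, 1, 1, 1, 1, 1, 1, 1, 1, 1, 1, 1, 1, 1, 1, 1, 1, 1, 1, 1, 1, 1, 2, 1, 1, 1, 1, 1, 1, 1, 1, 1, 1, 1, 1, 1, 1, 1, 1, 1, 1, 1, 1, 1, 1, 0, 3, 1, 1, 1, 1, 1, 1, 1, 1, 1, 1, 1, 1, 1, 1, 1, 1, 1, 1, 1, 1, 1, 1, 3, 1, 1, 1, 1, 1, 1, 1, 1, 1, 1, 1, 1, 1, 1, 1, 1, 1, 1, 1, 1, 1, 1, 3, 1, 1, 1, 1, 1, 1, 1, 1, 1, 1, 1, 1, 1, 1, 1, 1, 1, 1, 1, 1, 1, 1, 2, 1, 1, 1, 1, 1, 1, 1, 1, 1, 1, 1, 1, 1, 1, 1, 1, 1, 1, 1, 1, 1, 1, 0, 0, 0, 0, 2, 1, 1, 1, 1, 1, 1, 1, 1, 1, 1, 1, 1, 1, 1, 1, 1, 1, 1, 1, 1, 1, 1, 3, 1, 1, 1, 1, 1, 1, 1, 1, 1, 1, 1, 1, 1, 1, 1, 1, 1, 1, 1, 1, 1, 1, 2, 1, 1, 1, 1, 1, 1, 1, 1,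 1, 1, 1, 1, 1, 1, 1, 1, 1, 1, 1, 1, 1, 1, 2, 1, 1, 1, 1, 1, 1, 1, 1, 1, 1, 1, 1, 1, 1, 1, 1, 1, 1, 1, 1, 1, 1, 3, 1, 1, 1, 1, 1, 1, 1, 1, 1, 1, 1, 1, 1, 1, 1, 1, 1, 1, 1, 1, 1, 1, 3, 1, 1, 1, 1, 1, 1, 1, 1, 1, 1, 1, 1, 1, 1, 1, 1, 1, 1, 1, 1, 1, 1, 0, 2, 1, 1, 1, 1, 1, 1, 1, 1, 1, 1, 1, 1, 1, 1, 1, 1, 1, 1, 1, 1, 1, 1, 3, 1, 1, 1, 1, 1, 1, 1, 1, 1, 1, 1, 1, 1, 1, 1, 1, 1, 1, 1, 1, 1, 1, 0, 0, 0, 2, 1, 1, 1, 1, 1, 1, 1, 1, 1, 1, 1, 1, 1, 1, 1, 1, 1, 1, 1, 1, 1, 1, 3, 1, 1, 1, 1, 1, 1, 1, 1, 1, 1, 1, 1, 1, 1, 1, 1, 1, 1, 1, 1, 1, 1, 2, 1, 1, 1, 1, 1, 1, 1, 1, 1, 1, 1, 1, 1, 1, 1, 1, 1, 1, 1, 1, 1, 1, 0, 3, 1, 1, 1, 1, 1, 1, 1, 1, 1, 1, 1, 1, 1, 1, 1, 1, 1, 1, 1, 1, 1, 1, 2, 1, 1, 1, 1, 1, 1, 1, 1, 1, 1, 1, 1, 1, 1, 1, 1, 1, 1, 1, 1, 1, 1, 2, 1, 1, 1, 1, 1, 1, 1, 1, 1, 1, 1, 1, 1, 1, 1, 1, 1, 1, 1, 1, 1, 1, 3, 1, 1, 1,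 1, 1, 1, 1, 1, 1, 1, 1, 1, 1, 1, 1, 1, 1, 1, 1, 1, 1, 1, 0, 0, 2, 1, 1, 1, 1, 1, 1, 1, 1, 1, 1, 1, 1, 1, 1, 1, 1, 1, 1, 1, 1, 1, 1, 0, 0, 2, 1, 1, 1, 1, 1, 1, 1, 1, 1, 1, 1, 1, 1, 1, 1, 1, 1, 1, 1, 1, 1, 1, 0, 3, 1, 1, 1, 1, 1, 1, 1, 1, 1, 1, 1, 1, 1, 1, 1, 1, 1, 1, 1, 1, 1, 1, 0, 3, 1, 1, 1, 1, 1, 1, 1, 1, 1, 1, 1, 1, 1, 1, 1, 1, 1, 1, 1, 1, 1, 1, 0, 0, 2, 1, 1, 1, 1, 1, 1, 1, 1, 1, 1, 1, 1, 1, 1, 1, 1, 1, 1, 1, 1, 1, 1, 3, 1, 1, 1, 1, 1, 1, 1, 1, 1, 1, 1, 1, 1, 1, 1, 1, 1, 1, 1, 1, 1, 1, 2, 1, 1, 1, 1, 1, 1, 1, 1, 1, 1, 1, 1, 1, 1, 1, 1, 1, 1, 1, 1, 1, 1, 3, 1, 1, 1, 1, 1, 1, 1, 1, 1, 1, 1, 1, 1, 1, 1, 1, 1, 1, 1, 1, 1, 1, 0, 2, 1, 1, 1, 1, 1, 1, 1, 1, 1, 1, 1, 1, 1, 1, 1, 1, 1, 1, 1, 1, 1, 1, 0, 2, 1, 1, 1, 1, 1, 1, 1, 1, 1, 1, 1, 1, 1, 1, 1, 1, 1, 1, 1, 1, 1, 1, 0, 2, 1, 1, 1, 1, 1, 1, 1, 1, 1, 1, 1, 1, 1, 1, 1,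 1, 1, 1, 1, 1, 1, 1, 3, 1, 1, 1, 1, 1, 1, 1, 1, 1, 1, 1, 1, 1, 1, 1, 1, 1, 1, 1, 1, 1, 1, 0, 2, 1, 1, 1, 1, 1, 1, 1, 1, 1, 1, 1, 1, 1, 1, 1, 1, 1, 1, 1, 1, 1, 1, 0, 0, 0, 0, 3, 1, 1, 1, 1, 1, 1, 1, 1, 1, 1, 1, 1, 1, 1, 1, 1, 1, 1, 1, 1, 1, 1, 0, 0, 0, 2, 1, 1, 1, 1, 1, 1, 1, 1, 1, 1, 1, 1, 1, 1, 1, 1, 1, 1, 1, 1, 1, 1, 0, 0, 0, 0, 0, 3, 1, 1, 1, 1, 1, 1, 1, 1, 1, 1, 1, 1, 1, 1, 1, 1, 1, 1, 1, 1, 1, 1, 0, 2, 1, 1, 1, 1, 1, 1, 1, 1, 1, 1, 1, 1, 1, 1, 1, 1, 1, 1, 1, 1, 1, 1, 0, 3, 1, 1, 1, 1, 1, 1, 1, 1, 1, 1, 1, 1, 1, 1, 1, 1, 1, 1, 1, 1, 1, 1, 2, 1, 1, 1, 1, 1, 1, 1, 1, 1, 1, 1, 1, 1, 1, 1, 1, 1, 1, 1, 1, 1, 1, 2, 1, 1, 1, 1, 1, 1, 1, 1, 1, 1, 1, 1, 1, 1, 1, 1, 1, 1, 1, 1, 1, 1, 0, 2, 1, 1, 1, 1, 1, 1, 1, 1, 1, 1, 1, 1, 1, 1, 1, 1, 1, 1, 1, 1, 1, 1, 0, 2, 1, 1, 1, 1, 1, 1, 1, 1, 1, 1, 1, 1, 1, 1, 1, 1, 1, 1, 1, 1, 1,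 1, 0, 0, 2, 1, 1, 1, 1, 1, 1, 1, 1, 1, 1, 1, 1, 1, 1, 1, 1, 1, 1, 1, 1, 1, 1, 0, 2, 1, 1, 1, 1, 1, 1, 1, 1, 1, 1, 1, 1, 1, 1, 1, 1, 1, 1, 1, 1, 1, 1, 3, 1, 1, 1, 1, 1, 1, 1, 1, 1, 1, 1, 1, 1, 1, 1, 1, 1, 1, 1, 1, 1, 1, 0, 0, 2, 1, 1, 1, 1, 1, 1, 1, 1, 1, 1, 1, 1, 1, 1, 1, 1, 1, 1, 1, 1, 1, 1, 0, 3, 1, 1, 1, 1, 1, 1, 1, 1, 1, 1, 1, 1, 1, 1, 1, 1, 1, 1, 1, 1, 1, 1, 0, 2, 1, 1, 1, 1, 1, 1, 1, 1, 1, 1, 1, 1, 1, 1, 1, 1, 1, 1, 1, 1, 1, 1, 0, 0, 0, 0, 0, 3, 1, 1, 1, 1, 1, 1, 1, 1, 1, 1, 1, 1, 1, 1, 1, 1, 1, 1, 1, 1, 1, 1, 0, 2, 1, 1, 1, 1, 1, 1, 1, 1, 1, 1, 1, 1, 1, 1, 1, 1, 1, 1, 1, 1, 1, 1, 0, 0, 2, 1, 1, 1, 1, 1, 1, 1, 1, 1, 1, 1, 1, 1, 1, 1, 1, 1, 1, 1, 1, 1, 1, 0, 0, 0, 0, 3, 1, 1, 1, 1, 1, 1, 1, 1, 1, 1, 1, 1, 1, 1, 1, 1, 1, 1, 1, 1, 1, 1, 0, 2, 1, 1, 1, 1, 1, 1, 1, 1, 1, 1, 1, 1, 1, 1, 1, 1, 1, 1, 1, 1, 1, 1, 0, 0,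 3, 1, 1, 1, 1, 1, 1, 1, 1, 1, 1, 1, 1, 1, 1, 1, 1, 1, 1, 1, 1, 1, 1, 3, 1, 1, 1, 1, 1, 1, 1, 1, 1, 1, 1, 1, 1, 1, 1, 1, 1, 1, 1, 1, 1, 1, 3, 1, 1, 1, 1, 1, 1, 1, 1, 1, 1, 1, 1, 1, 1, 1, 1, 1, 1, 1, 1, 1, 1, 0, 0, 0, 0, 0, 2, 1, 1, 1, 1, 1, 1, 1, 1, 1, 1, 1, 1, 1, 1, 1, 1, 1, 1, 1, 1, 1, 1, 0, 0, 2, 1, 1, 1, 1, 1, 1, 1, 1, 1, 1, 1, 1, 1, 1, 1, 1, 1, 1, 1, 1, 1, 1, 0, 0, 0, 0, 0, 0, 0, 0, 0, 0, 0, 0, 0, 3, 1, 1, 1, 1, 1, 1, 1, 1, 1, 1, 1, 1, 1, 1, 1, 1, 1, 1, 1, 1, 1, 1, 0, 0, 0, 0, 0, 0, 0, 0, 0, 0, 0, 0, 0, 0, 0, 0, 0, 0, 0, 0, 0, 0, 0, 0, 0, 0, 0, 0, 0, 0, 0, 0, 0, 0, 0, 0, 0, 0, 0, 0, 2, 1, 1, 1, 1, 1, 1, 1, 1, 1, 1, 1, 1, 1, 1, 1, 1, 1, 1, 1, 1, 1, 1, 0, 0, 0, 0, 0, 2, 1, 1, 1, 1, 1, 1, 1, 1, 1, 1, 1, 1, 1, 1, 1, 1, 1, 1, 1, 1, 1, 1, 0, 0, 0, 0, 0, 0, 0, 0, 0, 0, 0, 0, 0, 0, 0, 0, 0, 0, 0, 0, 0, 0, 0, 3, 1, 1, 1,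 1, 1, 1, 1, 1, 1, 1, 1, 1, 1, 1, 1, 1, 1, 1, 1, 1, 1, 1, 0, 0, 0, 0, 0, 2, 1, 1, 1, 1, 1, 1, 1, 1, 1, 1, 1, 1, 1, 1, 1, 1, 1, 1, 1, 1, 1, 1, 3, 1, 1, 1, 1, 1, 1, 1, 1, 1, 1, 1, 1, 1, 1, 1, 1, 1, 1, 1, 1, 1, 1, 0, 0, 2, 1, 1, 1, 1, 1, 1, 1, 1, 1, 1, 1, 1, 1, 1, 1, 1, 1, 1, 1, 1, 1, 1]

/-- Generators of the stabiliser of the base dodecad. -/
def K0gens : List ℕ := [526397442231411096344892750029717701, 486277638402005258736079328476892425]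

/-- Transversal in the dodecad stabiliser at level 0. -/
def TK0 : List ℕ := [984818244535754528103549039458486304, 312498229316921740505013111226373409, 882150979703084019160007468966352130, 929731015795383940699024771509387395, 980948137627259343259797247296112100, 526397442231411096344892750029717701, 778054411198880975894765604150871590, 674217230253687864261001652253758664, 815707104015608156310959008455393449, 695022964437082434860165714534269130, 474380514065848362109165336970461327, 466836911772454037867418282990043633]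

/-- Orbit at level 0 of the dodecad stabiliser. -/
def DK0 : List ℕ := [0, 1, 2, 3, 4, 5, 6, 8, 9, 10, 15, 17]

/-- Transversal in the dodecad stabiliser at level 1. -/
def TK1 : List ℕ := [984818244535754528103549039458486304, 528904856121850170763680250784629824, 896135988051437544582240933713067104, 810957155203234077410884082310790272, 483562647808598708132675123458123936, 982954834747111255349586955913437376, 522783452828278755937517080340899072, 944487902976784585535210005081397536, 520190112015686368029073807878689088, 608414638527251180445818751786717664, 485983590499746941217833329187101216]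

/-- Orbit at level 1 of the dodecad stabiliser. -/
def DK1 : List ℕ := [1, 2, 3, 4, 5, 6, 8, 9, 10, 15, 17]

/-- Transversal in the dodecad stabiliser at level 2. -/
def TK2 : List ℕ := [984818244535754528103549039458486304, 819679842204753699914203264576654368, 766703455587692409650549476278177824, 979203896786615496720647653720921120, 931677089408006076666293987042203680, 815691872822144029992060101073117216, 555188600037499001247367236523664416, 881904076008294884489138225682753568, 690887856871209234910721265729879072, 766825189693959400237855808039502880]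

/-- Orbit at level 2 of the dodecad stabiliser. -/
def DK2 : List ℕ := [2, 3, 4, 5, 6, 8, 9, 10, 15, 17]

/-- Transversal in the dodecad stabiliser at level 3. -/
def TK3 : List ℕ := [984818244535754528103549039458486304, 891440084380668137666183104591693856, 564023005545664326697793580208130080, 764874334996072903210197787885111328, 899214583888558003150069357295700000, 970531819526550031117983620406741024, 674252874117903267493297986162984992, 898863637016762057656981700776265760, 475934640003503041669284490304325664]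

/-- Orbit at level 3 of the dodecad stabiliser. -/
def DK3 : List ℕ := [3, 4, 5, 6, 8, 9, 10, 15, 17]

/-- Transversal in the dodecad stabiliser at level 4. -/
def TK4 : List ℕ := [984818244535754528103549039458486304, 312285355390548198233592884127434784, 798866382324465456966349450561816608, 487616041172978902898937048930027552, 680741985038306602728348918842755104, 596693935057177821627616253167372320, 932855694972972591231736865702905888, 523871016866241286772790268246722592]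

/-- Orbit at level 4 of the dodecad stabiliser. -/
def DK4 : List ℕ := [4, 5, 6, 8, 9, 10, 15, 17]

theorem dod0_isCode : isCode dod0 = true := by decide +kernel
theorem dod0_pop : pop dod0 = 12 := by decide +kernel

/-- The base dodecad. -/
abbrev Dd0 : Finset GolayPt := fs dod0

theorem Dd0_mem : Dd0 ∈ dodecads :=
  (mem_dodecads_iff _).mpr ⟨dod0, mem_allCode_of_isCode dod0_isCode, dod0_pop, rfl⟩

theorem stdGens_sound : ∀ c ∈ stdGens, valid c = true ∧ mk c ∈ M24 := by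
  intro c hc
  simp only [stdGens, List.mem_cons, List.not_mem_nil, or_false] at hc
  rcases hc with rfl | rfl | rfl
  · exact ⟨isAut_valid isAut_gAdd, mk_mem_M24 isAut_gAdd⟩
  · exact ⟨isAut_valid isAut_gInv, mk_mem_M24 isAut_gInv⟩
  · exact ⟨isAut_valid isAut_gCube, mk_mem_M24 isAut_gCube⟩

theorem dod_cover : dodecadList.all (fun c => (seenOf (walk (actG stdGens) dod0 dodOps)).testBit c) = true := by
  decide +kernel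

/-- Transitivity on dodecads: every dodecad is an image of the base one. -/
theorem exists_conj_Dd0 {d : Finset GolayPt} (hd : d ∈ dodecads) : ∃ h ∈ M24, h • Dd0 = d := by
  rw [dodecads_eq] at hd
  obtain ⟨c, hc, rfl⟩ := hd
  exact inOrbit_of_walk stdGens_sound dodOps
    (mem_of_testBit_seenOf (List.all_eq_true.mp dod_cover c hc))

theorem M24_dodecad_trans {d d' : Finset GolayPt} (hd : d ∈ dodecads) (hd' : d' ∈ dodecads) :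
    ∃ g ∈ M24, g • d = d' := by
  obtain ⟨h, hh, rfl⟩ := exists_conj_Dd0 hd
  obtain ⟨h', hh', rfl⟩ := exists_conj_Dd0 hd'
  refine ⟨h' * h⁻¹, M24.mul_mem hh' (M24.inv_mem hh), ?_⟩
  rw [mul_smul, inv_smul_smul]

/-! ### Stabilisers of subsets -/

/-- The stabiliser of a subset in `M24`, as a subgroup of the symmetric group. -/
def stabS (s : Finset GolayPt) : Subgroup (Equiv.Perm GolayPt) :=
  M24 ⊓ MulAction.stabilizer (Equiv.Perm GolayPt) s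

theorem mem_stabS {s : Finset GolayPt} {g : Equiv.Perm GolayPt} :
    g ∈ stabS s ↔ g ∈ M24 ∧ g • s = s := by
  simp only [stabS, Subgroup.mem_inf, MulAction.mem_stabilizer_iff]

theorem mem_stabS_smul {s : Finset GolayPt} {h g : Equiv.Perm GolayPt} (hh : h ∈ M24) :
    g ∈ stabS (h • s) ↔ h⁻¹ * g * h ∈ stabS s := by
  rw [mem_stabS, mem_stabS]
  constructor
  · rintro ⟨h1, h2⟩
    refine ⟨M24.mul_mem (M24.mul_mem (M24.inv_mem hh) h1) hh, ?_⟩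
    rw [mul_smul, mul_smul, h2, inv_smul_smul]
  · rintro ⟨h1, h2⟩
    refine ⟨?_, ?_⟩
    · have : g = h * (h⁻¹ * g * h) * h⁻¹ := by group
      rw [this]
      exact M24.mul_mem (M24.mul_mem hh h1) (M24.inv_mem hh)
    · have h3 : h⁻¹ • g • h • s = s := by
        rw [mul_smul, mul_smul] at h2
        exact h2
      rw [inv_smul_eq_iff] at h3
      exact h3

theorem card_stabilizer_M24 (s : Finset GolayPt) :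
    Nat.card (MulAction.stabilizer M24 s) = Nat.card (stabS s) :=
  card_inf_stabilizer_eq M24 s

theorem card_stabilizer_M24_eq_of_conj {s : Finset GolayPt} {h : Equiv.Perm GolayPt} (hh : h ∈ M24) :
    Nat.card (stabS (h • s)) = Nat.card (stabS s) :=
  card_eq_of_conj _ _ h (fun _ => mem_stabS_smul hh)

theorem card_stabS_Dd0 : Nat.card (stabS Dd0) = 95040 := by
  have h1 := card_set_step M24 Dd0 dodecads (fun g hg => M24_smul_dodecad hg Dd0_mem)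
    (fun y hy => M24_dodecad_trans Dd0_mem hy)
  rw [card_M24, dodecads_ncard] at h1
  have h2 : Nat.card ↥(M24 ⊓ MulAction.stabilizer (Equiv.Perm GolayPt) Dd0) = Nat.card (stabS Dd0) := rfl
  rw [h2] at h1
  omega

/-- Order of a dodecad stabiliser. -/
theorem card_stabS_dodecad {d : Finset GolayPt} (hd : d ∈ dodecads) : Nat.card (stabS d) = 95040 := by
  obtain ⟨h, hh, rfl⟩ := exists_conj_Dd0 hd
  rw [card_stabilizer_M24_eq_of_conj hh, card_stabS_Dd0]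

/-- Check of a level in the subgroup of `stabS (fs m)` fixing the list `G`. -/
def levelCheckS (m : ℕ) (G F : List ℕ) (b : ℕ) (D L : List ℕ) : Bool :=
  L.all (fun c => isAut c && Nat.beq (img c m) m && G.all (fun i => Nat.beq (pa c i) i) &&
      F.all (fun i => Nat.beq (pa c i) i)) &&
    D.all (fun y => L.any (fun c => Nat.beq (pa c b) y))

theorem levelOK_of_checkS {m : ℕ} {G F : List ℕ} {b : ℕ} {D L : List ℕ}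
    (h : levelCheckS m G F b D L = true) : LevelOK (fixIn (stabS (fs m)) G) F b D L := by
  simp only [levelCheckS, Bool.and_eq_true, List.all_eq_true, List.any_eq_true] at h
  obtain ⟨h1, h2⟩ := h
  refine ⟨fun c hc => isAut_valid (h1 c hc).1.1.1, fun c hc => ?_, ?_, ?_⟩
  · obtain ⟨⟨⟨h3, h4⟩, h5⟩, -⟩ := h1 c hc
    have hv := isAut_valid h3
    refine mem_fixIn.mpr ⟨mem_stabS.mpr ⟨mk_mem_M24 h3, ?_⟩, fun q hq => ?_⟩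
    · rw [← fs_img hv, Nat.eq_of_beq_eq_true h4]
    · apply idx_inj
      rw [idx_mk hv, Nat.eq_of_beq_eq_true (h5 _ hq)]
  · intro c hc i hi
    exact Nat.eq_of_beq_eq_true ((h1 c hc).2 i hi)
  · intro y hy
    obtain ⟨c, hc, hcy⟩ := h2 y hy
    exact ⟨c, hc, Nat.eq_of_beq_eq_true hcy⟩

theorem fixIn_fixIn_nil (K : Subgroup (Equiv.Perm GolayPt)) (G : List ℕ) :
    fixIn (fixIn K G) [] = fixIn K G := fixIn_nil _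

theorem fixIn_nil_eq (K : Subgroup (Equiv.Perm GolayPt)) : fixIn K [] = K := fixIn_nil _

/-- Targets inside a mask, off a list. -/
def offMask (m : ℕ) (F : List ℕ) : List ℕ :=
  (List.range 24).filter fun i => m.testBit i && !(F.contains i)

theorem mem_offMask {m i : ℕ} {F : List ℕ} : i ∈ offMask m F ↔ i < 24 ∧ m.testBit i = true ∧ i ∉ F := by
  simp [offMask]

theorem offMask_nodup (m : ℕ) (F : List ℕ) : (offMask m F).Nodup := (List.nodup_range).filter _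

theorem mem_offMask_of_fix {m : ℕ} {G F : List ℕ} {b : ℕ} (hb : b < 24) (hbF : b ∉ F)
    (hbm : m.testBit b = true) {g : Equiv.Perm GolayPt} (hg : g ∈ fixIn (fixIn (stabS (fs m)) G) F) :
    idx (g (pt b)) ∈ offMask m F := by
  refine mem_offMask.mpr ⟨idx_lt _, ?_, moved_of_fix hb hbF hg⟩
  obtain ⟨h1, -⟩ := mem_fixIn.mp hg
  obtain ⟨h2, -⟩ := mem_fixIn.mp h1
  obtain ⟨-, h3⟩ := mem_stabS.mp h2
  have := (mem_of_smul_eq h3 (pt b)).mpr ((mem_fs_pt hb).mpr hbm)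
  exact mem_fs.mp this

theorem lvK0 : LevelOK (fixIn (stabS Dd0) []) [] 0 DK0 TK0 := levelOK_of_checkS (by decide +kernel)
theorem lvK1 : LevelOK (fixIn (stabS Dd0) []) [0] 1 DK1 TK1 := levelOK_of_checkS (by decide +kernel)
theorem lvK2 : LevelOK (fixIn (stabS Dd0) []) [1, 0] 2 DK2 TK2 := levelOK_of_checkS (by decide +kernel)
theorem lvK3 : LevelOK (fixIn (stabS Dd0) []) [2, 1, 0] 3 DK3 TK3 := levelOK_of_checkS (by decide +kernel)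
theorem lvK4 : LevelOK (fixIn (stabS Dd0) []) [3, 2, 1, 0] 4 DK4 TK4 := levelOK_of_checkS (by decide +kernel)

theorem DK0_eq : DK0 = offMask dod0 [] := by decide +kernel
theorem DK1_eq : DK1 = offMask dod0 [0] := by decide +kernel
theorem DK2_eq : DK2 = offMask dod0 [1, 0] := by decide +kernel
theorem DK3_eq : DK3 = offMask dod0 [2, 1, 0] := by decide +kernel
theorem DK4_eq : DK4 = offMask dod0 [3, 2, 1, 0] := by decide +kernel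

/-- The base dodecad's stabiliser is sharply transitive at the bottom. -/
theorem fixIn_Dd0_bot : fixIn (stabS Dd0) [4, 3, 2, 1, 0] = ⊥ := by
  have hnil : ∀ F, fixIn (fixIn (stabS Dd0) []) F = fixIn (stabS Dd0) F := by
    intro F; rw [fixIn_nil]
  have h0 := card_level lvK0 (by norm_num) (by rw [DK0_eq]; exact offMask_nodup _ _)
    (fun g hg => by rw [DK0_eq]; exact mem_offMask_of_fix (by norm_num) (by simp) (by decide +kernel) hg)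
  have h1 := card_level lvK1 (by norm_num) (by rw [DK1_eq]; exact offMask_nodup _ _)
    (fun g hg => by rw [DK1_eq]; exact mem_offMask_of_fix (by norm_num) (by simp) (by decide +kernel) hg)
  have h2 := card_level lvK2 (by norm_num) (by rw [DK2_eq]; exact offMask_nodup _ _)
    (fun g hg => by rw [DK2_eq]; exact mem_offMask_of_fix (by norm_num) (by simp) (by decide +kernel) hg)
  have h3 := card_level lvK3 (by norm_num) (by rw [DK3_eq]; exact offMask_nodup _ _)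
    (fun g hg => by rw [DK3_eq]; exact mem_offMask_of_fix (by norm_num) (by simp) (by decide +kernel) hg)
  have h4 := card_level lvK4 (by norm_num) (by rw [DK4_eq]; exact offMask_nodup _ _)
    (fun g hg => by rw [DK4_eq]; exact mem_offMask_of_fix (by norm_num) (by simp) (by decide +kernel) hg)
  rw [fixIn_nil, fixIn_nil] at h0
  rw [hnil, hnil] at h1 h2 h3 h4
  rw [card_stabS_Dd0, h1, h2, h3, h4] at h0
  have hl0 : DK0.length = 12 := by decide +kernel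
  have hl1 : DK1.length = 11 := by decide +kernel
  have hl2 : DK2.length = 10 := by decide +kernel
  have hl3 : DK3.length = 9 := by decide +kernel
  have hl4 : DK4.length = 8 := by decide +kernel
  rw [hl0, hl1, hl2, hl3, hl4] at h0
  apply Subgroup.eq_bot_of_card_eq
  omega

theorem chain_Dd0 : ChainLv (stabS Dd0) Dd0 [] [0, 1, 2, 3, 4] := by
  have key : ∀ {F : List ℕ} {b : ℕ} {D L : List ℕ}, LevelOK (fixIn (stabS Dd0) []) F b D L →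
      D = offMask dod0 F → b < 24 →
      ∀ y ∈ Dd0, idx y ∉ F → ∃ g ∈ fixIn (stabS Dd0) F, g (pt b) = y := by
    intro F b D L h hD hb y hy hyF
    obtain ⟨g, hg, hgy⟩ := h.exists_fix hb (y := idx y)
      (by rw [hD]; exact mem_offMask.mpr ⟨idx_lt _, mem_fs.mp hy, hyF⟩)
    rw [fixIn_nil] at hg
    exact ⟨g, hg, idx_inj hgy⟩
  have hm : ∀ i, i < 24 → dod0.testBit i = true → pt i ∈ Dd0 := fun i hi h => (mem_fs_pt hi).mpr h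
  refine ⟨by norm_num, by simp, hm _ (by norm_num) (by decide +kernel), key lvK0 DK0_eq (by norm_num), ?_⟩
  refine ⟨by norm_num, by simp, hm _ (by norm_num) (by decide +kernel), key lvK1 DK1_eq (by norm_num), ?_⟩
  refine ⟨by norm_num, by simp, hm _ (by norm_num) (by decide +kernel), key lvK2 DK2_eq (by norm_num), ?_⟩
  refine ⟨by norm_num, by simp, hm _ (by norm_num) (by decide +kernel), key lvK3 DK3_eq (by norm_num), ?_⟩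
  refine ⟨by norm_num, by simp, hm _ (by norm_num) (by decide +kernel), key lvK4 DK4_eq (by norm_num), trivial⟩

theorem stabS_inv {s : Finset GolayPt} {g : Equiv.Perm GolayPt} (hg : g ∈ stabS s) : g • s = s :=
  (mem_stabS.mp hg).2

/-- The index tuple `0, …, 4`. -/
def bs5 : Fin 5 → ℕ := fun i => i.val

theorem bs5_list : List.ofFn bs5 = [0, 1, 2, 3, 4] := by decide

/-- Existence part of sharp 5-transitivity at the base dodecad. -/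
theorem base_tuple (x : Fin 5 ↪ GolayPt) (hx : ∀ i, x i ∈ Dd0) :
    ∃ g ∈ stabS Dd0, ∀ i, g (pt (bs5 i)) = x i := by
  refine chain_embedding (fun g hg => stabS_inv hg) 5 bs5 ?_ x hx
  rw [bs5_list]
  exact chain_Dd0

theorem mem_Dd0_smul {h : Equiv.Perm GolayPt} {q : GolayPt} : h⁻¹ q ∈ Dd0 ↔ q ∈ h • Dd0 := by
  rw [Finset.mem_smul_finset]
  constructor
  · intro hq
    exact ⟨_, hq, by simp⟩
  · rintro ⟨a, ha, rfl⟩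
    have : h⁻¹ (h • a) = a := by simp
    rwa [this]

/-- Sharp 5-transitivity of a dodecad stabiliser. -/
theorem dod_sharp {d : Finset GolayPt} (hd : d ∈ dodecads) (x y : Fin 5 ↪ GolayPt)
    (hx : ∀ i, x i ∈ d) (hy : ∀ i, y i ∈ d) :
    (∃ g ∈ stabS d, ∀ i, g (x i) = y i) ∧
      ∀ g ∈ stabS d, ∀ g' ∈ stabS d, (∀ i, g (x i) = y i) → (∀ i, g' (x i) = y i) → g = g' := by
  obtain ⟨h, hh, rfl⟩ := exists_conj_Dd0 hd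
  have hemb : ∀ z : Fin 5 ↪ GolayPt, (∀ i, z i ∈ h • Dd0) →
      ∃ g ∈ stabS Dd0, ∀ i, g (pt (bs5 i)) = h⁻¹ (z i) := by
    intro z hz
    exact base_tuple (z.trans (Equiv.toEmbedding h⁻¹)) (fun i => mem_Dd0_smul.mpr (hz i))
  obtain ⟨g1, hg1, h1⟩ := hemb x hx
  obtain ⟨g2, hg2, h2⟩ := hemb y hy
  constructor
  · refine ⟨h * (g2 * g1⁻¹) * h⁻¹, ?_, fun i => ?_⟩
    · rw [mem_stabS_smul hh]
      have : h⁻¹ * (h * (g2 * g1⁻¹) * h⁻¹) * h = g2 * g1⁻¹ := by group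
      rw [this]
      exact (stabS Dd0).mul_mem hg2 ((stabS Dd0).inv_mem hg1)
    · simp only [Equiv.Perm.mul_apply]
      rw [← h1 i]
      simp [h2 i]
  · intro g hg g' hg' hge hge'
    have hu : (h * g1)⁻¹ * g'⁻¹ * g * (h * g1) ∈ fixIn (stabS Dd0) [4, 3, 2, 1, 0] := by
      refine mem_fixIn.mpr ⟨?_, fun q hq => ?_⟩
      · have : (h * g1)⁻¹ * g'⁻¹ * g * (h * g1) = g1⁻¹ * (h⁻¹ * (g'⁻¹ * g) * h) * g1 := by group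
        rw [this]
        refine (stabS Dd0).mul_mem ((stabS Dd0).mul_mem ((stabS Dd0).inv_mem hg1) ?_) hg1
        rw [← mem_stabS_smul hh]
        exact (stabS _).mul_mem ((stabS _).inv_mem hg') hg
      · have hlt : idx q < 5 := by
          simp only [List.mem_cons, List.not_mem_nil, or_false] at hq
          omega
        have hq' : q = pt (bs5 ⟨idx q, hlt⟩) := (pt_idx q).symm
        have h3 : g1 q = h⁻¹ (x ⟨idx q, hlt⟩) := by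
          conv_lhs => rw [hq']
          exact h1 _
        have h4 : g' (x ⟨idx q, hlt⟩) = g (x ⟨idx q, hlt⟩) := by rw [hge, hge']
        simp only [Equiv.Perm.mul_apply]
        rw [h3]
        have h5 : h (h⁻¹ (x ⟨idx q, hlt⟩)) = x ⟨idx q, hlt⟩ := by simp
        rw [h5, ← h4]
        simp only [mul_inv_rev, Equiv.Perm.mul_apply]
        have h6 : g'⁻¹ (g' (x ⟨idx q, hlt⟩)) = x ⟨idx q, hlt⟩ := by simp
        rw [h6, ← h3]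
        simp
    rw [fixIn_Dd0_bot, Subgroup.mem_bot] at hu
    have : g'⁻¹ * g = 1 := by
      have h5 : g'⁻¹ * g = (h * g1) * ((h * g1)⁻¹ * g'⁻¹ * g * (h * g1)) * (h * g1)⁻¹ := by group
      rw [h5, hu]; group
    exact (inv_mul_eq_one.mp this).symm

/-- A dodecad stabiliser is transitive on the dodecad. -/
theorem dod_pt_trans {d : Finset GolayPt} (hd : d ∈ dodecads) {p q : GolayPt} (hp : p ∈ d) (hq : q ∈ d) :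
    ∃ g ∈ stabS d, g p = q := by
  obtain ⟨h, hh, rfl⟩ := exists_conj_Dd0 hd
  have hbase : ∀ y ∈ Dd0, ∃ g ∈ stabS Dd0, g (pt 0) = y := by
    intro y hy
    obtain ⟨g, hg, hgy⟩ := lvK0.exists_fix (by norm_num) (y := idx y)
      (by rw [DK0_eq]; exact mem_offMask.mpr ⟨idx_lt _, mem_fs.mp hy, by simp⟩)
    rw [fixIn_nil, fixIn_nil] at hg
    exact ⟨g, hg, idx_inj hgy⟩
  obtain ⟨g1, hg1, h1⟩ := hbase _ (mem_Dd0_smul.mpr hp)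
  obtain ⟨g2, hg2, h2⟩ := hbase _ (mem_Dd0_smul.mpr hq)
  refine ⟨h * (g2 * g1⁻¹) * h⁻¹, ?_, ?_⟩
  · rw [mem_stabS_smul hh]
    have : h⁻¹ * (h * (g2 * g1⁻¹) * h⁻¹) * h = g2 * g1⁻¹ := by group
    rw [this]
    exact (stabS Dd0).mul_mem hg2 ((stabS Dd0).inv_mem hg1)
  · simp only [Equiv.Perm.mul_apply]
    rw [← h1]
    simp [h2]

/-- Conjugating the pair (dodecad, point) to the base pair. -/
theorem exists_conj_Dd0_pt {d : Finset GolayPt} (hd : d ∈ dodecads) {p : GolayPt} (hp : p ∈ d) :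
    ∃ h ∈ M24, h • Dd0 = d ∧ h (pt 0) = p := by
  obtain ⟨h, hh, rfl⟩ := exists_conj_Dd0 hd
  obtain ⟨g, hg, hgp⟩ := dod_pt_trans hd (p := h (pt 0)) (q := p)
    (Finset.mem_smul_finset.mpr ⟨_, (mem_fs_pt (by norm_num)).mpr (by decide +kernel), rfl⟩) hp
  refine ⟨g * h, M24.mul_mem (mem_stabS.mp hg).1 hh, ?_, hgp⟩
  rw [mul_smul]
  exact (mem_stabS.mp hg).2

/-- Order of the stabiliser of a dodecad and a point on it. -/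
theorem card_stab_dod_pt {d : Finset GolayPt} (hd : d ∈ dodecads) {p : GolayPt} (hp : p ∈ d) :
    Nat.card ↥(stabS d ⊓ MulAction.stabilizer (Equiv.Perm GolayPt) p) = 7920 := by
  have h1 := card_set_step (stabS d) p (↑d : Set GolayPt)
    (fun g hg => by
      have := (mem_of_smul_eq (mem_stabS.mp hg).2 p).mpr hp
      exact this)
    (fun y hy => dod_pt_trans hd hp hy)
  rw [card_stabS_dodecad hd, Set.ncard_coe_finset, hd.2] at h1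
  omega

end CfsgLib.Golay
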