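/-
Elements of prime order in the stabiliser of a point in the dodecad of squares fix a point outside it.
-/
import Cfsg.Agent.Lib.Golay.ClassUse
import Cfsg.Prelude.Def_Spor_Mathieu

set_option autoImplicit false

namespace CfsgLib.Golay

open Cfsg
open scoped Pointwise

/-- The mask of the dodecad of squares. -/
def sqMask : ℕ := qrMasks.getD 0 0

theorem sq_eq : Spor.squareDodecad = fs sqMask := by
  unfold Spor.squareDodecad
  have h := qrWord_eq 0
  rw [h]
  exact support_word _

theorem sq_dod : Spor.squareDodecad ∈ dodecads := by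
  rw [sq_eq, mem_dodecads_iff]
  exact ⟨sqMask, by decide +kernel, by decide +kernel, rfl⟩

/-- The check for elements of order three. -/
theorem t3A_no_dodecad : ∀ a ∈ dodecadList, Nat.beq (img t3A a) a = true →
    Nat.land (fixM t3A 24) a ≠ fixM t3A 24 := by decide +kernel

theorem elusive {g : Equiv.Perm GolayPt} (hg : g ∈ Spor.M11) (hord : (orderOf g).Prime) :
    ∃ x : GolayPt, x ∉ Spor.squareDodecad ∧ g x = x := by
  classical
  have hm : g ∈ M24 := hg.1.1
  have hd : g • Spor.squareDodecad = Spor.squareDodecad := hg.1.2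
  have h0 : g (some 0) = some 0 := hg.2
  by_contra hno
  simp only [not_exists, not_and] at hno
  have hfix : ∀ x, g x = x → x ∈ Spor.squareDodecad := by
    intro x hx
    by_contra h
    exact hno x h hx
  have : Fact (orderOf g).Prime := ⟨hord⟩
  have hinv : ∀ x, g x ∉ Spor.squareDodecad ↔ x ∉ Spor.squareDodecad := fun x =>
    not_congr (mem_of_smul_eq hd x)
  let y : Equiv.Perm {x // x ∉ Spor.squareDodecad} := g.subtypePerm hinv
  have hy : y ^ ((orderOf g) ^ 1) = 1 := by
    ext1 ⟨p, hp⟩
    apply Subtype.ext
    simp only [pow_one]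
    rw [Equiv.Perm.subtypePerm_pow]
    have : (g ^ orderOf g) p = p := by rw [pow_orderOf_eq_one]; rfl
    simpa [Equiv.Perm.subtypePerm_apply] using this
  have h1 := Equiv.Perm.card_compl_support_modEq hy
  have h2 : Fintype.card {x // x ∉ Spor.squareDodecad} = 12 := by
    rw [Fintype.card_subtype_compl, Fintype.card_coe]
    have h3 : Spor.squareDodecad.card = 12 := sq_dod.2
    simp [h3, GolayPt, Fintype.card_option]
  have h4 : (y.support)ᶜ.card = 0 := by
    rw [Finset.card_eq_zero]
    ext ⟨p, hp⟩
    simp only [Finset.mem_compl, Equiv.Perm.mem_support, not_not, Finset.notMem_empty, iff_false]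
    intro h5
    apply hno p hp
    have := congrArg Subtype.val h5
    simpa [y] using this
  rw [h2, h4] at h1
  have h5 : orderOf g ∣ 12 := (Nat.modEq_zero_iff_dvd.mp h1.symm)
  have h6 : orderOf g = 2 ∨ orderOf g = 3 := by
    have h7 : orderOf g ≤ 12 := Nat.le_of_dvd (by norm_num) h5
    have h8 := hord
    generalize orderOf g = p at *
    interval_cases p <;> first | omega | (exfalso; revert h8; norm_num) | (exfalso; revert h5; norm_num)
  rcases h6 with h6 | h6
  · rcases invol_cases hm h6 with ⟨k, hk, e⟩ | ⟨-, h7⟩
    · have h7 : (Finset.univ.filter fun p => g p = p) ∈ octads := by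
        apply fix_octad_of_conj hk
        rw [e]
        exact fix_t2A_mem
      have h8 := octad_dodecad_inter h7 sq_dod
      have h9 : (Finset.univ.filter fun p => g p = p) ∩ Spor.squareDodecad = (Finset.univ.filter fun p => g p = p) := by
        apply Finset.inter_eq_left.mpr
        intro x hx
        exact hfix x (Finset.mem_filter.mp hx).2
      rw [h9, h7.2] at h8
      omega
    · exact h7 _ h0
  · rcases ord3_cases hm h6 with ⟨k, hk, e⟩ | ⟨-, h7⟩
    · have h8 : k • Spor.squareDodecad ∈ dodecads := M24_smul_dodecad hk sq_dod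
      obtain ⟨a, ha, h9, h10⟩ := (mem_dodecads_iff _).mp h8
      have h11 : CfsgLib.Golay.mk t3A • fs a = fs a := by
        rw [← h10, ← e, mul_smul, mul_smul, inv_smul_smul, hd]
      have h12 : img t3A a = a := by
        rw [← fs_img t3A_valid] at h11
        exact eq_of_fs_eq (img_lt t3A_valid a) (allCode_lt_aux a ha) h11
      have h13 : Nat.land (fixM t3A 24) a = fixM t3A 24 := by
        have h14 : fs (fixM t3A 24) ⊆ fs a := by
          rw [← fix_eq_fs t3A_valid, ← e, fix_conj_set, ← h10]
          exact Finset.smul_finset_subset_smul_finset (fun x hx => hfix x (Finset.mem_filter.mp hx).2)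
        have h15 : fs (fixM t3A 24 &&& a) = fs (fixM t3A 24) := by
          rw [fs_land]
          exact Finset.inter_eq_left.mpr h14
        have hlt : fixM t3A 24 < 2 ^ 24 := by decide +kernel
        exact eq_of_fs_eq (lt_of_le_of_lt Nat.and_le_left hlt) hlt h15
      exact t3A_no_dodecad a (mem_dodecadList.mpr ⟨ha, h9⟩) (by rw [h12]; exact Nat.beq_refl a) h13
    · exact h7 _ h0

end CfsgLib.Golay
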