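/-
Sextets and trios of the octad system: structure and counts.
-/
import Cfsg.Agent.Lib.Golay.Triads
import Cfsg.Agent.Lib.Golay.OctadOrbit
import Cfsg.Prelude.Def_SporadicCombinatorics

set_option autoImplicit false

namespace CfsgLib.Golay

open Cfsg
open scoped Pointwise

/-- All octads, as a finite set. -/
noncomputable def allOct : Finset (Finset GolayPt) := (Set.toFinite octads).toFinset

@[simp] theorem mem_allOct {o : Finset GolayPt} : o ∈ allOct ↔ o ∈ octads := by
  simp [allOct]

theorem octad_card {o : Finset GolayPt} (ho : o ∈ octads) : o.card = 8 := ho.2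

/-- The symmetric difference of two octads meeting in four points is an octad. -/
theorem octad_symmDiff {o o' : Finset GolayPt} (ho : o ∈ octads) (ho' : o' ∈ octads)
    (h : (o ∩ o').card = 4) : symmDiff o o' ∈ octads := by
  obtain ⟨a, ha, h8a, rfl⟩ := (mem_octads_iff o).mp ho
  obtain ⟨c, hc, h8c, rfl⟩ := (mem_octads_iff o').mp ho'
  rw [← fs_xor]
  refine (mem_octads_iff _).mpr ⟨_, xor_mem_allCode ha hc, ?_, rfl⟩
  have h1 := pop_xor_add a c
  rw [card_inter_fs] at h
  omega

/-- The mask of all points. -/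
theorem fs_full : fs 0xffffff = Finset.univ := by
  ext p
  simp only [mem_fs, Finset.mem_univ, iff_true]
  exact testBit_full.mpr (idx_lt p)

theorem full_mem_allCode : 0xffffff ∈ allCode :=
  mem_allCode_of_isCode (by decide +kernel)

theorem compl_code {a : ℕ} (ha : a ∈ allCode) : 0xffffff ^^^ a ∈ allCode :=
  xor_mem_allCode full_mem_allCode ha

/-- Complement of the union of two disjoint octads is an octad. -/
theorem compl_union_octad {o o' : Finset GolayPt} (ho : o ∈ octads) (ho' : o' ∈ octads)
    (hd : Disjoint o o') : (o ∪ o')ᶜ ∈ octads := by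
  obtain ⟨a, ha, h8a, rfl⟩ := (mem_octads_iff o).mp ho
  obtain ⟨c, hc, h8c, rfl⟩ := (mem_octads_iff o').mp ho'
  have h0 : pop (a &&& c) = 0 := by
    rw [← card_inter_fs, Finset.disjoint_iff_inter_eq_empty.mp hd]; rfl
  have h1 := pop_xor_add a c
  have h2 : pop (a ^^^ c) = 16 := by omega
  have h3 := pop_xor_add 0xffffff (a ^^^ c)
  have h4 : (0xffffff : ℕ) &&& (a ^^^ c) = a ^^^ c := by
    apply Nat.eq_of_testBit_eq
    intro i
    rw [Nat.testBit_and]
    by_cases hi : i < 24
    · rw [testBit_full.mpr hi]; simp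
    · have hlt : a ^^^ c < 2 ^ 24 := by
        have h5 := allCode_lt_aux _ (xor_mem_allCode ha hc)
        exact h5
      have h6 : (2 : ℕ) ^ 24 ≤ 2 ^ i := Nat.pow_le_pow_right (by norm_num) (by omega)
      rw [Nat.testBit_lt_two_pow (lt_of_lt_of_le hlt h6)]
      simp
  rw [h4] at h3
  have h5 : pop 0xffffff = 24 := by decide +kernel
  refine (mem_octads_iff _).mpr ⟨0xffffff ^^^ (a ^^^ c), compl_code (xor_mem_allCode ha hc), by omega, ?_⟩
  ext p
  simp only [Finset.mem_compl, Finset.mem_union, mem_fs, Nat.testBit_xor, testBit_full.mpr (idx_lt p)]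
  have h6 : a.testBit (idx p) = true → c.testBit (idx p) = false := by
    intro h7
    have := Finset.disjoint_left.mp hd (mem_fs.mpr h7)
    simpa using this
  cases h7 : a.testBit (idx p) <;> cases h8 : c.testBit (idx p) <;> simp_all

/-! ### Sextets -/

/-- The sextet through a four-set. -/
noncomputable def sextOf (t : Finset GolayPt) : Finset (Finset GolayPt) :=
  insert t ((allOct.filter (fun o => t ⊆ o)).image (fun o => o \ t))

theorem card_octads_through {t : Finset GolayPt} (ht : t.card = 4) :
    (allOct.filter (fun o => t ⊆ o)).card = 5 := by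
  have h := CfsgLib.Steiner.card_blocks_through octads_steiner t (by omega)
  rw [ht] at h
  have h2 : Fintype.card GolayPt = 24 := by decide +kernel
  rw [h2] at h
  have h3 : CfsgLib.Steiner.num octads t ∅ = (allOct.filter (fun o => t ⊆ o)).card := by
    unfold CfsgLib.Steiner.num
    rw [← Set.ncard_coe_finset]
    congr 1
    ext b
    simp
  rw [h3] at h
  norm_num at h
  omega

theorem sdiff_inj_of_subset {t o o' : Finset GolayPt} (h1 : t ⊆ o) (h2 : t ⊆ o') (h : o \ t = o' \ t) :
    o = o' := by
  have h3 : o = (o \ t) ∪ t := (Finset.sdiff_union_of_subset h1).symm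
  have h4 : o' = (o' \ t) ∪ t := (Finset.sdiff_union_of_subset h2).symm
  rw [h3, h4, h]

theorem octad_inter_through {t o o' : Finset GolayPt} (ht : t.card = 4) (ho : o ∈ octads)
    (ho' : o' ∈ octads) (h1 : t ⊆ o) (h2 : t ⊆ o') (hne : o ≠ o') : o ∩ o' = t := by
  symm
  apply Finset.eq_of_subset_of_card_le (Finset.subset_inter h1 h2)
  by_contra hlt
  apply hne
  apply octad_unique ho ho'
  omega

theorem card_sdiff_octad {t o : Finset GolayPt} (ht : t.card = 4) (ho : o ∈ octads) (h1 : t ⊆ o) :
    (o \ t).card = 4 := by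
  rw [Finset.card_sdiff_of_subset h1, ho.2, ht]

theorem sdiff_ne_self {t o : Finset GolayPt} (ht : t.card = 4) : o \ t ≠ t := by
  intro h
  have hne : t.Nonempty := by
    rw [← Finset.card_pos]; omega
  obtain ⟨x, hx⟩ := hne
  have h2 : x ∈ o \ t := by rw [h]; exact hx
  exact (Finset.mem_sdiff.mp h2).2 hx

theorem card_sextOf {t : Finset GolayPt} (ht : t.card = 4) : (sextOf t).card = 6 := by
  unfold sextOf
  rw [Finset.card_insert_of_notMem, Finset.card_image_of_injOn, card_octads_through ht]
  · intro o ho o' ho' h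
    have h1 := (Finset.mem_filter.mp (Finset.mem_coe.mp ho)).2
    have h2 := (Finset.mem_filter.mp (Finset.mem_coe.mp ho')).2
    exact sdiff_inj_of_subset h1 h2 h
  · intro h
    obtain ⟨o, -, ho⟩ := Finset.mem_image.mp h
    exact sdiff_ne_self ht ho

theorem mem_sextOf {t u : Finset GolayPt} :
    u ∈ sextOf t ↔ u = t ∨ ∃ o ∈ octads, t ⊆ o ∧ o \ t = u := by
  simp [sextOf, Finset.mem_insert, Finset.mem_image, Finset.mem_filter, and_assoc]

theorem self_mem_sextOf (t : Finset GolayPt) : t ∈ sextOf t := mem_sextOf.mpr (Or.inl rfl)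

theorem sextOf_mem {t : Finset GolayPt} (ht : t.card = 4) : sextOf t ∈ sextets := by
  refine ⟨card_sextOf ht, ?_, ?_⟩
  · intro u hu
    rcases mem_sextOf.mp hu with rfl | ⟨o, ho, h1, rfl⟩
    · exact ht
    · exact card_sdiff_octad ht ho h1
  · intro u hu v hv huv
    rcases mem_sextOf.mp hu with rfl | ⟨o, ho, h1, rfl⟩ <;> rcases mem_sextOf.mp hv with rfl | ⟨o', ho', h2, rfl⟩
    · exact absurd rfl huv
    · rw [Finset.union_sdiff_of_subset h2]; exact ho'
    · rw [Finset.sdiff_union_of_subset h1]; exact ho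
    · have hne : o ≠ o' := by
        rintro rfl
        exact huv rfl
      have h3 := octad_inter_through ht ho ho' h1 h2 hne
      have h4 := octad_symmDiff ho ho' (by rw [h3]; exact ht)
      have h5 : symmDiff o o' = o \ t ∪ o' \ t := by
        ext x
        simp only [Finset.mem_symmDiff, Finset.mem_union, Finset.mem_sdiff]
        constructor
        · rintro (⟨h6, h7⟩ | ⟨h6, h7⟩)
          · exact Or.inl ⟨h6, fun h8 => h7 (h2 h8)⟩
          · exact Or.inr ⟨h6, fun h8 => h7 (h1 h8)⟩
        · rintro (⟨h6, h7⟩ | ⟨h6, h7⟩)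
          · refine Or.inl ⟨h6, fun h8 => h7 ?_⟩
            rw [← h3]
            exact Finset.mem_inter.mpr ⟨h6, h8⟩
          · refine Or.inr ⟨h6, fun h8 => h7 ?_⟩
            rw [← h3]
            exact Finset.mem_inter.mpr ⟨h8, h6⟩
      rw [← h5]
      exact h4

theorem sextet_disjoint {S : Finset (Finset GolayPt)} (hS : S ∈ sextets) {t u : Finset GolayPt}
    (ht : t ∈ S) (hu : u ∈ S) (htu : t ≠ u) : Disjoint t u := by
  have h1 := hS.2.2 t ht u hu htu
  have h2 := h1.2
  have h3 := Finset.card_union_add_card_inter t u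
  rw [h2, hS.2.1 t ht, hS.2.1 u hu] at h3
  rw [Finset.disjoint_iff_inter_eq_empty, ← Finset.card_eq_zero]
  omega

/-- A sextet is determined by any of its tetrads. -/
theorem sextet_eq_sextOf {S : Finset (Finset GolayPt)} (hS : S ∈ sextets) {t : Finset GolayPt}
    (ht : t ∈ S) : S = sextOf t := by
  have h4 := hS.2.1 t ht
  apply Finset.eq_of_subset_of_card_le
  · intro u hu
    by_cases h : u = t
    · rw [h]; exact self_mem_sextOf t
    · refine mem_sextOf.mpr (Or.inr ⟨t ∪ u, hS.2.2 t ht u hu (Ne.symm h), Finset.subset_union_left, ?_⟩)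
      have hd := sextet_disjoint hS ht hu (Ne.symm h)
      ext x
      simp only [Finset.mem_sdiff, Finset.mem_union]
      constructor
      · rintro ⟨h1 | h1, h2⟩
        · exact absurd h1 h2
        · exact h1
      · intro h1
        exact ⟨Or.inr h1, fun h2 => Finset.disjoint_left.mp hd h2 h1⟩
  · rw [card_sextOf h4, hS.1]

theorem sextOf_eq_of_mem {t u : Finset GolayPt} (ht : t.card = 4) (hu : u ∈ sextOf t) :
    sextOf u = sextOf t :=
  (sextet_eq_sextOf (sextOf_mem ht) hu).symm

/-- Tetrads cover the points. -/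
theorem sextet_cover {S : Finset (Finset GolayPt)} (hS : S ∈ sextets) (p : GolayPt) : ∃ t ∈ S, p ∈ t := by
  have h1 : (S.biUnion id).card = 24 := by
    rw [Finset.card_biUnion]
    · rw [Finset.sum_congr rfl (fun t ht => (hS.2.1 t ht : (id t).card = 4)), Finset.sum_const, hS.1]
      rfl
    · intro t ht u hu htu
      exact sextet_disjoint hS ht hu htu
  have h2 : S.biUnion id = Finset.univ := by
    apply Finset.eq_univ_of_card
    rw [h1]
    decide +kernel
  have h3 : p ∈ S.biUnion id := by rw [h2]; exact Finset.mem_univ p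
  simpa using h3

/-- Existence and uniqueness of the sextet through a four-set. -/
theorem sextet_existsUnique {t : Finset GolayPt} (ht : t.card = 4) :
    ∃! S : Finset (Finset GolayPt), S ∈ sextets ∧ t ∈ S :=
  ⟨sextOf t, ⟨sextOf_mem ht, self_mem_sextOf t⟩, fun S hS => sextet_eq_sextOf hS.1 hS.2⟩

/-- All sextets, as a finite set. -/
noncomputable def allSext : Finset (Finset (Finset GolayPt)) := (Set.toFinite sextets).toFinset

@[simp] theorem mem_allSext {S : Finset (Finset GolayPt)} : S ∈ allSext ↔ S ∈ sextets := by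
  simp [allSext]

/-- The number of sextets. -/
theorem sextets_ncard : sextets.ncard = 1771 := by
  classical
  have hcount := Finset.card_eq_sum_card_fiberwise (s := Finset.powersetCard 4 (Finset.univ : Finset GolayPt))
    (t := allSext) (f := sextOf) (by
      intro t ht
      have h := (Finset.mem_powersetCard.mp ht).2
      exact mem_allSext.mpr (sextOf_mem h))
  have hfib : ∀ S ∈ allSext, ((Finset.powersetCard 4 (Finset.univ : Finset GolayPt)).filter
      (fun t => sextOf t = S)).card = 6 := by
    intro S hS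
    have hS' := mem_allSext.mp hS
    have : (Finset.powersetCard 4 (Finset.univ : Finset GolayPt)).filter (fun t => sextOf t = S) = S := by
      ext t
      simp only [Finset.mem_filter, Finset.mem_powersetCard]
      constructor
      · rintro ⟨⟨-, h⟩, rfl⟩
        exact self_mem_sextOf t
      · intro ht
        exact ⟨⟨Finset.subset_univ _, hS'.2.1 t ht⟩, (sextet_eq_sextOf hS' ht).symm⟩
    rw [this, hS'.1]
  rw [Finset.sum_congr rfl hfib, Finset.sum_const, Finset.card_powersetCard, smul_eq_mul] at hcount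
  have h24 : (Finset.univ : Finset GolayPt).card = 24 := by decide +kernel
  rw [h24] at hcount
  have h10626 : Nat.choose 24 4 = 10626 := by decide +kernel
  rw [h10626] at hcount
  have h1 : sextets.ncard = allSext.card := by
    rw [← Set.ncard_coe_finset]
    congr 1
    ext S
    simp
  omega

/-- The sextets are permuted by the group. -/
theorem M24_smul_sextet {g : Equiv.Perm GolayPt} (hg : g ∈ M24) {S : Finset (Finset GolayPt)}
    (hS : S ∈ sextets) : g • S ∈ sextets := by
  refine ⟨?_, ?_, ?_⟩
  · rw [Finset.card_smul_finset]; exact hS.1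
  · intro t ht
    obtain ⟨u, hu, rfl⟩ := Finset.mem_smul_finset.mp ht
    rw [Finset.card_smul_finset]
    exact hS.2.1 u hu
  · intro t ht u hu htu
    obtain ⟨t', ht', rfl⟩ := Finset.mem_smul_finset.mp ht
    obtain ⟨u', hu', rfl⟩ := Finset.mem_smul_finset.mp hu
    rw [union_smul]
    refine M24_smul_octad hg (hS.2.2 t' ht' u' hu' ?_)
    rintro rfl
    exact htu rfl

/-- `M24` is transitive on sextets. -/
theorem M24_sextet_trans {S S' : Finset (Finset GolayPt)} (hS : S ∈ sextets) (hS' : S' ∈ sextets) :
    ∃ g ∈ M24, g • S = S' := by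
  obtain ⟨t, ht⟩ : S.Nonempty := by
    rw [← Finset.card_pos, hS.1]; norm_num
  obtain ⟨t', ht'⟩ : S'.Nonempty := by
    rw [← Finset.card_pos, hS'.1]; norm_num
  obtain ⟨g, hg, hgt⟩ := M24_map_finset ((hS.2.1 t ht).trans (hS'.2.1 t' ht').symm) (by rw [hS.2.1 t ht]; norm_num)
  refine ⟨g, hg, ?_⟩
  rw [sextet_eq_sextOf hS' ht']
  apply sextet_eq_sextOf (M24_smul_sextet hg hS)
  rw [← hgt]
  exact Finset.smul_mem_smul_finset ht

/-! ### Trios -/

theorem disjoint_compl_union (o o' : Finset GolayPt) : Disjoint o (o ∪ o')ᶜ := by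
  rw [Finset.disjoint_left]
  intro x hx h
  exact (Finset.mem_compl.mp h) (Finset.mem_union_left _ hx)

theorem disjoint_compl_union' (o o' : Finset GolayPt) : Disjoint o' (o ∪ o')ᶜ := by
  rw [Finset.disjoint_left]
  intro x hx h
  exact (Finset.mem_compl.mp h) (Finset.mem_union_right _ hx)

/-- The trio through two disjoint octads. -/
def trioOf (o o' : Finset GolayPt) : Finset (Finset GolayPt) := {o, o', (o ∪ o')ᶜ}

theorem trioOf_mem {o o' : Finset GolayPt} (ho : o ∈ octads) (ho' : o' ∈ octads) (hd : Disjoint o o') :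
    trioOf o o' ∈ trios := by
  have hc := compl_union_octad ho ho' hd
  have h1 : o ≠ o' := by
    rintro rfl
    have : o = ∅ := by simpa using hd
    rw [this] at ho
    have := ho.2
    simp at this
  have h2 : o ≠ (o ∪ o')ᶜ := by
    intro h
    have h3 := disjoint_compl_union o o'
    rw [← h] at h3
    have : o = ∅ := by simpa using h3
    rw [this] at ho
    have := ho.2
    simp at this
  have h3 : o' ≠ (o ∪ o')ᶜ := by
    intro h
    have h3 := disjoint_compl_union' o o'
    rw [← h] at h3
    have : o' = ∅ := by simpa using h3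
    rw [this] at ho'
    have := ho'.2
    simp at this
  refine ⟨?_, ?_, ?_⟩
  · unfold trioOf
    rw [Finset.card_insert_of_notMem, Finset.card_insert_of_notMem, Finset.card_singleton]
    · rw [Finset.mem_singleton]; exact h3
    · rw [Finset.mem_insert, Finset.mem_singleton]
      rintro (h | h)
      · exact h1 h
      · exact h2 h
  · intro x hx
    simp only [trioOf, Finset.mem_insert, Finset.mem_singleton] at hx
    rcases hx with rfl | rfl | rfl
    · exact ho
    · exact ho'
    · exact hc
  · intro x hx y hy hxy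
    simp only [trioOf, Finset.mem_insert, Finset.mem_singleton] at hx hy
    rcases hx with rfl | rfl | rfl <;> rcases hy with rfl | rfl | rfl
    · exact absurd rfl hxy
    · exact hd
    · exact disjoint_compl_union _ _
    · exact hd.symm
    · exact absurd rfl hxy
    · exact disjoint_compl_union' _ _
    · exact (disjoint_compl_union _ _).symm
    · exact (disjoint_compl_union' _ _).symm
    · exact absurd rfl hxy

/-- A trio is determined by two of its octads. -/
theorem trio_eq_trioOf {T : Finset (Finset GolayPt)} (hT : T ∈ trios) {o o' : Finset GolayPt}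
    (ho : o ∈ T) (ho' : o' ∈ T) (hne : o ≠ o') : T = trioOf o o' := by
  have hd := hT.2.2 o ho o' ho' hne
  have h8 := hT.2.1 o ho
  have h8' := hT.2.1 o' ho'
  have hcd : (o ∪ o')ᶜ ∈ T := by
    -- the third member of the trio
    have hc3 : ((T.erase o).erase o').Nonempty := by
      rw [← Finset.card_pos, Finset.card_erase_of_mem (Finset.mem_erase.mpr ⟨Ne.symm hne, ho'⟩),
        Finset.card_erase_of_mem ho, hT.1]
      norm_num
    obtain ⟨z, hz⟩ := hc3
    obtain ⟨hz1, hz2⟩ := Finset.mem_erase.mp hz
    obtain ⟨hz3, hz4⟩ := Finset.mem_erase.mp hz2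
    have hz8 := hT.2.1 z hz4
    have hd1 := hT.2.2 z hz4 o ho hz3
    have hd2 := hT.2.2 z hz4 o' ho' hz1
    have : z = (o ∪ o')ᶜ := by
      apply Finset.eq_of_subset_of_card_le
      · intro x hx
        rw [Finset.mem_compl, Finset.mem_union]
        rintro (h | h)
        · exact Finset.disjoint_left.mp hd1 hx h
        · exact Finset.disjoint_left.mp hd2 hx h
      · rw [Finset.card_compl, Finset.card_union_of_disjoint hd, h8.2, h8'.2, hz8.2]
        decide +kernel
    exact this ▸ hz4
  symm
  apply Finset.eq_of_subset_of_card_le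
  · intro x hx
    simp only [trioOf, Finset.mem_insert, Finset.mem_singleton] at hx
    rcases hx with rfl | rfl | rfl
    · exact ho
    · exact ho'
    · exact hcd
  · rw [hT.1, (trioOf_mem h8 h8' hd).1]

theorem M24_smul_trio {g : Equiv.Perm GolayPt} (hg : g ∈ M24) {T : Finset (Finset GolayPt)}
    (hT : T ∈ trios) : g • T ∈ trios := by
  refine ⟨?_, ?_, ?_⟩
  · rw [Finset.card_smul_finset]; exact hT.1
  · intro t ht
    obtain ⟨u, hu, rfl⟩ := Finset.mem_smul_finset.mp ht
    exact M24_smul_octad hg (hT.2.1 u hu)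
  · intro t ht u hu htu
    obtain ⟨t', ht', rfl⟩ := Finset.mem_smul_finset.mp ht
    obtain ⟨u', hu', rfl⟩ := Finset.mem_smul_finset.mp hu
    rw [disjoint_smul]
    refine hT.2.2 t' ht' u' hu' ?_
    rintro rfl
    exact htu rfl

theorem trioOf_comm (o o' : Finset GolayPt) : trioOf o o' = trioOf o' o := by
  unfold trioOf
  rw [Finset.union_comm, Finset.insert_comm]

theorem mem_trioOf_left (o o' : Finset GolayPt) : o ∈ trioOf o o' := by simp [trioOf]
theorem mem_trioOf_right (o o' : Finset GolayPt) : o' ∈ trioOf o o' := by simp [trioOf]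

/-- Octads disjoint from a given one: there are 30. -/
theorem count_disjoint {o : Finset GolayPt} (ho : o ∈ octads) :
    Set.ncard {x : Finset GolayPt | x ∈ octads ∧ Disjoint o x} = 30 := by
  have h := count_oct_oct ho 0
  have h2 : (octadList.filter (fun c => Nat.beq (pop (octO &&& c)) 0)).length = 30 := by decide +kernel
  rw [h2] at h
  rw [← h]
  congr 1
  ext x
  simp only [Set.mem_ofPred_eq, Finset.card_eq_zero, Finset.disjoint_iff_inter_eq_empty]

/-- An octad lies in 15 trios. -/
theorem trios_through {o : Finset GolayPt} (ho : o ∈ octads) :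
    {T : Finset (Finset GolayPt) | T ∈ trios ∧ o ∈ T}.ncard = 15 := by
  classical
  set D : Finset (Finset GolayPt) := allOct.filter (fun x => Disjoint o x) with hD
  set E : Finset (Finset (Finset GolayPt)) := (Set.toFinite {T : Finset (Finset GolayPt) | T ∈ trios ∧ o ∈ T}).toFinset with hE
  have hEm : ∀ T, T ∈ E ↔ T ∈ trios ∧ o ∈ T := by
    intro T; simp [hE]
  have hDc : D.card = 30 := by
    rw [← count_disjoint ho, ← Set.ncard_coe_finset]
    congr 1
    ext x
    simp [hD]
  have hcount := Finset.card_eq_sum_card_fiberwise (s := D) (t := E) (f := fun x => trioOf o x) (by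
      intro x hx
      obtain ⟨h1, h2⟩ := Finset.mem_filter.mp (Finset.mem_coe.mp hx)
      exact Finset.mem_coe.mpr ((hEm _).mpr ⟨trioOf_mem ho (mem_allOct.mp h1) h2, mem_trioOf_left _ _⟩))
  have hfib : ∀ T ∈ E, (D.filter (fun x => trioOf o x = T)).card = 2 := by
    intro T hT
    obtain ⟨hT1, hT2⟩ := (hEm T).mp hT
    have : D.filter (fun x => trioOf o x = T) = T.erase o := by
      ext x
      simp only [Finset.mem_filter, hD, Finset.mem_erase, mem_allOct]
      constructor
      · rintro ⟨⟨h1, h2⟩, rfl⟩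
        refine ⟨?_, mem_trioOf_right _ _⟩
        rintro rfl
        have : x = ∅ := by simpa using h2
        rw [this] at h1
        have := h1.2
        simp at this
      · rintro ⟨h1, h2⟩
        exact ⟨⟨hT1.2.1 x h2, hT1.2.2 o hT2 x h2 (Ne.symm h1)⟩, (trio_eq_trioOf hT1 hT2 h2 (Ne.symm h1)).symm⟩
    rw [this, Finset.card_erase_of_mem hT2, hT1.1]
  rw [Finset.sum_congr rfl hfib, Finset.sum_const, smul_eq_mul, hDc] at hcount
  have h1 : {T : Finset (Finset GolayPt) | T ∈ trios ∧ o ∈ T}.ncard = E.card := by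
    rw [← Set.ncard_coe_finset]
    congr 1
    ext T
    simp [hE]
  omega

/-- The number of trios. -/
theorem trios_ncard : trios.ncard = 3795 := by
  classical
  set E : Finset (Finset (Finset GolayPt)) := (Set.toFinite trios).toFinset with hE
  have hEm : ∀ T, T ∈ E ↔ T ∈ trios := by
    intro T; simp [hE]
  -- double count flags (octad, trio)
  have h1 : ∑ T ∈ E, (allOct.filter (fun o => o ∈ T)).card = ∑ o ∈ allOct, (E.filter (fun T => o ∈ T)).card :=
    Finset.sum_card_bipartiteAbove_eq_sum_card_bipartiteBelow _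
  have h2 : ∀ T ∈ E, (allOct.filter (fun o => o ∈ T)).card = 3 := by
    intro T hT
    have hT' := (hEm T).mp hT
    have : allOct.filter (fun o => o ∈ T) = T := by
      ext x
      simp only [Finset.mem_filter, mem_allOct]
      exact ⟨fun h => h.2, fun h => ⟨hT'.2.1 x h, h⟩⟩
    rw [this, hT'.1]
  have h3 : ∀ o ∈ allOct, (E.filter (fun T => o ∈ T)).card = 15 := by
    intro o ho
    rw [← trios_through (mem_allOct.mp ho), ← Set.ncard_coe_finset]
    congr 1
    ext T
    simp [hEm]
  rw [Finset.sum_congr rfl h2, Finset.sum_congr rfl h3, Finset.sum_const, Finset.sum_const,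
    smul_eq_mul, smul_eq_mul] at h1
  have h4 : allOct.card = 759 := by
    rw [← octads_ncard, ← Set.ncard_coe_finset]
    congr 1
    ext x
    simp
  have h5 : trios.ncard = E.card := by
    rw [← Set.ncard_coe_finset]
    congr 1
    ext T
    simp [hE]
  rw [h4] at h1
  omega

/-- `M24` is transitive on trios. -/
theorem M24_trio_trans {T T' : Finset (Finset GolayPt)} (hT : T ∈ trios) (hT' : T' ∈ trios) :
    ∃ g ∈ M24, g • T = T' := by
  have two : ∀ {T : Finset (Finset GolayPt)}, T ∈ trios → ∃ o ∈ T, ∃ o' ∈ T, o ≠ o' := by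
    intro T hT
    have : 1 < T.card := by rw [hT.1]; norm_num
    obtain ⟨o, ho, o', ho', h⟩ := Finset.one_lt_card.mp this
    exact ⟨o, ho, o', ho', h⟩
  obtain ⟨o, ho, o', ho', hne⟩ := two hT
  obtain ⟨p, hp, p', hp', hne'⟩ := two hT'
  obtain ⟨g, hg, hgo⟩ := M24_octad_trans (hT.2.1 o ho) (hT'.2.1 p hp)
  have hd := hT.2.2 o ho o' ho' hne
  have hd' := hT'.2.2 p hp p' hp' hne'
  have h1 : g • o' ∈ octads := M24_smul_octad hg (hT.2.1 o' ho')
  have h2 : (p ∩ g • o').card = (p ∩ p').card := by
    rw [Finset.disjoint_iff_inter_eq_empty.mp hd', ← hgo]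
    rw [Finset.disjoint_iff_inter_eq_empty.mp ((disjoint_smul g o o').mpr hd)]
  obtain ⟨h, hh, hhp⟩ := oct_orbit (hT'.2.1 p hp) h1 (hT'.2.1 p' hp') h2
  obtain ⟨hh1, hh2⟩ := mem_stabS.mp hh
  refine ⟨h * g, M24.mul_mem hh1 hg, ?_⟩
  have hmem : (h * g) • T ∈ trios := M24_smul_trio (M24.mul_mem hh1 hg) hT
  have hmem1 : p ∈ (h * g) • T := by
    rw [← hh2, ← hgo, ← mul_smul]
    exact Finset.smul_mem_smul_finset ho
  have hmem2 : p' ∈ (h * g) • T := by
    rw [← hhp, mul_smul h g T]
    exact Finset.smul_mem_smul_finset (Finset.smul_mem_smul_finset ho')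
  rw [trio_eq_trioOf hmem hmem1 hmem2 hne', ← trio_eq_trioOf hT' hp hp' hne']

end CfsgLib.Golay
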