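/-
Families of objects built from masks: keys, the action on keys, and a master theorem computing orbits of
stabilisers from walk certificates.
-/
import Cfsg.Agent.Lib.Golay.Sextet

set_option autoImplicit false

namespace CfsgLib.Golay

open Cfsg
open scoped Pointwise

/-! ### A faster membership test for the code -/

/-- For each value of the top twelve bits, the low twelve bits of the code word. -/
def codeT : ℕ := 0xfffb606c125e91cd830224bd2396a6b07f984da045de497b0ec4739d2d4d60f290f31baed2a9b541408bbc9f562f76685461d9c788e73a573aa9be04880c1f1be521e63afc75d3c2a55eca36b7f4cb682958811779330ceada321705ef84ecd1e12a8d72c3b38f1c6e1cf5503d474baeae755371a8c0989610159e83fca07e237dedca43cc78585f9166a24ebb31a7854ab034d9590a2486d7b76fe996ddf20534ccf8eb116b022fbb8f27286619d5b9c44650fa67e2e1f40bdf09d4029a3d3cc258ba51b184ac6e593f87671e357c8ddc4270039fe3eaa13367a9a08e975d514aceb874ef0a6f7ce351813c8c12d5b269c203fa2b3d07f4e0941ddeb5afc52646fbdb992648701898fd100b142ef6cbf36522c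d4490d6d779e82aa635b94f0bdc89574f6069b2bfb421568a00e491930daf6ed272fd3b4c2db644be5f7a4380a7d06999f1db826232bc9fed610c045f7713eee4fad019250d8acc33ab7e28389716c548cb56a1f5862cfd15c5c3e81a1e7bf3205a413bc9a8053477d8a79ee684bcd41755eaea8a3779630958d112cb382c36e7f1a50ecf7583c7e66af91bb524885c1aa9ee013a073fc7d8e25431dc2f266dbccf5341108ed2f9b0f34bab60a2959d7d480e9476de197e4df040b02f9d23c6a30274b8919d866c425bffab659a6d39098407f45bda67b2e44600ffd5e9c128361cbbdf226b522af8bb140564c9968df7b73fec24d6d2d9090f4ae03131f780a21ebe5fc163cc285ded9a467e737883aca510459bc0c8935321adaefe703d174e1ca5558f4c6b7293b6e17a88b91f0e2af630d729ed44c0d36572c8f69bf60b442b98ad1548201ddbc9232616feb5ffc0944ddb07a4e5fa7b386992061285b7816c897cb354ef5a6acee8715d014fa0de923337ace3baa470539a8d8c471e65793fd762ac3e5c51e181c208bfa7cee33427ddc9f8005a113e7ba325e84a1b1595c6867cf856f1f0c518ce38c713ab2e2d8a9c36197508e4aad57743eb0c545a9fbd646262b9f18b87d0399c43d0a2be0f7f2de641fd6b496e8277935daa00b49421068fb2efb14f3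06cdcd9520974089a9d366742ebf4abd5d519ce46f0f0bb2f2d28c613f84b1b6ba225967df80594c62426ddb7cfe34a103ed9f900a2eeb131078fccd8525f316c7e8377ed6a4910b594835caa53d1a2c0389c3de741ae0e7f8fbc641c555ae18a877263b917a5e5844cdb799306ea7a38cbc82358211da5fec03617fee69af67573c888ac151b452b3af730a91e0e54c1d3c728edbc3f5c2fd662d209bf41e08160529af3bba40e64799d8d474d004fdee9712336acb0df92916d890284b7ff5b6a6cb25434d7d2a73eec5ae131c9080fe8ba147b532a868cf71565c9c5e8c15601ffabde2238371c1985078a6c3977b3e4e45ada9f4d6b0ca455f17b886292b64320add0c9932d164ebeff706e7278fd9b4600449b93ada5b21fbe21f680dc295d4fc0632a063fb9ef014430dcd7d9e2f66bf96582c7985d1a0bb424db392c48d012b50fcf26e6f10754ea94bdd4696209fa8b37819c861275b8efaa657c435b5df140ce187e33c7a3a02e9d70a395e34aab1e95768d7c48acce533f276dc2f8b051118e7233bce1da821c055f8fec61ae5e7a3db744c068995381a7830caf10e591ed3a4c7ed3725f6169cc885731578aa2beb4d9a9054a403bb79fe62476d805c4c3962dfd6bf220f81b1e289616bb7f2846a0f5d549cbf4fbd06712ee9acd3309240d6ce251f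f0b6f02d4b2913d8cb08f972366a9deb9744d504a9ddd420e347cf3eba160029f41b084d259ba2f8667bc6f59c778e85491d6a94e0b3aa7351b152e88fc107523cde6caf33647fba5aec5587118cb9826ea2a3d79c303841cde17f5e04f9066dc795821a685b24fbb93fda000149efdcb436e227dbeaf752d464bd099964370a862c2b3f12b8d0cf4509f1d6ee40adf77e3e18a3c3c19d502386719ab8e275651fac5b8c41535cc86dcf27b032fe8ea11c9580a5ab134a76ee93487d751418bc2a8b53f7768ac9e568d2c4d1ec573e31aae70f390a07e983397a6ce487b5da1457c135eeffa601225bd81cc83fadb3269320c94edd10704ef26b6f4b55fca488017db69290be421980d1f65d2c2f63bfcd789e74460d9b9bf042a563a5b012fc8e8113537cca6def2876ce91485d7e95a0a7ab334aa3e3c39d702c408df57e1e17653fae5bac41865198b8c27f09b966372a89ead750d444b2cf650bf1f6e42c0b3d1298d01a485924dbb6f9266fc7b58ddc9434e207db3ffa020169e45d0c2d639fc2be621b80f1f99bd040a543af78be76462d9b4efd12706efdad93249300c688217fb6b2906b4f4955dcaee4a7b7da345807c981395a63227bda1ce835c115ecff8601f75688c9c5671438be2aab5c318ae50f190ad2e4d3ec77366a2f5f54bcb0894169b7d2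8bacf3329260dd4f9d04710ee979de60474d8f9ab056a423b4bf020d8191e25c6c3b62ffdcd384c5ed172a30eaf30e79111558a82bcb47f6369ec8a573c075fafee615231bcc1d882e06a997383a78e5c7a1db544787318eb9a261645fb85acc5a41ede37f7e0ca283d59c103894c0b1aa535e77ae87493d65521cdc6c8f33b172ea8fe10d3e9a140009fbddf422e367c0f84679c6d5961b284f25bba22d6b2b13f8c4ce051df096ffebb746d524a908d970364a920469bb3afa54e7078dd9946fc2b5d6fc263921dbe01f480d179884290b6bf4f6b2ca6550d144e9efd706322adf0cb938bdc2218351ce5eac17603ff57b1e4c458da398707aa6e397ae331e90a0f14d5d2873ceca68ef73567c9c8b8145b512a3e9776ad7e4850a195c348abe2fab071138e8ccc531f256dcfa8655c415ba19e863277b813c5a3802c9d7df340ee1a7e950dcf06e4f1fb3b2c68d212496009da89372756eab4bfd46432dcf7dbe20a043f99ed01b85f1a2bb624d669f94580c71de5418e0c7f73d3a2e03a9cc188875261b9afbe643c575aecda527f336c82ecb111058f30b794a35eaa5e8177cd6849b67ff82596c6d8491b4ba0256a123ef9fb000424dd97cde34740ebd4a9d5297608ba9f369b2d2d08c413f51bce66f2f00334ac90dd926d024ffeeb71df596a4cb054b16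f892286b7f20bbf61e2819c3d5c0fd4622e6679bd8f4740509ad3b9a4a8ae153b472bc698f65571c874c3d3e72aed1af530891c0e599106ca783837a7e5a44edb85fcc01615feebca2378231dad8e473e6779c3b8a450519a71e381e20abf1fd5628c3c5c5cb154cf586a3287b7a16e8980dc921335aceeea717d034f0614fe95fdc068221dfbcb23da7938499006b44fdb27a6e5f72bed64c2d3991d0e0af4302b462bb8af154570c8d699f6b35faa20b694dd69494e80776f326cfcdb5201048f92edb14260b9d189872c565abfbf649e0d7f0de441f03b9c63d2a218c5138b2c2d76f3f0e51acec4a8d55741ebaa9e36397708e9fa007a133e87cce31425dd3597c6a67ef85ba125c8481b902d9d03c4a3fe1b7e6df2404c405bdfa9652276b8b19f8661128ef2fbb00f246d9ccd53bd7f482e9676d349ab40a0953bb724a85e1a5581c7c668f9e7dae27433dc89ec011a053fca8837596109a4bed43757ea16e5f1850ccf78d312eb3a2c8efc701d154ee0ca937323ad5291b6c178883ca755af4e6b7fc363ec2a5d11f580821cbea3aea530479bcd98465e71782566c9b68ff74b502ad8b914f90b0f6ae231973dec04d4d2d459da47b0e4ba6f3929860708341c9bdd226602fff5ebc1d6c9f34520cdb8ff102b162e0aa435994d0b6492d6f77be827f6e0b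41fde49c003da293dfb9b2668721895adc50644fb7d534aeeba741365a9808c97a13e8c32d7b2cf086f5ce1518c6c591f8567e25aba71b38450019fc3e8a13e377cadde42c8181e5bf120a62efd35c7c31475d8879ce67a433be9aa0539270daace335711eec4f8d0e54acb76a3f58b7c281895166382a7f06b990db4449e5d7abfef612c065fd1d9824230bc92bdb401548afc8b576f62694ed072dd394c20e691b30fafeb6a29788317855cca16b5f43707efa4eed159310ccad8321a553a89bc047463d9e78ae7c638fc55d1c2a80e1f3be72140f090d319ae2ec673bd2f4d9c9d560f7468f2abb561428bb1cf832226bddff9604c105e6da245fe4b7b0394a6907d98f5bbc46652fa9b8d2708641929d602ba3f3c47e0e1d409df0484d7976de96ab234f95b0ad8e9114b002fb6dff22536cc5e217dcdc84330179ea3fea0824cbb11a585ec7a587f9366af1e6e3cf750c1288d52c1b37373a8e09a961d454b8eac7538a715ab4e2b5691f6c578c8e4cad37723ed8afc3019150ec998065a7138a7aee53447db15f5c0861cfe7bc323e82a1d933dac00d492fd0b4f6ee2714f506adcb954216689b28fb76202bff1eb810c345c9fdd62be6f792d8647d0599a43b0a42676f8b59fc648401bdba925fa1b3e69f200942ddd07c4e3d749eb44a0d5b97f082a963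60b242d98cd136512cef6fbf08dec411e057fe3daa270339c518187c268b93fb764ac5e5a7cd352ef3a6c12e5b1810c8fa0be943357aace88775d61490504cf96edf16b322cf8db12d969094a8037b75fea24b6d4f43bdc67d2e29a0d3f09e40128561abbbf244660f9d589c7ae9e763d7748c0a8955341ab72f3b0e11a8e1cc5538f2c6d5fa165cc485b319786a27eb883cca310259dedfa407e137e1bd522883c1c75e3c1e60affc7b8e45451daa98e073a6739eaea3179030f84dcd21735ec3687f7a56ec958b114cb582ab04f9b23a6a5de79784d90466c225dffcb630214be91fd80417088d299b62f466bbcaf559d1d4e0ef470f32bad60c29343e0a1d0099f2dd642be3f7c9f8d670c6459f1bb846252bab2dfb221368cdce9514f006f6eb274fd5b4a008497936da9e87a187b9326864cfb15a5c53417dea7fee05a213dc9c80319450b8aac357773e8e49ad6c528cd56c1f3ab1e2e38f7105d314cced8723307afa0ee91815c8a12b5b4ef6a697c8357ac0e5f3fe761c238bc51d182706399e38aa71e557a8dbc44f6abf56542cb989d160b74282ac633b92f0d44f0d0d719ee0794e6947dd869a205fa4b3bdbf92048101eb5cfc32626fd7e437bedaa45107598839ca6a22ebd31c783cc185e5ff1608f7c681c9556e14a8b72a3b55311aec0f8903d2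74daece73d5d9c24630fcbbef2128061f09b4049a5d3a6782e7f46bd924e6d1b70fef4ad032d9390cf88b176b622996bdf40554ca609296f37ba80ea4759d4d4bbcff502f166ed2c9b341208d91ad850244bbff9b666c72584dc043de297d23f6a0b01f9ecb082f58e111a53ecc36d7f21765e9848cd779530aeaba343a373ca9de025401dfc7e8e1e65afa75b3c4886c191b8527ce287d5dc143a01e9e33f7a01245bb81ac857c7358ef9a663f176eacfe5051218dc2c8b3e37aa87093968d4c4b1ea57565b2c4f65bfa0b8427986d19b9df022a363cd7e9e14400df948dd70764e9fabb3469520a48e011db092f26d6f2b53fccd0f9904310aebecf732d264d0c94569f7d6862a2b5f14b8b21c683b22fbd4ff060dc195efdab456e427b939da60074987b6329e88a171555ca86bcf4a70eef34e7d1c9380c5ad1328a5c3a19b504e46ad97783e75631fcc5d8c238071fabee21f38ba76062999dbd440e547a2fe661bc0f5f41d082d239bc02b4b4915d8a6c8257ff6b69ded9724d304cb0ef912306af58111ecbf8203627fda5cec3847cd81795e6ea4a3b79a305a92e0d3ac733c718ee54f1d07543cbe6aaf51b7528889c16ed5a4a7eb374836ca910859731378ca2deb25f016fcce8511c65598f8c677253bae1ba84c0089f53e1a1ae3e7c3dd74246c0f3d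529cd28f610bb1f2e9aad3509440bf49bd66772e8b7ffe02416ded9c9034a203d6b9226f87b1805a4c5964dfbb56fc92686f7db592a48b01469020ffaeb310734ec94ddd24450dad7b9e42a6639b98f07983d1c0bd422f60bff65e2c11ef5708d1c4e70c393e32aadc298b6517188acae553f476befca637c235d81fc801215be33a7a5a04e9b5d9146ce7878abbe2438571ac588c75661f977d3e2e43adc19e5018a0c3f5a8137c9680934b7d4a75eea86ecf11505cfe8da127b332c00249d93cda36e127efdfb40dc495b4fa065b27fb8219686f11b8e62f2b09f2d6d0cc4532d7648be9f764340abd0a99588cc131b252de6faf07513ce54a1d5c748eb3a9736a97e0879f300ea1a3e17c5e3842cdda59ec63677f8cba82558411b2356aab0bf944d6049de8977ff3b6c6cd252910d8f02e4b1d269b9418087bc5f5a2fb6640e047f9ded4160329cf3dba2961dfe05f4c0f82b1d6bc2234a7038d999062446dbb7afe56722edf4cbd309140e9afd30bb4f2b28a615d579c84690f63d8747ae6e7953b1a4c0589ae1ea817203bf8fdc621c355cccb8545f516aa28eb731678910d592833cac7ee371ed0a4f9c5d5a0fb464f26bb961828740309cd3d9a22e067fbdef416d6249fe8b770354aa90bd94b10f8f22e6b1df396c4cd05237c7e3a42edd59f100ca183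eebaa2578431b859cc61675f8c6f8f05511cea8ce133b272d1a9536897c0874a3d5e74aeb828cb7116589ecba547f536a5ee171cd084f30d792a33eac73b3a4e05a9a1d85478e6c79afde623c375cc1e8815201bf29160ebaff304720edd4c9d3f57bc86692f69b4d2b08a415d8291d4bc023b61ffe25f6c00444db97ade56a7238f99b06a1fe803217becfc8635c215d7d9346ee7a7813a5a5804c9b50c193c328ad3ef770ad1e4e8cac551f456be29ab67173880a6439998d076452daf7bbe4d609ff45e0c1b83f1c2bd622fb5b2a68b214956dc90684f72736ecb4dfd249000fdae931bf2f6d2cc653d1198e42f0b06342abf0ab950d74489e9d764e107eddf94020269db3cfa3927db8019486fc4b5b6fa26514b5d4875cea7a8337e96a09c8d8125b312ca6eef13507cfe58ac77663f98bbc2418551a39e701aa0e3f57d1e2c438dce71aee74f3d0892c0d1ac5333b7728a89e165541cbc6a8f51625fd85ccc378131eebfa20ca483b59a105a47ed83797e64c8057df696922b6b4b15f8a90ed910304affedb726d324cbdbf442e567ad389a740609961d282f23bbc0fe4619c0d5ff9cb036a223d97fde00414de25a6c5b64ffb4b9026d8791808f4109b1d2e66c2f3f52bcdd499d64770e8baaf3529460b5251bac1b8843c6759af8e678e3c7c1dd542e00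a9f73e3a1a36ea9308797cd584a5eb1747f036fecea5111358c82dcb2dab93449500ab48fd72766e906d4f2953dcc68e211fb0b2f2b8627b86f1945b0c4d659faf7ebe16402df99dd020a343c71238de2cab31f156e8cfc50ad4e4b3ea775c378a8509196801c9e13f5a0ee2a7d7dc3435c7158cf98663247bba1ae85c468d95781e7aa5e3a39b70418051f8bec217633fce5dac23557caa6bef45b6129c88817e93a0c7ad332870cef14e5d16ff260fc1b5e01c483922dbdb39fa6207698dda9454e407b9ecd730d244df0fb906312ae42a0b5d1498b2c9656bf7f686ad232f93b0c04e4d1970defb6bff42556cad889174b60299bed2108041ff5dbc26632fc4780e7d469d929b604ba5f3ac1488b52a1b5af7e683c97561d254d8ecc737313aee0fa90307798a39ea65e417bcda845ec1a5e7ff360822cbd11c5837403dfe7eae11a353c89dc02a86e193b8727c658fa55b1c4853ccc16d5f2eb0a2f78e31159510acab8343767e9a48ed7df99664c7058b1af852246bb03f4a0901d9e6dc243fe2b7d2ea675bd4f4b409096d379a8f2cbb361228d9cfd500f146e5771e8c498d639470baaae358b1c2e18f510e52acd76c3f3a64efb35a7c5c878185b91267a233de9ca031415de87fce0fceb516f026f92ddb201348c208697b36fa94eb074dd594a0dd4429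e3d7c63e2a1f00b9fd1b9844250babf8f672c665949a005da493b2796e6b47fd895cdc30624fdfbfb2068121eb89f162b7628d6a9f54540cb64f2d0f71bee0ac433992d0de23abc71d3828c0c5f1fe5613e577aadbe44506199c388a71305af80ec917d334ceeda72cf68695c8157a15e8a32b7b4119586827cb87fa365ec4a5bcdf8405e117ea3cea330279de0aa957343ab8e9c761d75483cc753af2e6d52f1b0c1188eba0f3f29e601d439dc47d0e26662f9f58bc708541a9bbd244b302cd8d9122506cfb6eff1975dea04b4d4f96b096a82370f446b9cad55617288f29bb6d329ad40c093bd1f4e2ef670fe7b786d9246904d9b03a4a52216beb1ff804c205ddfc963a4ded23737eccae83159010f78b314eb5a2a1685f7856cc955e1c1c608ff3bd722a83e1c898c071a6539e7bae47453da2c365cbfdf624200bfd1e981f05b9a63b2a49e6d790d8447dd094f4ee071b33fac20d692016489928db76f526afcbb5487ace51445dbe99a067a73385bc123c8281d35f7c0a61efe7693f6e57ac818a5158b4c2baafe3039170ec4c8d35721ed32e7b1a10e8f5cd152cf386cee8a777d634980bc941355aac3d8a250319cadee413e077f1fb5648c5c5a718387e26ab9997d080a9436f74beb64a2d54510ced6f9f02b262db8cf1368421bfbab250674f8959dc6b42fdd27c6e3da193e49f000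

/-- Fast test for membership in the code. -/
def isCodeF (m : ℕ) : Bool :=
  Nat.beq (Nat.land (Nat.shiftRight codeT (Nat.mul 12 (Nat.shiftRight m 12))) 4095) (Nat.land m 4095)

theorem codeT_spec : (List.range 4096).all (fun h =>
    isCode (Nat.add (Nat.mul h 4096) (Nat.land (Nat.shiftRight codeT (Nat.mul 12 h)) 4095))) = true := by
  decide +kernel

theorem mem_allCode_of_isCodeF {m : ℕ} (hm : m < 2 ^ 24) (h : isCodeF m = true) : m ∈ allCode := by
  have h1 : Nat.land (Nat.shiftRight codeT (Nat.mul 12 (Nat.shiftRight m 12))) 4095 = Nat.land m 4095 :=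
    Nat.eq_of_beq_eq_true h
  have hs : Nat.shiftRight m 12 = m / 2 ^ 12 := Nat.shiftRight_eq_div_pow _ _
  have h2 : Nat.shiftRight m 12 < 4096 := by
    rw [hs]
    omega
  have h3 := List.all_eq_true.mp codeT_spec _ (List.mem_range.mpr h2)
  rw [h1] at h3
  have h4 : Nat.land m 4095 = m % 4096 := by
    change m &&& 4095 = _
    exact Nat.and_two_pow_sub_one_eq_mod m 12
  have h5 : Nat.add (Nat.mul (Nat.shiftRight m 12) 4096) (Nat.land m 4095) = m := by
    rw [h4, hs]
    change m / 2 ^ 12 * 4096 + m % 4096 = m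
    omega
  rw [h5] at h3
  exact mem_allCode_of_isCode h3

/-! ### Binary search trees of naturals -/

/-- Binary search trees. -/
inductive BT where
  | nil : BT
  | node (l : BT) (k : ℕ) (r : BT) : BT

/-- Rebuild a node with an evaluated left child. -/
def BT.nodeL (s : BT) (k : ℕ) (r : BT) : BT :=
  match s with
  | .nil => .nil
  | .node a b c => .node (.node a b c) k r

/-- Rebuild a node with an evaluated right child. -/
def BT.nodeR (l : BT) (k : ℕ) (s : BT) : BT :=
  match s with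
  | .nil => .nil
  | .node a b c => .node l k (.node a b c)

/-- Insertion; all the nodes on the insertion path are evaluated. -/
def BT.ins : BT → ℕ → BT
  | .nil, x => .node .nil x .nil
  | .node l k r, x =>
    match Nat.beq x k with
    | true => .node l k r
    | false =>
      match Nat.ble x k with
      | true => BT.nodeL (BT.ins l x) k r
      | false => BT.nodeR l k (BT.ins r x)

/-- Membership test. -/
def BT.has : BT → ℕ → Bool
  | .nil, _ => false
  | .node l k r, x =>
    match Nat.beq x k with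
    | true => true
    | false =>
      match Nat.ble x k with
      | true => BT.has l x
      | false => BT.has r x

/-- Elements of a tree. -/
def BT.mem : BT → ℕ → Prop
  | .nil, _ => False
  | .node l k r, x => BT.mem l x ∨ x = k ∨ BT.mem r x

theorem BT.mem_of_has (t : BT) (x : ℕ) (h : t.has x = true) : t.mem x := by
  induction t with
  | nil => simp [BT.has] at h
  | node l k r ihl ihr =>
    simp only [BT.has] at h
    simp only [BT.mem]
    split at h
    · next h1 => exact Or.inr (Or.inl (Nat.eq_of_beq_eq_true h1))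
    · split at h
      · exact Or.inl (ihl h)
      · exact Or.inr (Or.inr (ihr h))

theorem BT.mem_nodeL {s r : BT} {k y : ℕ} (h : (BT.nodeL s k r).mem y) : s.mem y ∨ y = k ∨ r.mem y := by
  cases s with
  | nil => simp [BT.nodeL, BT.mem] at h
  | node a b c => exact h

theorem BT.mem_nodeR {l s : BT} {k y : ℕ} (h : (BT.nodeR l k s).mem y) : l.mem y ∨ y = k ∨ s.mem y := by
  cases s with
  | nil => simp [BT.nodeR, BT.mem] at h
  | node a b c => exact h

theorem BT.mem_ins (t : BT) (x y : ℕ) (h : (t.ins x).mem y) : y = x ∨ t.mem y := by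
  induction t with
  | nil =>
    simp only [BT.ins, BT.mem] at h
    simp only [BT.mem]
    tauto
  | node l k r ihl ihr =>
    simp only [BT.ins] at h
    split at h
    · exact Or.inr h
    · split at h
      · simp only [BT.mem]
        rcases BT.mem_nodeL h with h | h | h
        · rcases ihl h with h | h
          · exact Or.inl h
          · exact Or.inr (Or.inl h)
        · exact Or.inr (Or.inr (Or.inl h))
        · exact Or.inr (Or.inr (Or.inr h))
      · simp only [BT.mem]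
        rcases BT.mem_nodeR h with h | h | h
        · exact Or.inr (Or.inl h)
        · exact Or.inr (Or.inr (Or.inl h))
        · rcases ihr h with h | h
          · exact Or.inl h
          · exact Or.inr (Or.inr (Or.inr h))

/-- Insert a list of keys, evaluating the tree after each step. -/
def BT.insAll : BT → List ℕ → BT
  | t, [] => t
  | t, x :: l =>
    match BT.ins t x with
    | .nil => .nil
    | .node a k b => BT.insAll (.node a k b) l

/-- The tree of a list. -/
def BT.ofList (l : List ℕ) : BT := BT.insAll BT.nil l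

theorem BT.mem_insAll (l : List ℕ) (t : BT) (y : ℕ) (h : (BT.insAll t l).mem y) :
    y ∈ l ∨ t.mem y := by
  induction l generalizing t with
  | nil => exact Or.inr h
  | cons a l ih =>
    simp only [BT.insAll] at h
    split at h
    · simp [BT.mem] at h
    · next a' k b heq =>
      rcases ih _ h with h | h
      · exact Or.inl (List.mem_cons_of_mem _ h)
      · rw [← heq] at h
        rcases BT.mem_ins _ _ _ h with h | h
        · exact Or.inl (h ▸ List.mem_cons_self)
        · exact Or.inr h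

theorem BT.mem_of_has_ofList {l : List ℕ} {y : ℕ} (h : (BT.ofList l).has y = true) : y ∈ l := by
  rcases BT.mem_insAll l BT.nil y (BT.mem_of_has _ _ h) with h | h
  · exact h
  · exact absurd h (by simp [BT.mem])

/-! ### Walks through an abstract action on keys -/

/-- Action of a list of packed generators on keys. -/
def actF (act : ℕ → ℕ → ℕ) (gens : List ℕ) (k m : ℕ) : ℕ :=
  match gens[k]? with
  | some g => act g m
  | none => m

section walk

variable {Y : Type*} [MulAction (Equiv.Perm GolayPt) Y]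

theorem fam_walk {dec : ℕ → Y} {act : ℕ → ℕ → ℕ}
    (hact : ∀ c k, valid c = true → dec (act c k) = mk c • dec k)
    {K : Subgroup (Equiv.Perm GolayPt)} {gens : List ℕ}
    (hg : ∀ c ∈ gens, valid c = true ∧ mk c ∈ K) (start : ℕ) (ops : List ℕ) :
    ∀ x ∈ walk (actF act gens) start ops, ∃ g ∈ K, g • dec start = dec x := by
  refine walk_sound (R := fun x => ∃ g ∈ K, g • dec start = dec x) ⟨1, K.one_mem, one_smul _ _⟩ ?_ ops
  intro k m hm
  obtain ⟨g, hgK, hgm⟩ := hm
  unfold actF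
  cases h : gens[k]? with
  | none => exact ⟨g, hgK, hgm⟩
  | some c =>
    simp only
    obtain ⟨hv, hc⟩ := hg c (List.mem_of_getElem? h)
    refine ⟨mk c * g, K.mul_mem hc hgK, ?_⟩
    rw [mul_smul, hgm, hact c m hv]

/-- One level is covered by a walk. -/
def famCover (act : ℕ → ℕ → ℕ) (gens : List ℕ) (tab : List (ℕ × ℕ)) (cert : ℕ × ℕ × List ℕ) : Bool :=
  (tab.filter (fun e => Nat.beq e.2 cert.1)).all
    (fun e => (BT.ofList (walk (actF act gens) cert.2.1 cert.2.2)).has e.1)

/-- All levels are covered by walks. -/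
def famCheck (act : ℕ → ℕ → ℕ) (gens : List ℕ) (tab : List (ℕ × ℕ)) (certs : List (ℕ × ℕ × List ℕ)) : Bool :=
  certs.all (famCover act gens tab) && tab.all (fun e => certs.any (fun t => Nat.beq e.2 t.1))

theorem fam_same_orbit {dec : ℕ → Y} {act : ℕ → ℕ → ℕ}
    (hact : ∀ c k, valid c = true → dec (act c k) = mk c • dec k)
    {K : Subgroup (Equiv.Perm GolayPt)} {gens : List ℕ}
    (hg : ∀ c ∈ gens, valid c = true ∧ mk c ∈ K)
    {tab : List (ℕ × ℕ)} {certs : List (ℕ × ℕ × List ℕ)} (h : famCheck act gens tab certs = true)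
    {e e' : ℕ × ℕ} (he : e ∈ tab) (he' : e' ∈ tab) (hl : e.2 = e'.2) :
    ∃ g ∈ K, g • dec e.1 = dec e'.1 := by
  simp only [famCheck, Bool.and_eq_true, List.all_eq_true, List.any_eq_true] at h
  obtain ⟨h1, h2⟩ := h
  obtain ⟨t, ht, ht2⟩ := h2 e he
  have h3 := h1 t ht
  have h4 : e.2 = t.1 := Nat.eq_of_beq_eq_true ht2
  have key : ∀ x ∈ tab, x.2 = t.1 → ∃ g ∈ K, g • dec t.2.1 = dec x.1 := by
    intro x hx hxl
    have h5 := List.all_eq_true.mp h3 x (List.mem_filter.mpr ⟨hx, by rw [hxl]; simp⟩)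
    exact fam_walk hact hg _ _ _ (BT.mem_of_has_ofList h5)
  obtain ⟨g1, hg1, h6⟩ := key e he h4
  obtain ⟨g2, hg2, h7⟩ := key e' he' (hl ▸ h4)
  refine ⟨g2 * g1⁻¹, K.mul_mem hg2 (K.inv_mem hg1), ?_⟩
  rw [mul_smul, ← h6, inv_smul_smul, h7]

end walk

/-! ### The master theorem -/

section master

variable {Y Z : Type*} [MulAction (Equiv.Perm GolayPt) Y] [MulAction (Equiv.Perm GolayPt) Z]

/-- Data transported along a group element. -/
structure FamLevels (O : Set Y) (lev : Z → Y → ℕ) (z : Z) (tab : List (ℕ × ℕ)) : Prop where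
  /-- the levels have the tabulated sizes -/
  count : ∀ i, {y | y ∈ O ∧ lev z y = i}.ncard = (tab.filter (fun e => Nat.beq e.2 i)).length
  /-- each level is a single orbit of the stabiliser -/
  same : ∀ y ∈ O, ∀ y' ∈ O, lev z y = lev z y' → ∃ g ∈ M24, g • z = z ∧ g • y = y'
  /-- the levels are the tabulated ones -/
  lev_mem : ∀ y ∈ O, ∃ e ∈ tab, lev z y = e.2

theorem ncard_tab {dec : ℕ → Y} {tab : List (ℕ × ℕ)}
    (hinj : ∀ e ∈ tab, ∀ e' ∈ tab, dec e.1 = dec e'.1 → e.1 = e'.1)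
    (hnd : (tab.map Prod.fst).Nodup) :
    ({y | ∃ e ∈ tab, y = dec e.1} : Set Y).ncard = tab.length := by
  classical
  induction tab with
  | nil => simp
  | cons a tab ih =>
    have h1 : ({y | ∃ e ∈ a :: tab, y = dec e.1} : Set Y) = insert (dec a.1) {y | ∃ e ∈ tab, y = dec e.1} := by
      ext y
      simp only [List.mem_cons, exists_eq_or_imp, Set.mem_insert_iff, Set.mem_ofPred_eq]
    have hnd' : (tab.map Prod.fst).Nodup := (List.nodup_cons.mp (by simpa using hnd)).2
    have hinj' : ∀ e ∈ tab, ∀ e' ∈ tab, dec e.1 = dec e'.1 → e.1 = e'.1 :=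
      fun e he e' he' h => hinj e (List.mem_cons_of_mem _ he) e' (List.mem_cons_of_mem _ he') h
    have hfin : ({y | ∃ e ∈ tab, y = dec e.1} : Set Y).Finite := by
      have : ({y | ∃ e ∈ tab, y = dec e.1} : Set Y) = (fun e : ℕ × ℕ => dec e.1) '' {e | e ∈ tab} := by
        ext y
        simp only [Set.mem_ofPred_eq, Set.mem_image]
        constructor
        · rintro ⟨e, he, rfl⟩; exact ⟨e, he, rfl⟩
        · rintro ⟨e, he, rfl⟩; exact ⟨e, he, rfl⟩
      rw [this]
      exact (List.finite_toSet tab).image _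
    have hna : dec a.1 ∉ ({y | ∃ e ∈ tab, y = dec e.1} : Set Y) := by
      rintro ⟨e, he, h⟩
      have h2 := hinj a List.mem_cons_self e (List.mem_cons_of_mem _ he) h
      have h3 : a.1 ∉ tab.map Prod.fst := (List.nodup_cons.mp (by simpa using hnd)).1
      exact h3 (h2 ▸ List.mem_map_of_mem he)
    rw [h1, Set.ncard_insert_of_notMem hna hfin, ih hinj' hnd']
    simp

theorem famMaster {dec : ℕ → Y} {act : ℕ → ℕ → ℕ}
    (hact : ∀ c k, valid c = true → dec (act c k) = mk c • dec k)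
    {O : Set Y} (hOinv : ∀ g ∈ M24, ∀ y ∈ O, g • y ∈ O)
    {tab : List (ℕ × ℕ)} (hO : O = {y | ∃ e ∈ tab, y = dec e.1})
    (hinj : ∀ e ∈ tab, ∀ e' ∈ tab, dec e.1 = dec e'.1 → e.1 = e'.1)
    (hnd : (tab.map Prod.fst).Nodup)
    {lev : Z → Y → ℕ} (hinv : ∀ (g : Equiv.Perm GolayPt) z y, lev (g • z) (g • y) = lev z y)
    {z0 : Z} (hlev : ∀ e ∈ tab, lev z0 (dec e.1) = e.2)
    {gens : List ℕ} (hg : ∀ c ∈ gens, isAut c = true ∧ mk c • z0 = z0)
    {certs : List (ℕ × ℕ × List ℕ)} (hcheck : famCheck act gens tab certs = true)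
    {u : Equiv.Perm GolayPt} (hu : u ∈ M24) : FamLevels O lev (u • z0) tab := by
  classical
  -- the group
  set K : Subgroup (Equiv.Perm GolayPt) := M24 ⊓ MulAction.stabilizer (Equiv.Perm GolayPt) z0 with hK
  have hgK : ∀ c ∈ gens, valid c = true ∧ mk c ∈ K := by
    intro c hc
    obtain ⟨h1, h2⟩ := hg c hc
    exact ⟨isAut_valid h1, mk_mem_M24 h1, h2⟩
  have hinvu : ∀ y, lev (u • z0) y = lev z0 (u⁻¹ • y) := by
    intro y
    have := hinv u z0 (u⁻¹ • y)
    rw [smul_inv_smul] at this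
    exact this
  have hOu : ∀ y ∈ O, u⁻¹ • y ∈ O := fun y hy => hOinv _ (M24.inv_mem hu) y hy
  have hOe : ∀ y ∈ O, ∃ e ∈ tab, y = dec e.1 := by
    intro y hy
    rw [hO] at hy
    exact hy
  refine ⟨?_, ?_, ?_⟩
  · intro i
    have h1 : {y | y ∈ O ∧ lev (u • z0) y = i} =
        (fun y => u • y) '' {y | ∃ e ∈ tab.filter (fun e => Nat.beq e.2 i), y = dec e.1} := by
      ext y
      simp only [Set.mem_ofPred_eq, Set.mem_image]
      constructor
      · rintro ⟨hy, hl⟩
        obtain ⟨e, he, h2⟩ := hOe _ (hOu y hy)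
        refine ⟨u⁻¹ • y, ⟨e, List.mem_filter.mpr ⟨he, ?_⟩, h2⟩, smul_inv_smul _ _⟩
        rw [hinvu, h2, hlev e he] at hl
        rw [hl]
        simp
      · rintro ⟨x, ⟨e, he, rfl⟩, rfl⟩
        obtain ⟨h2, h3⟩ := List.mem_filter.mp he
        refine ⟨hOinv u hu _ ?_, ?_⟩
        · rw [hO]; exact ⟨e, h2, rfl⟩
        · rw [hinv, hlev e h2]
          exact Nat.eq_of_beq_eq_true h3
    rw [h1, Set.ncard_image_of_injective _ (MulAction.injective u)]
    apply ncard_tab
    · intro e he e' he' h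
      exact hinj e (List.mem_filter.mp he).1 e' (List.mem_filter.mp he').1 h
    · apply List.Nodup.of_map (f := id) ?_
      have : ((List.filter (fun e => Nat.beq e.2 i) tab).map Prod.fst).map id =
          (List.filter (fun e => Nat.beq e.2 i) tab).map Prod.fst := by simp
      rw [this]
      exact List.Sublist.nodup (List.Sublist.map _ List.filter_sublist) hnd
  · intro y hy y' hy' hl
    obtain ⟨e, he, h2⟩ := hOe _ (hOu y hy)
    obtain ⟨e', he', h3⟩ := hOe _ (hOu y' hy')
    rw [hinvu, hinvu, h2, h3, hlev e he, hlev e' he'] at hl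
    obtain ⟨g, hgk, hgg⟩ := fam_same_orbit hact hgK hcheck he he' hl
    obtain ⟨hg1, hg2⟩ := Subgroup.mem_inf.mp hgk
    refine ⟨u * g * u⁻¹, M24.mul_mem (M24.mul_mem hu hg1) (M24.inv_mem hu), ?_, ?_⟩
    · rw [mul_smul, mul_smul, inv_smul_smul]
      have : g • z0 = z0 := hg2
      rw [this]
    · rw [mul_smul, mul_smul, h2, hgg, ← h3, smul_inv_smul]
  · intro y hy
    obtain ⟨e, he, h2⟩ := hOe _ (hOu y hy)
    exact ⟨e, he, by rw [hinvu, h2, hlev e he]⟩

/-- An orbit of a stabiliser is a level. -/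
theorem FamLevels.orbit_eq {O : Set Y} {lev : Z → Y → ℕ} {z : Z} {tab : List (ℕ × ℕ)}
    (h : FamLevels O lev z tab) (hOinv : ∀ g ∈ M24, ∀ y ∈ O, g • y ∈ O)
    (hinv : ∀ (g : Equiv.Perm GolayPt) z y, lev (g • z) (g • y) = lev z y)
    {H : Subgroup M24} (hH : ∀ g : M24, g ∈ H ↔ (g : Equiv.Perm GolayPt) • z = z) {y : Y} (hy : y ∈ O) :
    MulAction.orbit ↥H y = {y' | y' ∈ O ∧ lev z y' = lev z y} := by
  ext y'
  constructor
  · rintro ⟨⟨g, hg⟩, rfl⟩
    have h1 : (g : Equiv.Perm GolayPt) • z = z := (hH g).mp hg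
    change (g : Equiv.Perm GolayPt) • y ∈ _
    refine ⟨hOinv _ g.2 y hy, ?_⟩
    have h3 := hinv (g : Equiv.Perm GolayPt) z y
    rwa [h1] at h3
  · rintro ⟨hy', hl⟩
    obtain ⟨g, hg, h1, h2⟩ := h.same y hy y' hy' hl.symm
    exact ⟨⟨⟨g, hg⟩, (hH _).mpr h1⟩, h2⟩

/-- A nonempty level is an orbit of the stabiliser with the tabulated size. -/
theorem FamLevels.level_spec {O : Set Y} {lev : Z → Y → ℕ} {z : Z} {tab : List (ℕ × ℕ)}
    (h : FamLevels O lev z tab) (hOinv : ∀ g ∈ M24, ∀ y ∈ O, g • y ∈ O)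
    (hinv : ∀ (g : Equiv.Perm GolayPt) z y, lev (g • z) (g • y) = lev z y)
    {H : Subgroup M24} (hH : ∀ g : M24, g ∈ H ↔ (g : Equiv.Perm GolayPt) • z = z) {i n : ℕ}
    (hn : (tab.filter (fun e => Nat.beq e.2 i)).length = n) (hpos : 0 < n) :
    ∃ X ∈ O, lev z X = i ∧ MulAction.orbit ↥H X = {y | y ∈ O ∧ lev z y = i} ∧
      (MulAction.orbit ↥H X).ncard = n := by
  have hc := h.count i
  rw [hn] at hc
  obtain ⟨X, hX⟩ := Set.nonempty_of_ncard_ne_zero (by omega : {y | y ∈ O ∧ lev z y = i}.ncard ≠ 0)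
  have ho := h.orbit_eq hOinv hinv hH hX.1
  rw [hX.2] at ho
  exact ⟨X, hX.1, hX.2, ho, by rw [ho, hc]⟩

/-- The levels occurring. -/
theorem FamLevels.lev_cases {O : Set Y} {lev : Z → Y → ℕ} {z : Z} {tab : List (ℕ × ℕ)}
    (h : FamLevels O lev z tab) {I : Finset ℕ} (hI : tab.all (fun e => e.2 ∈ I) = true) :
    ∀ y ∈ O, lev z y ∈ I := by
  intro y hy
  obtain ⟨e, he, h1⟩ := h.lev_mem y hy
  rw [h1]
  simpa using List.all_eq_true.mp hI e he

/-- A level of size one is a singleton. -/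
theorem FamLevels.level_one {O : Set Y} {lev : Z → Y → ℕ} {z : Z} {tab : List (ℕ × ℕ)}
    (h : FamLevels O lev z tab) {i : ℕ} (hn : (tab.filter (fun e => Nat.beq e.2 i)).length = 1)
    {y : Y} (hy : y ∈ O) (hl : lev z y = i) {y' : Y} (hy' : y' ∈ O) (hl' : lev z y' = i) : y' = y := by
  have hc := h.count i
  rw [hn] at hc
  obtain ⟨a, ha⟩ := Set.ncard_eq_one.mp hc
  have h1 : y ∈ ({a} : Set Y) := by rw [← ha]; exact ⟨hy, hl⟩
  have h2 : y' ∈ ({a} : Set Y) := by rw [← ha]; exact ⟨hy', hl'⟩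
  exact (Set.mem_singleton_iff.mp h2).trans (Set.mem_singleton_iff.mp h1).symm

/-- The table has the given level sizes. -/
def famSizes (tab : List (ℕ × ℕ)) (l : List (ℕ × ℕ)) : Bool :=
  l.all (fun p => Nat.beq (tab.filter (fun e => Nat.beq e.2 p.1)).length p.2) &&
    tab.all (fun e => l.any (fun p => Nat.beq e.2 p.1))

theorem famSizes_len {tab l : List (ℕ × ℕ)} (h : famSizes tab l = true) {i n : ℕ} (hp : (i, n) ∈ l) :
    (tab.filter (fun e => Nat.beq e.2 i)).length = n := by
  simp only [famSizes, Bool.and_eq_true, List.all_eq_true] at h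
  exact Nat.eq_of_beq_eq_true (h.1 _ hp)

theorem FamLevels.lev_sizes {O : Set Y} {lev : Z → Y → ℕ} {z : Z} {tab l : List (ℕ × ℕ)}
    (h : FamLevels O lev z tab) (hs : famSizes tab l = true) {y : Y} (hy : y ∈ O) :
    ∃ p ∈ l, lev z y = p.1 := by
  simp only [famSizes, Bool.and_eq_true, List.all_eq_true, List.any_eq_true] at hs
  obtain ⟨e, he, h1⟩ := h.lev_mem y hy
  obtain ⟨p, hp, h2⟩ := hs.2 e he
  exact ⟨p, hp, by rw [h1]; exact Nat.eq_of_beq_eq_true h2⟩

/-- Three levels exhausting the family. -/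
theorem FamLevels.three_orbits {O : Set Y} {lev : Z → Y → ℕ} {z : Z} {tab : List (ℕ × ℕ)}
    (h : FamLevels O lev z tab) (hOinv : ∀ g ∈ M24, ∀ y ∈ O, g • y ∈ O)
    (hinv : ∀ (g : Equiv.Perm GolayPt) z y, lev (g • z) (g • y) = lev z y)
    {H : Subgroup M24} (hH : ∀ g : M24, g ∈ H ↔ (g : Equiv.Perm GolayPt) • z = z) {i₁ i₂ i₃ n₁ n₂ n₃ : ℕ}
    (hs : famSizes tab [(i₁, n₁), (i₂, n₂), (i₃, n₃)] = true)
    (p1 : 0 < n₁) (p2 : 0 < n₂) (p3 : 0 < n₃) :
    ∃ X₁ ∈ O, ∃ X₂ ∈ O, ∃ X₃ ∈ O, (MulAction.orbit ↥H X₁).ncard = n₁ ∧ (MulAction.orbit ↥H X₂).ncard = n₂ ∧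
      (MulAction.orbit ↥H X₃).ncard = n₃ ∧
      O = MulAction.orbit ↥H X₁ ∪ MulAction.orbit ↥H X₂ ∪ MulAction.orbit ↥H X₃ := by
  obtain ⟨X₁, a1, -, o1, c1⟩ := h.level_spec hOinv hinv hH (i := i₁) (famSizes_len hs (by simp)) p1
  obtain ⟨X₂, a2, -, o2, c2⟩ := h.level_spec hOinv hinv hH (i := i₂) (famSizes_len hs (by simp)) p2
  obtain ⟨X₃, a3, -, o3, c3⟩ := h.level_spec hOinv hinv hH (i := i₃) (famSizes_len hs (by simp)) p3
  refine ⟨X₁, a1, X₂, a2, X₃, a3, c1, c2, c3, ?_⟩
  rw [o1, o2, o3]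
  ext y
  simp only [Set.mem_union, Set.mem_ofPred_eq]
  constructor
  · intro hy
    obtain ⟨p, hp, h4⟩ := h.lev_sizes hs hy
    simp only [List.mem_cons, List.not_mem_nil, or_false] at hp
    rcases hp with rfl | rfl | rfl
    · exact Or.inl (Or.inl ⟨hy, h4⟩)
    · exact Or.inl (Or.inr ⟨hy, h4⟩)
    · exact Or.inr ⟨hy, h4⟩
  · rintro ((h4 | h4) | h4) <;> exact h4.1

/-- Four levels exhausting the family. -/
theorem FamLevels.four_orbits {O : Set Y} {lev : Z → Y → ℕ} {z : Z} {tab : List (ℕ × ℕ)}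
    (h : FamLevels O lev z tab) (hOinv : ∀ g ∈ M24, ∀ y ∈ O, g • y ∈ O)
    (hinv : ∀ (g : Equiv.Perm GolayPt) z y, lev (g • z) (g • y) = lev z y)
    {H : Subgroup M24} (hH : ∀ g : M24, g ∈ H ↔ (g : Equiv.Perm GolayPt) • z = z) {i₁ i₂ i₃ i₄ n₁ n₂ n₃ n₄ : ℕ}
    (hs : famSizes tab [(i₁, n₁), (i₂, n₂), (i₃, n₃), (i₄, n₄)] = true)
    (p1 : 0 < n₁) (p2 : 0 < n₂) (p3 : 0 < n₃) (p4 : 0 < n₄) :
    ∃ X₁ ∈ O, ∃ X₂ ∈ O, ∃ X₃ ∈ O, ∃ X₄ ∈ O, (MulAction.orbit ↥H X₁).ncard = n₁ ∧
      (MulAction.orbit ↥H X₂).ncard = n₂ ∧ (MulAction.orbit ↥H X₃).ncard = n₃ ∧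
      (MulAction.orbit ↥H X₄).ncard = n₄ ∧
      O = MulAction.orbit ↥H X₁ ∪ MulAction.orbit ↥H X₂ ∪ MulAction.orbit ↥H X₃ ∪ MulAction.orbit ↥H X₄ := by
  obtain ⟨X₁, a1, -, o1, c1⟩ := h.level_spec hOinv hinv hH (i := i₁) (famSizes_len hs (by simp)) p1
  obtain ⟨X₂, a2, -, o2, c2⟩ := h.level_spec hOinv hinv hH (i := i₂) (famSizes_len hs (by simp)) p2
  obtain ⟨X₃, a3, -, o3, c3⟩ := h.level_spec hOinv hinv hH (i := i₃) (famSizes_len hs (by simp)) p3
  obtain ⟨X₄, a4, -, o4, c4⟩ := h.level_spec hOinv hinv hH (i := i₄) (famSizes_len hs (by simp)) p4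
  refine ⟨X₁, a1, X₂, a2, X₃, a3, X₄, a4, c1, c2, c3, c4, ?_⟩
  rw [o1, o2, o3, o4]
  ext y
  simp only [Set.mem_union, Set.mem_ofPred_eq]
  constructor
  · intro hy
    obtain ⟨p, hp, h5⟩ := h.lev_sizes hs hy
    simp only [List.mem_cons, List.not_mem_nil, or_false] at hp
    rcases hp with rfl | rfl | rfl | rfl
    · exact Or.inl (Or.inl (Or.inl ⟨hy, h5⟩))
    · exact Or.inl (Or.inl (Or.inr ⟨hy, h5⟩))
    · exact Or.inl (Or.inr ⟨hy, h5⟩)
    · exact Or.inr ⟨hy, h5⟩
  · rintro (((h5 | h5) | h5) | h5) <;> exact h5.1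

/-- Maximality from the level data. -/
theorem FamLevels.coatom {O : Set Y} {z : Y} {tab l : List (ℕ × ℕ)} {lev' : Y → Y → ℕ}
    (h : FamLevels (Z := Y) O lev' z tab) (hOf : O.Finite) (hz : z ∈ O)
    (hOinv : ∀ g ∈ M24, ∀ y ∈ O, g • y ∈ O)
    (htr : ∀ y ∈ O, ∃ g ∈ M24, g • z = y)
    (hs : famSizes tab l = true)
    {I : Finset ℕ} (hIl : ∀ p ∈ l, p.1 ∈ I) {size : ℕ → ℕ}
    (hsz : ∀ i ∈ I, (i, size i) ∈ l)
    (hone : size (lev' z z) = 1) (hne : ∃ y ∈ O, y ≠ z)
    (harith : ∀ A ∈ I.powerset, lev' z z ∈ A → (∑ i ∈ A, size i) ∣ (∑ i ∈ I, size i) →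
      A = {lev' z z} ∨ A = I) :
    IsCoatom (MulAction.stabilizer M24 z) := by
  refine isCoatom_of_levels (G := M24) (X := Y) z O hOf (lev' z) I size hz
    (fun g y hy => hOinv g g.2 y hy) ?_ ?_ ?_ ?_ hne hone harith
  · intro y hy
    obtain ⟨g, hg, h1⟩ := htr y hy
    exact ⟨⟨g, hg⟩, h1⟩
  · intro y hy
    obtain ⟨p, hp, h1⟩ := h.lev_sizes hs hy
    rw [h1]
    exact hIl p hp
  · intro i hi
    rw [h.count i]
    exact famSizes_len hs (hsz i hi)
  · intro y hy y' hy' hl
    obtain ⟨g, hg, h1, h2⟩ := h.same y hy y' hy' hl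
    exact ⟨⟨g, hg⟩, h1, h2⟩

end master

/-! ### Keys for finite families of masks -/


/-- Digits of a key in base `2 ^ 24`. -/
def unp : ℕ → ℕ → List ℕ
  | 0, _ => []
  | n + 1, k => Nat.land k 0xffffff :: unp n (Nat.shiftRight k 24)

/-- The key of a list of masks. -/
def pck : List ℕ → ℕ
  | [] => 0
  | a :: l => Nat.add a (Nat.shiftLeft (pck l) 24)

theorem land_full_eq (k : ℕ) : Nat.land k 0xffffff = k % 2 ^ 24 := by
  have : (0xffffff : ℕ) = 2 ^ 24 - 1 := by norm_num
  change k &&& 0xffffff = _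
  rw [this, Nat.and_two_pow_sub_one_eq_mod]

theorem unp_pck (l : List ℕ) (hl : ∀ a ∈ l, a < 2 ^ 24) : unp l.length (pck l) = l := by
  induction l with
  | nil => rfl
  | cons a l ih =>
    have ha := hl a List.mem_cons_self
    have h1 : Nat.shiftLeft (pck l) 24 = pck l * 2 ^ 24 := Nat.shiftLeft_eq _ _
    have h2 : pck (a :: l) = a + pck l * 2 ^ 24 := by
      change Nat.add a (Nat.shiftLeft (pck l) 24) = _
      rw [h1]; rfl
    simp only [List.length_cons, unp]
    have h3 : Nat.land (pck (a :: l)) 0xffffff = a := by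
      rw [land_full_eq, h2, Nat.add_mul_mod_self_right, Nat.mod_eq_of_lt ha]
    have h4 : Nat.shiftRight (pck (a :: l)) 24 = pck l := by
      change pck (a :: l) >>> 24 = _
      rw [Nat.shiftRight_eq_div_pow, h2, Nat.add_mul_div_right _ _ (by norm_num),
        Nat.div_eq_of_lt ha, Nat.zero_add]
    rw [h3, h4, ih (fun b hb => hl b (List.mem_cons_of_mem _ hb))]

theorem unp_lt (n k : ℕ) : ∀ a ∈ unp n k, a < 2 ^ 24 := by
  induction n generalizing k with
  | zero => simp [unp]
  | succ n ih =>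
    intro a ha
    rcases List.mem_cons.mp ha with rfl | h
    · rw [land_full_eq]
      exact Nat.mod_lt _ (by norm_num)
    · exact ih _ a h

theorem length_unp (n k : ℕ) : (unp n k).length = n := by
  induction n generalizing k with
  | zero => rfl
  | succ n ih => simp [unp, ih]

/-- Insertion into a sorted list. -/
def insL (x : ℕ) : List ℕ → List ℕ
  | [] => [x]
  | y :: l =>
    match Nat.ble x y with
    | true => x :: y :: l
    | false => y :: insL x l

/-- Insertion sort. -/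
def sortL : List ℕ → List ℕ
  | [] => []
  | x :: l => insL x (sortL l)

theorem insL_perm (x : ℕ) (l : List ℕ) : (insL x l).Perm (x :: l) := by
  induction l with
  | nil => exact List.Perm.refl _
  | cons y l ih =>
    simp only [insL]
    split
    · exact List.Perm.refl _
    · exact (List.Perm.cons y ih).trans (List.Perm.swap x y l)

theorem sortL_perm (l : List ℕ) : (sortL l).Perm l := by
  induction l with
  | nil => exact List.Perm.refl _
  | cons x l ih =>
    simp only [sortL]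
    exact (insL_perm x _).trans (List.Perm.cons x ih)

/-- The family of masks coded by a key. -/
def famDec (n k : ℕ) : Finset (Finset GolayPt) := ((unp n k).map fs).toFinset

/-- Action on keys. -/
def famAct (n c k : ℕ) : ℕ := pck (sortL ((unp n k).map (img c)))

theorem famDec_act (n c k : ℕ) (hv : valid c = true) : famDec n (famAct n c k) = mk c • famDec n k := by
  classical
  have hperm := sortL_perm ((unp n k).map (img c))
  have hlen : (sortL ((unp n k).map (img c))).length = n := by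
    rw [hperm.length_eq, List.length_map, length_unp]
  have hlt : ∀ a ∈ sortL ((unp n k).map (img c)), a < 2 ^ 24 := by
    intro a ha
    obtain ⟨b, -, rfl⟩ := List.mem_map.mp (hperm.mem_iff.mp ha)
    exact img_lt hv b
  have h1 : unp n (famAct n c k) = sortL ((unp n k).map (img c)) := by
    unfold famAct
    conv_lhs => rw [← hlen]
    rw [hlen]
    have := unp_pck _ hlt
    rwa [hlen] at this
  unfold famDec
  rw [h1]
  ext x
  simp only [List.mem_toFinset, List.mem_map, Finset.mem_smul_finset]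
  constructor
  · rintro ⟨a, ha, rfl⟩
    obtain ⟨b, hb, rfl⟩ := List.mem_map.mp (hperm.mem_iff.mp ha)
    exact ⟨fs b, ⟨b, hb, rfl⟩, (fs_img hv b).symm⟩
  · rintro ⟨_, ⟨b, hb, rfl⟩, rfl⟩
    exact ⟨img c b, hperm.mem_iff.mpr (List.mem_map_of_mem hb), fs_img hv b⟩

/-- A strictly increasing list. -/
def strictInc : List ℕ → Bool
  | [] => true
  | [_] => true
  | a :: b :: l => Nat.ble (a + 1) b && strictInc (b :: l)

theorem strictInc_head {a : ℕ} {l : List ℕ} (h : strictInc (a :: l) = true) : ∀ x ∈ l, a < x := by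
  induction l generalizing a with
  | nil => simp
  | cons b l ih =>
    simp only [strictInc, Bool.and_eq_true] at h
    have hab : a < b := Nat.le_of_ble_eq_true h.1
    intro x hx
    rcases List.mem_cons.mp hx with rfl | hx
    · exact hab
    · exact lt_trans hab (ih h.2 x hx)

theorem strictInc_nodup {l : List ℕ} (h : strictInc l = true) : l.Nodup := by
  induction l with
  | nil => simp
  | cons a l ih =>
    refine List.nodup_cons.mpr ⟨fun ha => absurd (strictInc_head h a ha) (Nat.lt_irrefl _), ih ?_⟩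
    cases l with
    | nil => rfl
    | cons b l =>
      simp only [strictInc, Bool.and_eq_true] at h
      exact h.2

theorem strictInc_pairwise {l : List ℕ} (h : strictInc l = true) : l.Pairwise (fun a b => a < b) := by
  induction l with
  | nil => exact List.Pairwise.nil
  | cons a l ih =>
    refine List.Pairwise.cons (strictInc_head h) (ih ?_)
    cases l with
    | nil => rfl
    | cons b l =>
      simp only [strictInc, Bool.and_eq_true] at h
      exact h.2

/-- A canonical key: strictly increasing digits that rebuild the key. -/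
def famOK (n k : ℕ) : Bool :=
  strictInc (unp n k) && Nat.beq (pck (unp n k)) k

theorem fs_injOn_lt {a b : ℕ} (ha : a < 2 ^ 24) (hb : b < 2 ^ 24) (h : fs a = fs b) : a = b :=
  eq_of_fs_eq ha hb h

theorem map_fs_nodup {l : List ℕ} (hl : ∀ a ∈ l, a < 2 ^ 24) (hn : l.Nodup) : (l.map fs).Nodup := by
  refine List.Nodup.map_on ?_ hn
  intro a ha b hb h
  exact fs_injOn_lt (hl a ha) (hl b hb) h

theorem famDec_inj {n k k' : ℕ} (h : famOK n k = true) (h' : famOK n k' = true)
    (he : famDec n k = famDec n k') : k = k' := by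
  classical
  simp only [famOK, Bool.and_eq_true] at h h'
  have h1 := strictInc_pairwise h.1
  have h2 := strictInc_pairwise h'.1
  have hk := Nat.eq_of_beq_eq_true h.2
  have hk' := Nat.eq_of_beq_eq_true h'.2
  have hnd : (unp n k).Nodup := h1.imp (fun hab => Nat.ne_of_lt hab)
  have hnd' : (unp n k').Nodup := h2.imp (fun hab => Nat.ne_of_lt hab)
  have hmem : ∀ a, a ∈ unp n k ↔ a ∈ unp n k' := by
    intro a
    have key : ∀ m : List ℕ, (∀ b ∈ m, b < 2 ^ 24) → ∀ a, a < 2 ^ 24 → (fs a ∈ (m.map fs).toFinset ↔ a ∈ m) := by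
      intro m hm a ha
      simp only [List.mem_toFinset, List.mem_map]
      constructor
      · rintro ⟨b, hb, h⟩
        rw [← fs_injOn_lt (hm b hb) ha h]
        exact hb
      · intro h
        exact ⟨a, h, rfl⟩
    have he' : ((unp n k).map fs).toFinset = ((unp n k').map fs).toFinset := he
    constructor
    · intro ha
      have hlt := unp_lt _ _ a ha
      rw [← key _ (unp_lt _ _) a hlt, ← he', key _ (unp_lt _ _) a hlt]
      exact ha
    · intro ha
      have hlt := unp_lt _ _ a ha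
      rw [← key _ (unp_lt _ _) a hlt, he', key _ (unp_lt _ _) a hlt]
      exact ha
  have hperm : (unp n k).Perm (unp n k') := (List.perm_ext_iff_of_nodup hnd hnd').mpr hmem
  have heq : unp n k = unp n k' :=
    hperm.eq_of_pairwise (fun a b _ _ hab hba =>
      absurd (Nat.lt_trans hab hba) (Nat.lt_irrefl _)) h1 h2
  rw [← hk, ← hk', heq]

/-! ### Squared intersection levels -/

/-- Sum of the squared intersection sizes of two families. -/
def sqF (A B : Finset (Finset GolayPt)) : ℕ := ∑ a ∈ A, ∑ b ∈ B, (a ∩ b).card ^ 2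

theorem sum_smul_finset {β : Type*} [AddCommMonoid β] (g : Equiv.Perm GolayPt) (A : Finset (Finset GolayPt))
    (f : Finset GolayPt → β) : ∑ a ∈ g • A, f a = ∑ a ∈ A, f (g • a) := by
  classical
  rw [Finset.smul_finset_def, Finset.sum_image]
  intro a _ b _ h
  exact MulAction.injective g h

theorem sqF_smul (g : Equiv.Perm GolayPt) (A B : Finset (Finset GolayPt)) :
    sqF (g • A) (g • B) = sqF A B := by
  unfold sqF
  rw [sum_smul_finset]
  refine Finset.sum_congr rfl fun a _ => ?_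
  rw [sum_smul_finset]
  refine Finset.sum_congr rfl fun b _ => ?_
  rw [card_smul_inter]

/-- The computable version of `sqF`. -/
def sqL (A B : List ℕ) : ℕ :=
  A.foldr (fun a acc => B.foldr (fun b acc' => Nat.add (Nat.pow (pop (Nat.land a b)) 2) acc') acc) 0

theorem foldr_add_eq {α : Type*} (l : List α) (f : α → ℕ) (acc : ℕ) :
    l.foldr (fun b acc' => f b + acc') acc = (l.map f).sum + acc := by
  induction l with
  | nil => simp
  | cons b l ih => simp only [List.foldr_cons, List.map_cons, List.sum_cons, ih]; omega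

theorem sqL_eq (A B : List ℕ) :
    sqL A B = (A.map (fun a => (B.map (fun b => (pop (a &&& b)) ^ 2)).sum)).sum := by
  unfold sqL
  induction A with
  | nil => simp
  | cons a A ih =>
    simp only [List.foldr_cons, List.map_cons, List.sum_cons, ih]
    exact foldr_add_eq B (fun b => (pop (a &&& b)) ^ 2) _

theorem sum_toFinset_map_fs {β : Type*} [AddCommMonoid β] (l : List ℕ) (hl : ∀ a ∈ l, a < 2 ^ 24)
    (hn : l.Nodup) (f : Finset GolayPt → β) :
    ∑ a ∈ (l.map fs).toFinset, f a = (l.map (fun a => f (fs a))).sum := by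
  classical
  have h1 := List.sum_toFinset f (map_fs_nodup hl hn)
  rw [h1, List.map_map]
  rfl

theorem sqF_eq_sqL {A B : List ℕ} (hA : ∀ a ∈ A, a < 2 ^ 24) (hB : ∀ a ∈ B, a < 2 ^ 24)
    (hnA : A.Nodup) (hnB : B.Nodup) :
    sqF (A.map fs).toFinset (B.map fs).toFinset = sqL A B := by
  unfold sqF
  rw [sum_toFinset_map_fs A hA hnA, sqL_eq]
  congr 1
  apply List.map_congr_left
  intro a _
  rw [sum_toFinset_map_fs B hB hnB]
  congr 1
  apply List.map_congr_left
  intro b _
  rw [card_inter_fs]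

theorem famOK_nodup {n k : ℕ} (h : famOK n k = true) : (unp n k).Nodup := by
  simp only [famOK, Bool.and_eq_true] at h
  exact strictInc_nodup h.1

theorem sqF_famDec {m n k k' : ℕ} (h : famOK m k = true) (h' : famOK n k' = true) :
    sqF (famDec m k) (famDec n k') = sqL (unp m k) (unp n k') :=
  sqF_eq_sqL (unp_lt _ _) (unp_lt _ _) (famOK_nodup h) (famOK_nodup h')

/-- The table of a list of keys with squared intersection levels. -/
def sqTab (m k0 n : ℕ) (keys : List ℕ) : List (ℕ × ℕ) :=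
  keys.map (fun k => (k, sqL (unp m k0) (unp n k)))

/-- All keys are canonical and strictly increasing. -/
def keysOK (n : ℕ) (keys : List ℕ) : Bool :=
  keys.all (famOK n) && strictInc keys

theorem keysOK_nodup {n : ℕ} {keys : List ℕ} (h : keysOK n keys = true) : keys.Nodup := by
  simp only [keysOK, Bool.and_eq_true] at h
  exact strictInc_nodup h.2

theorem keysOK_famOK {n : ℕ} {keys : List ℕ} (h : keysOK n keys = true) {k : ℕ} (hk : k ∈ keys) :
    famOK n k = true := by
  simp only [keysOK, Bool.and_eq_true, List.all_eq_true] at h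
  exact h.1 k hk

theorem sqF_self_transport {m k0 : ℕ} (hk0 : famOK m k0 = true) (u : Equiv.Perm GolayPt) :
    sqF (u • famDec m k0) (u • famDec m k0) = sqL (unp m k0) (unp m k0) := by
  rw [sqF_smul, sqF_famDec hk0 hk0]

/-- Packaged master theorem for families of masks acted on and based at a family of masks. -/
theorem famMasterSq {m n k0 : ℕ} {keys : List ℕ} (hk0 : famOK m k0 = true) (hkeys : keysOK n keys = true)
    {O : Set (Finset (Finset GolayPt))} (hOinv : ∀ g ∈ M24, ∀ y ∈ O, g • y ∈ O)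
    (hO : O = {y | ∃ k ∈ keys, y = famDec n k})
    {gens : List ℕ} (hg : gens.all (fun c => isAut c && Nat.beq (famAct m c k0) k0) = true)
    {certs : List (ℕ × ℕ × List ℕ)}
    (hcheck : famCheck (famAct n) gens (sqTab m k0 n keys) certs = true)
    {u : Equiv.Perm GolayPt} (hu : u ∈ M24) :
    FamLevels O sqF (u • famDec m k0) (sqTab m k0 n keys) := by
  refine famMaster (dec := famDec n) (act := famAct n) (fun c k hv => famDec_act n c k hv) hOinv ?_ ?_ ?_
    sqF_smul ?_ ?_ hcheck hu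
  · rw [hO]
    ext y
    simp [sqTab]
  · intro e he e' he' h
    obtain ⟨k, hk, rfl⟩ := List.mem_map.mp he
    obtain ⟨k', hk', rfl⟩ := List.mem_map.mp he'
    exact famDec_inj (keysOK_famOK hkeys hk) (keysOK_famOK hkeys hk') h
  · have : (sqTab m k0 n keys).map Prod.fst = keys := by
      simp [sqTab, List.map_map, Function.comp_def]
    rw [this]
    exact keysOK_nodup hkeys
  · intro e he
    obtain ⟨k, hk, rfl⟩ := List.mem_map.mp he
    exact sqF_famDec hk0 (keysOK_famOK hkeys hk)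
  · intro c hc
    have h1 := List.all_eq_true.mp hg c hc
    simp only [Bool.and_eq_true] at h1
    refine ⟨h1.1, ?_⟩
    rw [← famDec_act m c k0 (isAut_valid h1.1), Nat.eq_of_beq_eq_true h1.2]

/-! ### Octads as objects acted on -/

/-- The level of an octad over a family. -/
def sqO (z : Finset (Finset GolayPt)) (y : Finset GolayPt) : ℕ := sqF z {y}

theorem sqO_smul (g : Equiv.Perm GolayPt) (z : Finset (Finset GolayPt)) (y : Finset GolayPt) :
    sqO (g • z) (g • y) = sqO z y := by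
  unfold sqO
  rw [← Finset.smul_finset_singleton, sqF_smul]

/-- The table of the octads with squared intersection levels. -/
def octTab (m k0 : ℕ) : List (ℕ × ℕ) :=
  octadList.map (fun k => (k, sqL (unp m k0) [k]))

theorem octads_invariant : ∀ g ∈ M24, ∀ y ∈ octads, g • y ∈ octads := fun _ hg _ hy => M24_smul_octad hg hy

/-- Packaged master theorem for octads acted on and based at a family of masks. -/
theorem famMasterOct {m k0 : ℕ} (hk0 : famOK m k0 = true)
    {gens : List ℕ} (hg : gens.all (fun c => isAut c && Nat.beq (famAct m c k0) k0) = true)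
    {certs : List (ℕ × ℕ × List ℕ)}
    (hcheck : famCheck img gens (octTab m k0) certs = true)
    {u : Equiv.Perm GolayPt} (hu : u ∈ M24) :
    FamLevels octads sqO (u • famDec m k0) (octTab m k0) := by
  refine famMaster (dec := fs) (act := img) (fun c k hv => fs_img hv k) octads_invariant ?_ ?_ ?_
    sqO_smul ?_ ?_ hcheck hu
  · rw [octads_eq]
    ext y
    simp [octTab]
  · intro e he e' he' h
    obtain ⟨k, hk, rfl⟩ := List.mem_map.mp he
    obtain ⟨k', hk', rfl⟩ := List.mem_map.mp he'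
    exact fs_injOn_allCode (mem_octadList.mp hk).1 (mem_octadList.mp hk').1 h
  · have : (octTab m k0).map Prod.fst = octadList := by
      simp [octTab, List.map_map, Function.comp_def]
    rw [this]
    exact octadList_nodup
  · intro e he
    obtain ⟨k, hk, rfl⟩ := List.mem_map.mp he
    have hlt := allCode_lt_aux k (mem_octadList.mp hk).1
    have h1 : ({fs k} : Finset (Finset GolayPt)) = ([k].map fs).toFinset := by simp
    change sqF (famDec m k0) {fs k} = _
    rw [h1]
    exact sqF_eq_sqL (unp_lt _ _) (by simpa using hlt) (famOK_nodup hk0) (by simp)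
  · intro c hc
    have h1 := List.all_eq_true.mp hg c hc
    simp only [Bool.and_eq_true] at h1
    refine ⟨h1.1, ?_⟩
    rw [← famDec_act m c k0 (isAut_valid h1.1), Nat.eq_of_beq_eq_true h1.2]

end CfsgLib.Golay
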