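/-
General tools for orbits: soundness of generator lists, covers by walks, maximality by suborbit sizes.
-/
import Cfsg.Agent.Lib.Golay.Dodecad2

set_option autoImplicit false

namespace CfsgLib.Golay

open Cfsg
open scoped Pointwise

/-- Check that packed generators lie in the subgroup of `stabS (fs m)` fixing `G`. -/
def gensCheck (m : ℕ) (G gens : List ℕ) : Bool :=
  gens.all fun c => isAut c && Nat.beq (img c m) m && G.all (fun i => Nat.beq (pa c i) i)

theorem gens_sound {m : ℕ} {G gens : List ℕ} (h : gensCheck m G gens = true) :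
    ∀ c ∈ gens, valid c = true ∧ mk c ∈ fixIn (stabS (fs m)) G := by
  intro c hc
  have h1 := List.all_eq_true.mp h c hc
  simp only [Bool.and_eq_true] at h1
  obtain ⟨⟨h2, h3⟩, h4⟩ := h1
  have hv := isAut_valid h2
  refine ⟨hv, mem_fixIn.mpr ⟨mem_stabS.mpr ⟨mk_mem_M24 h2, ?_⟩, fun q hq => ?_⟩⟩
  · rw [← fs_img hv, Nat.eq_of_beq_eq_true h3]
  · apply idx_inj
    rw [idx_mk hv, Nat.eq_of_beq_eq_true (List.all_eq_true.mp h4 _ hq)]

/-- Check that packed generators lie in `fixIn K F` for a list of packed permutations. -/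
def gensFix (G gens : List ℕ) : Bool :=
  gens.all fun c => isAut c && G.all (fun i => Nat.beq (pa c i) i)

theorem gensFix_sound {G gens : List ℕ} (h : gensFix G gens = true) :
    ∀ c ∈ gens, valid c = true ∧ mk c ∈ fixIn M24 G := by
  intro c hc
  have h1 := List.all_eq_true.mp h c hc
  simp only [Bool.and_eq_true] at h1
  obtain ⟨h2, h4⟩ := h1
  have hv := isAut_valid h2
  refine ⟨hv, mem_fixIn.mpr ⟨mk_mem_M24 h2, fun q hq => ?_⟩⟩
  apply idx_inj
  rw [idx_mk hv, Nat.eq_of_beq_eq_true (List.all_eq_true.mp h4 _ hq)]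

/-- A target list is covered by a walk. -/
theorem inOrbit_of_cover {K : Subgroup (Equiv.Perm GolayPt)} {gens target ops : List ℕ} {r : ℕ}
    (hg : ∀ c ∈ gens, valid c = true ∧ mk c ∈ K)
    (h : target.all (fun c => (seenOf (walk (actG gens) r ops)).testBit c) = true)
    {c : ℕ} (hc : c ∈ target) : InOrbit K r c :=
  inOrbit_of_walk hg ops (mem_of_testBit_seenOf (List.all_eq_true.mp h c hc))

theorem InOrbit.same {K : Subgroup (Equiv.Perm GolayPt)} {r c c' : ℕ} (h : InOrbit K r c)
    (h' : InOrbit K r c') : ∃ g ∈ K, g • fs c = fs c' := by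
  obtain ⟨g, hg, h1⟩ := h
  obtain ⟨g', hg', h2⟩ := h'
  refine ⟨g' * g⁻¹, K.mul_mem hg' (K.inv_mem hg), ?_⟩
  rw [mul_smul, ← h1, inv_smul_smul, h2]

section coatom

variable {G X : Type*} [Group G] [Finite G] [MulAction G X]

/-- Maximality of a stabiliser from the sizes of its suborbits. -/
theorem isCoatom_of_levels (x : X) (O : Set X) (hOf : O.Finite) (lev : X → ℕ) (I : Finset ℕ)
    (size : ℕ → ℕ) (hxO : x ∈ O) (hinv : ∀ (g : G), ∀ y ∈ O, g • y ∈ O)
    (htrans : ∀ y ∈ O, ∃ g : G, g • x = y)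
    (hI : ∀ y ∈ O, lev y ∈ I)
    (hsize : ∀ i ∈ I, Set.ncard {y | y ∈ O ∧ lev y = i} = size i)
    (hlev : ∀ y ∈ O, ∀ z ∈ O, lev y = lev z → ∃ g : G, g • x = x ∧ g • y = z)
    (hne : ∃ y ∈ O, y ≠ x)
    (hone : size (lev x) = 1)
    (harith : ∀ A ∈ I.powerset, lev x ∈ A → (∑ i ∈ A, size i) ∣ (∑ i ∈ I, size i) → A = {lev x} ∨ A = I) :
    IsCoatom (MulAction.stabilizer G x) := by
  classical
  have hsum : ∀ A : Finset ℕ, A ⊆ I → Set.ncard {y | y ∈ O ∧ lev y ∈ A} = ∑ i ∈ A, size i := by
    intro A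
    induction A using Finset.induction_on with
    | empty =>
      intro _
      simp
    | insert a A ha ih =>
      intro hA
      have hsplit : {y | y ∈ O ∧ lev y ∈ insert a A} =
          {y | y ∈ O ∧ lev y = a} ∪ {y | y ∈ O ∧ lev y ∈ A} := by
        ext y
        simp only [Finset.mem_insert, Set.mem_ofPred_eq, Set.mem_union]
        tauto
      have hdisj : Disjoint {y | y ∈ O ∧ lev y = a} {y | y ∈ O ∧ lev y ∈ A} := by
        rw [Set.disjoint_left]
        rintro y ⟨-, h2⟩ ⟨-, h3⟩
        exact ha (h2 ▸ h3)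
      rw [hsplit, Set.ncard_union_eq hdisj (hOf.subset (fun y hy => hy.1))
        (hOf.subset (fun y hy => hy.1)), hsize a (hA (Finset.mem_insert_self _ _)),
        ih (fun i hi => hA (Finset.mem_insert_of_mem hi)), Finset.sum_insert ha]
  have hOcard : O.ncard = ∑ i ∈ I, size i := by
    have h2 := hsum I (Finset.Subset.refl _)
    rw [← h2]
    congr 1
    ext y
    simp only [Set.mem_ofPred_eq]
    exact ⟨fun hy => ⟨hy, hI y hy⟩, fun hy => hy.1⟩
  have horbG : MulAction.orbit G x = O := by
    ext y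
    constructor
    · rintro ⟨g, rfl⟩
      exact hinv g x hxO
    · intro hy
      obtain ⟨g, hg⟩ := htrans y hy
      exact ⟨g, hg⟩
  have hcardG : Nat.card G = O.ncard * Nat.card (MulAction.stabilizer G x) := by
    have h1 := Subgroup.card_mul_index (MulAction.stabilizer G x)
    rw [MulAction.index_stabilizer, horbG] at h1
    rw [← h1, mul_comm]
  have hHpos : 0 < Nat.card (MulAction.stabilizer G x) := Nat.card_pos
  refine ⟨?_, ?_⟩
  · intro htop
    obtain ⟨y, hy, hyx⟩ := hne
    obtain ⟨g, hg⟩ := htrans y hy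
    have : g ∈ MulAction.stabilizer G x := by rw [htop]; trivial
    rw [MulAction.mem_stabilizer_iff] at this
    exact hyx (hg.symm.trans this)
  · intro K hK
    have hle : MulAction.stabilizer G x ≤ K := hK.le
    have hB : MulAction.orbit K x ⊆ O := by
      rintro _ ⟨k, rfl⟩
      exact hinv (k : G) x hxO
    set A : Finset ℕ := I.filter (fun i => ∃ y ∈ MulAction.orbit K x, lev y = i) with hA
    have hBeq : MulAction.orbit K x = {y | y ∈ O ∧ lev y ∈ A} := by
      ext y
      simp only [Set.mem_ofPred_eq, hA, Finset.mem_filter]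
      constructor
      · intro hy
        exact ⟨hB hy, hI y (hB hy), y, hy, rfl⟩
      · rintro ⟨hy, -, z, hz, hzy⟩
        obtain ⟨g, hgx, hgz⟩ := hlev z (hB hz) y hy hzy
        have hgK : g ∈ K := hle ((MulAction.mem_stabilizer_iff).mpr hgx)
        rw [← hgz]
        obtain ⟨k, rfl⟩ := hz
        refine ⟨⟨g, hgK⟩ * k, ?_⟩
        change ((⟨g, hgK⟩ * k : K) : G) • x = g • ((k : G) • x)
        rw [Subgroup.coe_mul, mul_smul]
    have hAsub : A ⊆ I := Finset.filter_subset _ _
    have hcardB : (MulAction.orbit K x).ncard = ∑ i ∈ A, size i := by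
      rw [hBeq, hsum A hAsub]
    have hcardK : Nat.card K = (MulAction.orbit K x).ncard * Nat.card (MulAction.stabilizer G x) := by
      have h1 := card_orbit_step K x
      have h2 : K ⊓ MulAction.stabilizer G x = MulAction.stabilizer G x := inf_eq_right.mpr hle
      rw [h2] at h1
      exact h1
    have hdvd : (∑ i ∈ A, size i) ∣ (∑ i ∈ I, size i) := by
      have h1 := Subgroup.card_subgroup_dvd_card K
      rw [hcardK, hcardG, hOcard, hcardB] at h1
      exact Nat.dvd_of_mul_dvd_mul_right hHpos h1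
    have hxA : lev x ∈ A := by
      simp only [hA, Finset.mem_filter]
      exact ⟨hI x hxO, x, MulAction.mem_orbit_self x, rfl⟩
    rcases harith A (Finset.mem_powerset.mpr hAsub) hxA hdvd with h1 | h1
    · exfalso
      apply hK.ne
      apply le_antisymm hle
      intro k hk
      rw [MulAction.mem_stabilizer_iff]
      have h2 : k • x ∈ MulAction.orbit K x := ⟨⟨k, hk⟩, rfl⟩
      have h3 : (MulAction.orbit K x).ncard = 1 := by
        rw [hcardB, h1, Finset.sum_singleton, hone]
      have hfin : (MulAction.orbit K x).Finite := hOf.subset hB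
      obtain ⟨a, ha⟩ := Set.ncard_eq_one.mp h3
      have h4 : x ∈ MulAction.orbit K x := MulAction.mem_orbit_self x
      rw [ha] at h2 h4
      exact (Set.mem_singleton_iff.mp h2).trans (Set.mem_singleton_iff.mp h4).symm
    · apply Subgroup.eq_top_of_card_eq
      rw [hcardK, hcardG, hcardB, hOcard, h1]

end coatom

end CfsgLib.Golay
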