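/-
Lists of all `k`-subsets (as masks), and generic orbit checks on lists of masks.
-/
import Cfsg.Agent.Lib.Golay.Orbits

set_option autoImplicit false

namespace CfsgLib.Golay

open Cfsg
open scoped Pointwise

/-- The masks below `2 ^ n` with exactly `k` bits set. -/
def subs : ℕ → ℕ → List ℕ
  | _, 0 => [0]
  | 0, _ + 1 => []
  | n + 1, k + 1 => subs n (k + 1) ++ (subs n k).map (fun m => Nat.add m (Nat.shiftLeft 1 n))

theorem bitCount_succ (n m : ℕ) :
    bitCount (n + 1) m = bitCount n m + (if m.testBit n = true then 1 else 0) := by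
  simp only [bitCount, Finset.range_add_one, Finset.filter_insert]
  split_ifs with h
  · rw [Finset.card_insert_of_notMem]
    simp
  · simp

theorem testBit_lt_of_lt' {m n i : ℕ} (hm : m < 2 ^ n) (h : m.testBit i = true) : i < n := by
  by_contra hi
  have h2 : (2 : ℕ) ^ n ≤ 2 ^ i := Nat.pow_le_pow_right (by norm_num) (by omega)
  rw [Nat.testBit_lt_two_pow (lt_of_lt_of_le hm h2)] at h
  exact absurd h (by simp)

theorem bitCount_eq_zero {n m : ℕ} (h : bitCount n m = 0) (hm : m < 2 ^ n) : m = 0 := by
  apply Nat.eq_of_testBit_eq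
  intro i
  rw [Nat.zero_testBit]
  by_contra h2
  rw [Bool.not_eq_false] at h2
  have hi : i < n := testBit_lt_of_lt' hm h2
  have : i ∈ (Finset.range n).filter (fun i => m.testBit i = true) :=
    Finset.mem_filter.mpr ⟨Finset.mem_range.mpr hi, h2⟩
  rw [bitCount, Finset.card_eq_zero] at h
  rw [h] at this
  simp at this

theorem bitCount_congr {n a b : ℕ} (h : ∀ i < n, a.testBit i = b.testBit i) :
    bitCount n a = bitCount n b := by
  unfold bitCount
  congr 1
  apply Finset.filter_congr
  intro i hi
  rw [h i (Finset.mem_range.mp hi)]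

theorem mem_subs (n k m : ℕ) : m ∈ subs n k ↔ m < 2 ^ n ∧ bitCount n m = k := by
  induction n generalizing k m with
  | zero =>
    cases k with
    | zero =>
      simp [subs, bitCount]
    | succ k =>
      simp [subs, bitCount]
  | succ n ih =>
    cases k with
    | zero =>
      simp only [subs, List.mem_singleton]
      constructor
      · rintro rfl
        exact ⟨by positivity, by simp [bitCount]⟩
      · rintro ⟨h1, h2⟩
        exact bitCount_eq_zero h2 h1
    | succ k =>
      simp only [subs, List.mem_append, List.mem_map]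
      constructor
      · rintro (h | ⟨a, ha, rfl⟩)
        · obtain ⟨h1, h2⟩ := (ih _ _).mp h
          refine ⟨lt_of_lt_of_le h1 (Nat.pow_le_pow_right (by norm_num) (by omega)), ?_⟩
          rw [bitCount_succ, Nat.testBit_lt_two_pow h1, h2]
          simp
        · obtain ⟨h1, h2⟩ := (ih _ _).mp ha
          have h3 : a.add (Nat.shiftLeft 1 n) = 2 ^ n + a := by
            change a + 1 <<< n = _
            rw [Nat.one_shiftLeft, Nat.add_comm]
          rw [h3]
          refine ⟨by rw [pow_succ]; omega, ?_⟩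
          rw [bitCount_succ, Nat.testBit_two_pow_add_eq, Nat.testBit_lt_two_pow h1]
          have h4 : bitCount n (2 ^ n + a) = bitCount n a :=
            bitCount_congr (fun i hi => Nat.testBit_two_pow_add_gt hi a)
          rw [h4, h2]
          simp
      · rintro ⟨h1, h2⟩
        rw [bitCount_succ] at h2
        by_cases hb : m.testBit n = true
        · right
          rw [if_pos hb] at h2
          have hle : 2 ^ n ≤ m := by
            by_contra hlt
            rw [Nat.testBit_lt_two_pow (by omega)] at hb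
            exact absurd hb (by simp)
          refine ⟨m - 2 ^ n, (ih _ _).mpr ⟨by rw [pow_succ] at h1; omega, ?_⟩, ?_⟩
          · have h4 : bitCount n (2 ^ n + (m - 2 ^ n)) = bitCount n (m - 2 ^ n) :=
              bitCount_congr (fun i hi => Nat.testBit_two_pow_add_gt hi _)
            rw [← h4, Nat.add_sub_cancel' hle]
            omega
          · change m - 2 ^ n + 1 <<< n = m
            rw [Nat.one_shiftLeft]
            omega
        · left
          rw [if_neg hb] at h2
          rw [Bool.not_eq_true] at hb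
          refine (ih _ _).mpr ⟨?_, by omega⟩
          apply Nat.lt_pow_two_of_testBit
          intro i hi
          by_cases hin : i = n
          · rw [hin]; exact hb
          · apply Nat.testBit_lt_two_pow
            exact lt_of_lt_of_le h1 (Nat.pow_le_pow_right (by norm_num) (by omega))

theorem subs_nodup (n k : ℕ) : (subs n k).Nodup := by
  induction n generalizing k with
  | zero =>
    cases k <;> simp [subs]
  | succ n ih =>
    cases k with
    | zero => simp [subs]
    | succ k =>
      simp only [subs]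
      rw [List.nodup_append]
      refine ⟨ih _, (ih _).map ?_, ?_⟩
      · intro a b hab
        have h1 : a + 1 <<< n = b + 1 <<< n := hab
        omega
      · intro a ha b hb
        obtain ⟨c, hc, rfl⟩ := List.mem_map.mp hb
        have h1 := ((mem_subs _ _ _).mp ha).1
        have h2 : c.add (Nat.shiftLeft 1 n) = c + 2 ^ n := by
          change c + 1 <<< n = _
          rw [Nat.one_shiftLeft]
        rw [h2]
        omega

/-- Membership in the list of `k`-subsets. -/
theorem mask_mem_subs (s : Finset GolayPt) : mask s ∈ subs 24 s.card := by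
  rw [mem_subs, ← pop_eq, ← card_fs, fs_mask]
  exact ⟨mask_lt s, rfl⟩

theorem card_fs_of_mem_subs {k c : ℕ} (h : c ∈ subs 24 k) : (fs c).card = k := by
  rw [card_fs, pop_eq]
  exact ((mem_subs _ _ _).mp h).2

theorem lt_of_mem_subs {k c : ℕ} (h : c ∈ subs 24 k) : c < 2 ^ 24 := ((mem_subs _ _ _).mp h).1

/-- The `k`-subsets as images of the list of masks. -/
theorem card_eq_set (k : ℕ) : {s : Finset GolayPt | s.card = k} = {s | ∃ c ∈ subs 24 k, s = fs c} := by
  ext s
  constructor
  · intro h
    have h2 := mask_mem_subs s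
    rw [h] at h2
    exact ⟨_, h2, (fs_mask s).symm⟩
  · rintro ⟨c, hc, rfl⟩
    exact card_fs_of_mem_subs hc

/-! ### Orbit checks on lists of masks -/

/-- The cover of a level by a walk. -/
def certCover (gens l : List ℕ) (lev : ℕ → ℕ) (cert : ℕ × ℕ × List ℕ) : Bool :=
  (l.filter (fun c => Nat.beq (lev c) cert.1)).all
    (fun c => (seenOf (walk (actG gens) cert.2.1 cert.2.2)).testBit c)

/-- All levels are covered by walks. -/
def levelsCheck (gens l : List ℕ) (lev : ℕ → ℕ) (certs : List (ℕ × ℕ × List ℕ)) : Bool :=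
  certs.all (certCover gens l lev) && l.all (fun c => certs.any (fun t => Nat.beq (lev c) t.1))

theorem same_orbit_of_levels {K : Subgroup (Equiv.Perm GolayPt)} {gens l : List ℕ} {lev : ℕ → ℕ}
    {certs : List (ℕ × ℕ × List ℕ)} (hg : ∀ c ∈ gens, valid c = true ∧ mk c ∈ K)
    (h : levelsCheck gens l lev certs = true) {c c' : ℕ} (hc : c ∈ l) (hc' : c' ∈ l)
    (hlev : lev c = lev c') : ∃ g ∈ K, g • fs c = fs c' := by
  simp only [levelsCheck, Bool.and_eq_true, List.all_eq_true, List.any_eq_true] at h
  obtain ⟨h1, h2⟩ := h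
  obtain ⟨t, ht, ht2⟩ := h2 c hc
  have h3 := h1 t ht
  have h4 : lev c = t.1 := Nat.eq_of_beq_eq_true ht2
  have key : ∀ x ∈ l, lev x = t.1 → InOrbit K t.2.1 x := by
    intro x hx hxl
    refine inOrbit_of_cover hg (target := l.filter (fun c => Nat.beq (lev c) t.1)) (ops := t.2.2) h3
      (List.mem_filter.mpr ⟨hx, by rw [hxl]; simp⟩)
  exact (key c hc h4).same (key c' hc' (hlev ▸ h4))

/-- Master theorem for maximality: a family `B = fs '' l` on which `M24` is transitive, with levels
certified on the base member by walks. -/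
theorem coatom_master {l : List ℕ} {m0 : ℕ} {gens : List ℕ} {levB : ℕ → ℕ}
    {certs : List (ℕ × ℕ × List ℕ)} {I : Finset ℕ} {size : ℕ → ℕ}
    {B : Set (Finset GolayPt)} (hBl : B = {s | ∃ c ∈ l, s = fs c})
    (hl : ∀ c ∈ l, c < 2 ^ 24) (hnd : l.Nodup)
    (hm0 : m0 ∈ l)
    (hBinv : ∀ g ∈ M24, ∀ x ∈ B, g • x ∈ B)
    (htr : ∀ x ∈ B, ∀ y ∈ B, ∃ g ∈ M24, g • x = y)
    (hgens : gensCheck m0 [] gens = true)
    (hlv : levelsCheck gens l levB certs = true)
    (hsz : ∀ i ∈ I, (l.filter (fun c => Nat.beq (levB c) i)).length = size i)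
    (hI : ∀ c ∈ l, levB c ∈ I)
    (hone : size (levB m0) = 1)
    (hmore : 1 < l.length)
    (harith : ∀ A ∈ I.powerset, levB m0 ∈ A → (∑ i ∈ A, size i) ∣ (∑ i ∈ I, size i) → A = {levB m0} ∨ A = I)
    {s : Finset GolayPt} (hs : s ∈ B) : IsCoatom (MulAction.stabilizer M24 s) := by
  have hm0B : fs m0 ∈ B := by rw [hBl]; exact ⟨m0, hm0, rfl⟩
  obtain ⟨u, hu, rfl⟩ := htr _ hm0B _ hs
  have hmaskl : ∀ x ∈ B, mask x ∈ l := by
    intro x hx
    rw [hBl] at hx
    obtain ⟨c, hc, rfl⟩ := hx
    rw [mask_fs (hl c hc)]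
    exact hc
  have hK : ∀ c ∈ gens, valid c = true ∧ mk c ∈ stabS (fs m0) := by
    have h := gens_sound hgens
    intro c hc
    have h1 := h c hc
    rw [fixIn_nil] at h1
    exact h1
  refine isCoatom_of_levels (G := M24) (X := Finset GolayPt) (u • fs m0) B (Set.toFinite _)
    (fun x => levB (mask (u⁻¹ • x))) I size hs (fun g y hy => hBinv g g.2 y hy) ?_ ?_ ?_ ?_ ?_ ?_ ?_
  · intro y hy
    obtain ⟨g, hg, h⟩ := htr _ hs _ hy
    exact ⟨⟨g, hg⟩, h⟩
  · intro y hy
    exact hI _ (hmaskl _ (hBinv _ (M24.inv_mem hu) _ hy))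
  · intro i hi
    rw [← hsz i hi]
    rw [show {y | y ∈ B ∧ levB (mask (u⁻¹ • y)) = i} = {y | y ∈ B ∧ (fun x => levB (mask (u⁻¹ • x)) = i) y} from rfl]
    rw [ncard_transport (Q := fun x => levB (mask x) = i) hBinv hu (fun x => by rw [inv_smul_smul])]
    rw [hBl]
    refine ncard_filter_list hl hnd _ _ ?_
    intro c hc
    rw [mask_fs (hl c hc)]
    constructor
    · intro h; rw [h]; simp
    · intro h; exact Nat.eq_of_beq_eq_true h
  · intro y hy z hz h
    have hy' := hBinv _ (M24.inv_mem hu) _ hy
    have hz' := hBinv _ (M24.inv_mem hu) _ hz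
    obtain ⟨g, hg, hgy⟩ := same_orbit_of_levels hK hlv (hmaskl _ hy') (hmaskl _ hz') h
    rw [fs_mask, fs_mask] at hgy
    obtain ⟨hg1, hg2⟩ := mem_stabS.mp hg
    refine ⟨⟨u * g * u⁻¹, M24.mul_mem (M24.mul_mem hu hg1) (M24.inv_mem hu)⟩, ?_, ?_⟩
    · change (u * g * u⁻¹) • u • fs m0 = u • fs m0
      rw [mul_smul, mul_smul, inv_smul_smul, hg2]
    · change (u * g * u⁻¹) • y = z
      rw [mul_smul, mul_smul, hgy, smul_inv_smul]
  · have h1 : 1 < B.ncard := by
      rw [hBl, ncard_fs_image hl hnd]
      exact hmore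
    exact Set.exists_ne_of_one_lt_ncard h1 _
  · simp only [inv_smul_smul]
    rw [mask_fs (hl _ hm0)]
    exact hone
  · simp only [inv_smul_smul]
    rw [mask_fs (hl _ hm0)]
    exact harith

end CfsgLib.Golay
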