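/-
The stabiliser of a trio.
-/
import Cfsg.Agent.Lib.Golay.FamStab

set_option autoImplicit false
set_option maxRecDepth 100000

namespace CfsgLib.Golay

open Cfsg
open scoped Pointwise

def tk3 : ℕ := 2447175108243232920735

def swT0 : List ℕ := [812852730107173232200347929486133280, 956843057449841923631886535941902036, 112512351256469245102048929466801739]

def gl3Tab : List ℕ := [0, 0, 0, 0, 0, 0, 0, 0, 0, 0, 0, 0, 0, 0, 0, 0, 0, 0, 0, 0, 0, 0, 0, 0, 0, 0, 0, 0, 0, 0, 0, 0, 0, 0, 0, 0, 0, 0, 0, 0, 0, 0, 0, 0, 0, 0, 0, 0, 0, 0, 0, 0, 0, 0, 0, 0, 0, 0, 0, 0, 0, 0, 0, 0, 0, 0, 0, 0, 0, 0, 0, 0, 0, 0, 0, 0, 0, 0, 0, 0, 0, 0, 0, 0, 235855909544495096612222680610252935, 270393247097706621558262324018647361, 645978831549263144637665389695864194, 351276815375728941080119136311652448, 0, 0, 0, 0, 482293703792542925892874800247898179, 981934330948001430489786422444394508, 569232543380666420991126644122000420, 760246447532702103362860018070193386, 0, 0, 361741274740031500377529436747411490, 635433252527437236414000036596288736, 0, 0,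 275893590671955673019454529816596487, 232951742872133505908302953852577857, 0, 0, 770556243554974375978578925177537924, 559003867015917497301662789678472298, 0, 0, 977062742076300804542262574339819843, 484569115762356091083126169312198796, 0, 0, 478271426462165247631153125991153991, 983360431378908651357887098402343041, 766537800005214475046069933503939682, 562943716228462953684155054591909248, 0, 0, 0, 0, 234036837434771085798842943696939011, 274808496106901089765263059230756940, 344828274209445382515872968718233828, 652424847395237798825673231385627690, 0, 0, 0, 0, 0, 0, 0, 0, 0, 0, 0, 0, 0, 0, 486353982853563281410038176835403820, 774369340006351712846986569310077956, 967732843673566569891766047510399203, 565250859120431316587857091228605514, 0, 0, 0, 0, 0, 0, 0, 0, 0, 0, 0, 0, 230558400420992441998522797663562113, 353993377959444089769092222737854786, 268226844564788282543425389236457575, 650726180621968989577229120998542464, 0, 651248452361670123719227083775347850, 0, 353468570919413471737371709670437188, 0, 230588823973661054993911593233000835,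 0, 268196421089792290784716028408533100, 0, 268081064855953283920887548064534625, 0, 230623050569086304022453282186242439, 353670126864806755263153140759867712, 0, 651049431715059741003097447541509250, 0, 0, 565377623864737158004719381341412416, 0, 774245110562375355319846829487883266, 0, 486141017633805096185589719034331175, 0, 967945808815652133879535070569957601, 0, 967898905946803909193978970726566124, 0, 486269050141067078706432610268479523, 774038483396106910000920669033989130, 0, 565581715732222702513993746939714628, 0, 0, 0, 0, 0, 0, 0, 0, 0, 0, 0, 0, 0, 226254735159439672073762277875132514, 644627512502396877605176528087682375, 360406423660432822370334894471622785, 272216132244924431838995830201979264, 0, 0, 0, 0, 469200128861647934883916960976928996, 566830336791200526442733635041795075, 773025645656587175468398692477928524, 984650914344477243941598596387833898, 0, 0, 0, 0, 0, 0, 0, 0, 0, 359051311361029748344080068660736007, 648578801701572353690723182962773057, 0, 0, 278177905407100326437698346830270498, 220292971901654519831775361994139872,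 0, 0, 479379356987470118039815155925451138, 974474211615463927174034086129961056, 0, 775733326287730579274875566987248775, 0, 0, 561607608896281180773267722234895681, 0, 236844691972038538878798955746961444, 261623650035516698645625467639501034, 0, 357840719891679203268515099400450115, 0, 0, 649708263534926438569985361456434188, 0, 769330421871403804523410251279893827, 567929383676611495328430247175625868, 0, 0, 978045174696727742777035367873055108, 475805858605006693691764588744409194, 0, 0, 0, 0, 0, 0, 0, 0, 0, 0, 0, 568168969520227136322137167454280835, 978282225551687905800038623580555658, 0, 0, 768847447025926821986236128954484044, 475893326311706904797218538518708324, 0, 984818244535754528103549039458486304, 0, 566678218793628885875139940068957185, 0, 469278722893644215927616175694282978, 0, 772934374653542113483385845211857991, 0, 561357881767860228609771788081175884, 974232090857431377310601342458660964, 0, 0, 775658534854793691694934251790468227, 479862331369664438705333072742678922, 0, 0, 0, 0, 0, 0, 0, 0, 0, 0, 0, 648440627754421359473627608230726727,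 278463126601024893086362784682610720, 0, 0, 358864966823891061721071266500325377, 220251139632220601438225297599211746, 0, 272089367507978472371535931251069322, 0, 644759348074267610362306161949019468, 0, 226703483159263088719144097977247844, 0, 359950069603027769782240223909982339, 0, 649430647857815575473020273649847297, 261749147553557422845916513084412130, 0, 0, 357874946643996883725345857618325575, 237046248315987066259994316095334432, 0, 0, 0, 0, 0, 0, 0, 0, 0, 0, 0, 261509561709299461688422071130198241, 357645501918140636878356001247572032, 0, 0, 649913622471178691033540434149641218, 236951174712939126118968450485463079, 0, 773192975289016619076941018430833732, 0, 469519576582570041679774461495214316, 566751742383745834525579407037406218, 0, 984323860960868105133031110005295139, 0, 0, 220082542062352034810645713124337891, 648611760454177663789763023687683146, 0, 278378194283386885852205320049332268, 0, 0, 358944828634244294910310827381993476, 0, 0, 973943066289791582951855323146618988, 775782764542583856018806083040806026,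 0, 0, 561565776228593360218785075022568772, 479900361348579969716183977298035075, 0, 0, 0, 0, 0, 0, 0, 0, 0, 475999809045247610087985642095312999, 568054881194576022399296893241138304, 0, 977843618669623609724593146791332225, 0, 0, 769296194877498563050116849149773122, 0, 360240361155081616091468009429840002, 0, 226583056780386676785336991904508001, 644722586332652474455499158562508096, 0, 271877669736785316877287258655297927, 0, 0, 0, 0, 0, 0, 0, 0, 0, 0, 0, 234446288067198168898156036991625228, 652025537416342118567205734251367460, 274723564020432504162794357884522563, 344903065642382565277496073904042218, 0, 0, 0, 350866096501963839546293493460676714, 0, 270788753777766079497731218771808579, 0, 235784921408847257645510816887285900, 0, 646062496655959764545690885967547780, 0, 484981102014712560482086344892678273, 770149327836964201748991655275496832, 0, 559088799565668744775787696532888674, 0, 0, 976975274369600298255126834576492871, 0, 759967564476697638627627733884470496, 0, 982208143169081121935348971719690247, 0, 482263280478705750716526639894888513,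 0, 569270572752085232110187654934535202, 0, 233229358549546602778400705308797004, 361453518104848400424553844340666410, 0, 635475084879225127880466572098178276, 0, 0, 275859363900540748279503762495705091, 0, 0, 0, 0, 0, 0, 0, 0, 0, 0, 478571859526458617600933247685034305, 562658495034236153262357953089936770, 983303387220310919133234004712491143, 766579632293745637722740007001883744, 0, 0, 0, 0, 0, 0, 0, 0, 0, 0, 0, 0, 478405797583954803143778914799944002, 766727947454256453326822866065359975, 562743427352176357075544591451561345, 983236201684363714173118840172480640, 0, 0, 0, 645803896013692127845639673794858375, 0, 235544067726714562999848570040068226, 270715230420404690179190005392511296, 0, 351360479844094703184913169324716129, 0, 0, 276109091035754746149990344277856258, 361688033191853871723067203723014183, 0, 0, 635557482207867039792368041366392033, 232746383935881290638851371080656960, 0, 0, 976868791636097359211843125153728836, 770425675279417691403900418647000451, 0, 0, 559045699526144682574002824088460396, 484770672408090003130894087183794314,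 0, 0, 569385928992641809983035994747837475, 0, 481978059064971738468257620634468420, 982257581803732407484282731628988426, 0, 760166585354854644479749649957455084, 0, 0, 0, 234573053518035587524833567145306116, 344778835954554634706140848499863779, 652466679444295840384830181808081964, 274279886229469294289847605578305610, 0, 0, 0, 0, 0, 0, 0, 0, 0, 0]

def s3Tab : List ℕ := [0, 812852730107173232200347929486133280, 790689562928449660090206988402155083, 984818244535754528103549039458486304, 0, 956843057449841923631886535941902036, 112512351256469245102048929466801739, 106700331349280212740527367034195668, 0]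

def nT64 : List ℕ := [984818244535754528103549039458486304, 561475773312554808336860583768983584, 358662142733855540651195105552730144, 479663310730678034207776437455390752, 268195153026948482477577069584812064, 651239579074641248992907580101724192, 772944516003414818434737759861180448, 220213109803259289183002082616117280, 478399027289892944836986318915439751, 652511230734547243889424196621634695, 766655661349358789041219721774566535, 983546592875848528599849523095866503, 234047020605013532918724571843071111, 562740056753339893100467802466225287, 344828231932101292308289716483067015, 274484007681004507263912207828716679, 775854724723815310770501267639799914, 230433067710517714098004453446684778, 469443352823419597741041366012563562, 353783906398574632459684868616392810, 648329370354240745105411371710845034, 278665868061310999103375231969955946, 974347529501391999926018176461082730, 566354009647835704976638120093061226, 261751487147795396440831629365313922, 357560752465310382360769019691368834, 568162828099691050573708242622579074,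 226656775682412349841963347737805186, 978123821529497350356007807684411778, 774045906271959951347379670624731522, 644552524287504981378275746150318466, 486357733736935186577533494131655042, 355048189839359711464314235616625740, 277394216401404993840697863910327372, 980636384155448018953375463007978572, 777126376383721299908040032462701644, 552520098846081450874754879326389324, 229168784269732618968236483209725004, 483277263625173835717786003542508620, 642040515700184709952915481927222348, 569434479759597051229203088805993795, 976859538088712266744195918807964995, 275585397949549645935532348255771971, 645816807728290071900861194511064387, 351271897811254358726229211268259139, 485086082077029192832812207432539459, 232945630336468380387276715645214019, 760211995470205708763452511218572611, 635596849821031638906401332688924673, 482175873356628692417591208662347777, 235855839056868876195315433044520961, 558963764725234526523947435429277697, 770431953377464137150730091669827585, 981737774423993166856248664752730113, 270707161614268741216297320940122113,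 361742612845616878824302583274090497, 237127490716774874547219001099299044, 769167669936679051235326924664744164, 649430760622785886097510773450746084, 271971445055053829435291491172231396, 475887018702572666479460122110601444, 360470961185710882775990018446338276, 565252619379290554765669525208049892, 967903863622238921968730227217934564]

abbrev Tr0 : Finset (Finset GolayPt) := famDec 3 tk3

theorem Tr0_mem : Tr0 ∈ trios := by
  rw [trios_eq]
  exact ⟨tk3, by decide +kernel, rfl⟩

theorem swap_Tr0 : SwapFam Tr0 := swapFam_of_table (L := swT0) (by decide +kernel)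

/-- The sextets refining a family. -/
def refS (T S : Finset (Finset GolayPt)) : Prop := S ∈ sextets ∧ ∀ t ∈ S, ∃ o ∈ T, t ⊆ o

/-- The kernel of the action on a family and the sextets refining it. -/
def NTr (T : Finset (Finset GolayPt)) : Subgroup ↥(MulAction.stabilizer M24 T) where
  carrier := {x | (∀ o ∈ T, (x.1.1 : Equiv.Perm GolayPt) • o = o) ∧ ∀ S, refS T S → (x.1.1 : Equiv.Perm GolayPt) • S = S}
  mul_mem' := by
    rintro a b ⟨ha, ha2⟩ ⟨hb, hb2⟩
    refine ⟨fun o ho => ?_, fun S hS => ?_⟩
    · show (a.1.1 * b.1.1 : Equiv.Perm GolayPt) • o = o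
      rw [mul_smul, hb o ho, ha o ho]
    · show (a.1.1 * b.1.1 : Equiv.Perm GolayPt) • S = S
      rw [mul_smul, hb2 S hS, ha2 S hS]
  one_mem' := ⟨fun o _ => one_smul _ _, fun S _ => one_smul _ _⟩
  inv_mem' := by
    rintro a ⟨ha, ha2⟩
    refine ⟨fun o ho => ?_, fun S hS => ?_⟩
    · show (a.1.1 : Equiv.Perm GolayPt)⁻¹ • o = o
      rw [inv_smul_eq_iff, ha o ho]
    · show (a.1.1 : Equiv.Perm GolayPt)⁻¹ • S = S
      rw [inv_smul_eq_iff, ha2 S hS]

theorem inv_smul_mem_T {T : Finset (Finset GolayPt)} (g : ↥(MulAction.stabilizer M24 T)) {o : Finset GolayPt} (ho : o ∈ T) :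
    (g.1.1 : Equiv.Perm GolayPt)⁻¹ • o ∈ T := by
  have hg : (g.1.1 : Equiv.Perm GolayPt) • T = T := g.2
  rw [← hg] at ho
  obtain ⟨b, hb, rfl⟩ := Finset.mem_smul_finset.mp ho
  rw [inv_smul_smul]
  exact hb

instance NTr_normal (T : Finset (Finset GolayPt)) : (NTr T).Normal := by
  refine ⟨fun a ha g => ?_⟩
  obtain ⟨ha1, ha2⟩ := ha
  refine ⟨fun o ho => ?_, fun S hS => ?_⟩
  · show (g.1.1 * a.1.1 * (g.1.1)⁻¹ : Equiv.Perm GolayPt) • o = o
    rw [mul_smul, mul_smul, ha1 _ (inv_smul_mem_T g ho), smul_inv_smul]
  · show (g.1.1 * a.1.1 * (g.1.1)⁻¹ : Equiv.Perm GolayPt) • S = S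
    have h1 : refS T ((g.1.1 : Equiv.Perm GolayPt)⁻¹ • S) := by
      refine ⟨M24_smul_sextet (M24.inv_mem g.1.2) hS.1, fun t ht => ?_⟩
      obtain ⟨t0, ht0, rfl⟩ := Finset.mem_smul_finset.mp ht
      obtain ⟨o, ho, hto⟩ := hS.2 t0 ht0
      exact ⟨_, inv_smul_mem_T g ho, Finset.smul_finset_subset_smul_finset_iff.mpr hto⟩
    rw [mul_smul, mul_smul, ha2 _ h1, smul_inv_smul]

def ref7 : List ℕ := sextKeys.filter fun k => (unp 6 k).all fun a => (unp 3 tk3).any fun b => Nat.beq (Nat.land a b) a

def inNT (c : ℕ) : Bool := (unp 3 tk3).all (fun a => Nat.beq (img c a) a) && ref7.all (keyFix 6 c)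

def inTs (c : ℕ) : Bool := isAut c && keyFix 3 c tk3

theorem ref7_sub {k : ℕ} (hk : k ∈ ref7) : refS Tr0 (famDec 6 k) := by
  obtain ⟨h1, h2⟩ := List.mem_filter.mp hk
  refine ⟨by rw [sextets_eq]; exact ⟨k, h1, rfl⟩, fun t ht => ?_⟩
  obtain ⟨a, ha, rfl⟩ := mem_famDec.mp ht
  obtain ⟨b, hb, hab⟩ := List.any_eq_true.mp (List.all_eq_true.mp h2 a ha)
  refine ⟨fs b, mem_famDec.mpr ⟨b, hb, rfl⟩, ?_⟩
  have h3 := Nat.eq_of_beq_eq_true hab
  intro p hp
  rw [mem_fs] at hp ⊢
  have h4 : (Nat.land a b).testBit (idx p) = a.testBit (idx p) := by rw [h3]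
  have h5 : (a &&& b).testBit (idx p) = true := by
    show (Nat.land a b).testBit (idx p) = true
    rw [h4]
    exact hp
  rw [Nat.testBit_and] at h5
  simp only [Bool.and_eq_true] at h5
  exact h5.2

theorem refS_form {S : Finset (Finset GolayPt)} (h : refS Tr0 S) : ∃ k ∈ ref7, S = famDec 6 k := by
  obtain ⟨h1, h2⟩ := h
  rw [sextets_eq] at h1
  obtain ⟨k, hk, rfl⟩ := h1
  refine ⟨k, List.mem_filter.mpr ⟨hk, List.all_eq_true.mpr fun a ha => ?_⟩, rfl⟩
  obtain ⟨o, ho, hao⟩ := h2 (fs a) (mem_famDec.mpr ⟨a, ha, rfl⟩)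
  obtain ⟨b, hb, rfl⟩ := mem_famDec.mp ho
  refine List.any_eq_true.mpr ⟨b, hb, ?_⟩
  have ha' : a < 2 ^ 24 := unp_lt _ _ a ha
  have hb' : b < 2 ^ 24 := unp_lt _ _ b hb
  have h3 : Nat.land a b = a := by
    apply eq_of_fs_eq (Nat.lt_of_le_of_lt Nat.and_le_left ha') ha'
    ext p
    rw [mem_fs, mem_fs]
    show (a &&& b).testBit (idx p) = true ↔ _
    rw [Nat.testBit_and]
    simp only [Bool.and_eq_true]
    constructor
    · exact fun h => h.1
    · intro h
      refine ⟨h, ?_⟩
      have := hao (mem_fs.mpr h)
      exact mem_fs.mp this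
  rw [h3]
  exact Nat.beq_refl a

theorem chk_nT64 : nT64.all (fun c => isAut c && inNT c && samePerm (comp c c) idP) = true := by decide +kernel

theorem nT64_data : (nT64.map keyP).Nodup ∧ nT64.length = 64 := by constructor <;> decide +kernel

theorem idP_valid5 : valid idP = true := by decide +kernel

theorem keyFix_tk3_smul {c : ℕ} (hv : valid c = true) (h : keyFix 3 c tk3 = true) : mk c • Tr0 = Tr0 :=
  (keyFix_iff hv).mpr h

theorem inNT_spec {c : ℕ} (hA : isAut c = true) (h : inNT c = true) :
    (∀ o ∈ Tr0, mk c • o = o) ∧ ∀ S, refS Tr0 S → mk c • S = S := by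
  have hv := isAut_valid hA
  simp only [inNT, Bool.and_eq_true] at h
  refine ⟨fun o ho => ?_, fun S hS => ?_⟩
  · obtain ⟨a, ha, rfl⟩ := mem_famDec.mp ho
    rw [← fs_img hv, Nat.eq_of_beq_eq_true (List.all_eq_true.mp h.1 a ha)]
  · obtain ⟨k, hk, rfl⟩ := refS_form hS
    exact (keyFix_iff hv).mpr (List.all_eq_true.mp h.2 k hk)

theorem inNT_of_spec {c : ℕ} (hv : valid c = true) (h1 : ∀ o ∈ Tr0, mk c • o = o) (h2 : ∀ S, refS Tr0 S → mk c • S = S) :
    inNT c = true := by
  simp only [inNT, Bool.and_eq_true]
  refine ⟨List.all_eq_true.mpr fun a ha => ?_, List.all_eq_true.mpr fun k hk => ?_⟩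
  · have h3 := h1 (fs a) (mem_famDec.mpr ⟨a, ha, rfl⟩)
    rw [← fs_img hv] at h3
    rw [eq_of_fs_eq (img_lt hv a) (unp_lt _ _ a ha) h3]
    exact Nat.beq_refl a
  · exact (keyFix_iff hv).mp (h2 _ (ref7_sub hk))

/-! ### The complement -/

def Fg3 (a b c d e f g h i : ZMod 2) : ℕ :=
  gl3Tab.getD (a.val + 2 * b.val + 4 * c.val + 8 * d.val + 16 * e.val + 32 * f.val + 64 * g.val + 128 * h.val + 256 * i.val) 0

def det3 (a b c d e f g h i : ZMod 2) : ZMod 2 :=
  a * e * i - a * f * h - b * d * i + b * f * g + c * d * h - c * e * g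

def Fs3 (σ : Equiv.Perm (Fin 3)) : ℕ := s3Tab.getD ((σ 0).val + 3 * (σ 1).val) 0

theorem chkT1 : ∀ a b c d e f g h i : ZMod 2, det3 a b c d e f g h i ≠ 0 → inTs (Fg3 a b c d e f g h i) = true := by
  decide +kernel

theorem chkT2 : ∀ a b c d e f g h i : ZMod 2, det3 a b c d e f g h i ≠ 0 →
    ∀ a' b' c' d' e' f' g' h' i' : ZMod 2, det3 a' b' c' d' e' f' g' h' i' ≠ 0 →
    samePerm (Fg3 (a * a' + b * d' + c * g') (a * b' + b * e' + c * h') (a * c' + b * f' + c * i')
      (d * a' + e * d' + f * g') (d * b' + e * e' + f * h') (d * c' + e * f' + f * i')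
      (g * a' + h * d' + i * g') (g * b' + h * e' + i * h') (g * c' + h * f' + i * i'))
      (comp (Fg3 a b c d e f g h i) (Fg3 a' b' c' d' e' f' g' h' i')) = true := by
  decide +kernel

theorem chkS1 : ∀ σ τ : Equiv.Perm (Fin 3), inTs (Fs3 σ) = true ∧ samePerm (Fs3 (σ * τ)) (comp (Fs3 σ) (Fs3 τ)) = true := by
  decide +kernel

set_option synthInstance.maxSize 100000 in
theorem chkC1 : ∀ a b c d e f g h i : ZMod 2, det3 a b c d e f g h i ≠ 0 → ∀ σ : Equiv.Perm (Fin 3),
    samePerm (comp (Fg3 a b c d e f g h i) (Fs3 σ)) (comp (Fs3 σ) (Fg3 a b c d e f g h i)) = true ∧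
    (inNT (comp (Fg3 a b c d e f g h i) (Fs3 σ)) = true →
      a = 1 ∧ b = 0 ∧ c = 0 ∧ d = 0 ∧ e = 1 ∧ f = 0 ∧ g = 0 ∧ h = 0 ∧ i = 1 ∧ σ = 1) := by
  decide +kernel

abbrev GL32 := Matrix.GeneralLinearGroup (Fin 3) (ZMod 2)

theorem gl3_det (A : GL32) : det3 (A.1 0 0) (A.1 0 1) (A.1 0 2) (A.1 1 0) (A.1 1 1) (A.1 1 2) (A.1 2 0) (A.1 2 1) (A.1 2 2) ≠ 0 := by
  have h := (Matrix.isUnit_iff_isUnit_det _).mp A.isUnit
  rw [Matrix.det_fin_three] at h
  exact h.ne_zero

def qT3 (A : GL32) : ℕ := Fg3 (A.1 0 0) (A.1 0 1) (A.1 0 2) (A.1 1 0) (A.1 1 1) (A.1 1 2) (A.1 2 0) (A.1 2 1) (A.1 2 2)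

theorem qT3_in (A : GL32) : inTs (qT3 A) = true := chkT1 _ _ _ _ _ _ _ _ _ (gl3_det A)

theorem inTs_spec {c : ℕ} (h : inTs c = true) : isAut c = true ∧ valid c = true ∧ mk c • Tr0 = Tr0 := by
  simp only [inTs, Bool.and_eq_true] at h
  exact ⟨h.1, isAut_valid h.1, (keyFix_iff (isAut_valid h.1)).mpr h.2⟩

theorem qT3_valid (A : GL32) : valid (qT3 A) = true := (inTs_spec (qT3_in A)).2.1

theorem Fs3_valid (σ : Equiv.Perm (Fin 3)) : valid (Fs3 σ) = true := (inTs_spec (chkS1 σ 1).1).2.1

theorem mk_qT3_mul (A B : GL32) : mk (qT3 (A * B)) = mk (qT3 A) * mk (qT3 B) := by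
  rw [← mk_comp (qT3_valid A) (qT3_valid B)]
  have h := chkT2 _ _ _ _ _ _ _ _ _ (gl3_det A) _ _ _ _ _ _ _ _ _ (gl3_det B)
  have e : qT3 (A * B) = Fg3
      (A.1 0 0 * B.1 0 0 + A.1 0 1 * B.1 1 0 + A.1 0 2 * B.1 2 0) (A.1 0 0 * B.1 0 1 + A.1 0 1 * B.1 1 1 + A.1 0 2 * B.1 2 1)
      (A.1 0 0 * B.1 0 2 + A.1 0 1 * B.1 1 2 + A.1 0 2 * B.1 2 2)
      (A.1 1 0 * B.1 0 0 + A.1 1 1 * B.1 1 0 + A.1 1 2 * B.1 2 0) (A.1 1 0 * B.1 0 1 + A.1 1 1 * B.1 1 1 + A.1 1 2 * B.1 2 1)
      (A.1 1 0 * B.1 0 2 + A.1 1 1 * B.1 1 2 + A.1 1 2 * B.1 2 2)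
      (A.1 2 0 * B.1 0 0 + A.1 2 1 * B.1 1 0 + A.1 2 2 * B.1 2 0) (A.1 2 0 * B.1 0 1 + A.1 2 1 * B.1 1 1 + A.1 2 2 * B.1 2 1)
      (A.1 2 0 * B.1 0 2 + A.1 2 1 * B.1 1 2 + A.1 2 2 * B.1 2 2) := by
    simp [qT3, Matrix.mul_apply, Fin.sum_univ_three]
  have hv := qT3_valid (A * B)
  rw [e] at hv ⊢
  exact mk_eq_of_samePerm hv (valid_comp (qT3_valid A) (qT3_valid B)) h

theorem mk_Fs3_mul (σ τ : Equiv.Perm (Fin 3)) : mk (Fs3 (σ * τ)) = mk (Fs3 σ) * mk (Fs3 τ) := by
  rw [← mk_comp (Fs3_valid σ) (Fs3_valid τ)]
  exact mk_eq_of_samePerm (Fs3_valid _) (valid_comp (Fs3_valid σ) (Fs3_valid τ)) (chkS1 σ τ).2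

theorem mk_comm (A : GL32) (σ : Equiv.Perm (Fin 3)) : mk (qT3 A) * mk (Fs3 σ) = mk (Fs3 σ) * mk (qT3 A) := by
  have h := (chkC1 _ _ _ _ _ _ _ _ _ (gl3_det A) σ).1
  rw [← mk_comp (qT3_valid A) (Fs3_valid σ), ← mk_comp (Fs3_valid σ) (qT3_valid A)]
  exact mk_eq_of_samePerm (valid_comp (qT3_valid A) (Fs3_valid σ)) (valid_comp (Fs3_valid σ) (qT3_valid A)) h

/-- The homomorphism from the product into the stabiliser. -/
noncomputable def phiT : GL32 × Equiv.Perm (Fin 3) →* ↥(MulAction.stabilizer M24 Tr0) :=
  MonoidHom.mk' (fun x => ⟨⟨mk (qT3 x.1) * mk (Fs3 x.2), M24.mul_mem (mk_mem_M24 (inTs_spec (qT3_in x.1)).1)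
      (mk_mem_M24 (inTs_spec (chkS1 x.2 1).1).1)⟩, by
      show (mk (qT3 x.1) * mk (Fs3 x.2)) • Tr0 = Tr0
      rw [mul_smul, (inTs_spec (chkS1 x.2 1).1).2.2, (inTs_spec (qT3_in x.1)).2.2]⟩)
  (fun x y => by
    apply Subtype.ext
    apply Subtype.ext
    show mk (qT3 (x.1 * y.1)) * mk (Fs3 (x.2 * y.2)) = mk (qT3 x.1) * mk (Fs3 x.2) * (mk (qT3 y.1) * mk (Fs3 y.2))
    rw [mk_qT3_mul, mk_Fs3_mul]
    have h := mk_comm y.1 x.2
    calc mk (qT3 x.1) * mk (qT3 y.1) * (mk (Fs3 x.2) * mk (Fs3 y.2))
        = mk (qT3 x.1) * (mk (qT3 y.1) * mk (Fs3 x.2)) * mk (Fs3 y.2) := by group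
      _ = mk (qT3 x.1) * (mk (Fs3 x.2) * mk (qT3 y.1)) * mk (Fs3 y.2) := by rw [h]
      _ = _ := by group)

noncomputable def phiTQ : GL32 × Equiv.Perm (Fin 3) →* ↥(MulAction.stabilizer M24 Tr0) ⧸ NTr Tr0 :=
  haveI := NTr_normal Tr0
  (QuotientGroup.mk' (NTr Tr0)).comp phiT

theorem phiTQ_inj : Function.Injective phiTQ := by
  haveI := NTr_normal Tr0
  rw [injective_iff_map_eq_one]
  rintro ⟨A, σ⟩ hA
  have h1 : phiT (A, σ) ∈ NTr Tr0 := (QuotientGroup.eq_one_iff _).mp hA
  obtain ⟨h2, h3⟩ := h1
  have hv := valid_comp (qT3_valid A) (Fs3_valid σ)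
  have e : mk (comp (qT3 A) (Fs3 σ)) = mk (qT3 A) * mk (Fs3 σ) := mk_comp (qT3_valid A) (Fs3_valid σ)
  have h4 : inNT (comp (qT3 A) (Fs3 σ)) = true := by
    apply inNT_of_spec hv
    · rw [e]
      exact h2
    · rw [e]
      exact h3
  obtain ⟨ha, hb, hc, hd, he, hf, hg, hh, hi, hσ⟩ := (chkC1 _ _ _ _ _ _ _ _ _ (gl3_det A) σ).2 h4
  refine Prod.ext ?_ hσ
  apply Units.ext
  ext i j
  fin_cases i <;> fin_cases j <;> simp [ha, hb, hc, hd, he, hf, hg, hh, hi]

theorem card_prodT : Nat.card (GL32 × Equiv.Perm (Fin 3)) = 1008 := by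
  have h := Matrix.card_GL_field (n := 3) (𝔽 := ZMod 2)
  rw [ZMod.card, Fin.prod_univ_three] at h
  have h2 : Nat.card GL32 = 168 := by
    rw [h]
    norm_num
  rw [Nat.card_prod, h2, Nat.card_eq_fintype_card (α := Equiv.Perm (Fin 3)), Fintype.card_perm, Fintype.card_fin]
  rfl

theorem card_stab_Tr0 : Nat.card ↥(MulAction.stabilizer M24 Tr0) = 64512 := by
  have h := card_stab_fam Tr0_mem (fun g hg x hx => M24_smul_trio hg hx) (fun x hx y hy => M24_trio_trans hx hy)
  rw [trios_ncard] at h
  omega

theorem nT64_spec {c : ℕ} (h : c ∈ nT64) : isAut c = true ∧ inNT c = true ∧ samePerm (comp c c) idP = true := by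
  have h1 := List.all_eq_true.mp chk_nT64 c h
  simp only [Bool.and_eq_true] at h1
  exact ⟨h1.1.1, h1.1.2, h1.2⟩

/-- The embedding of the explicit list in the kernel. -/
noncomputable def iotaT (g : {g : Equiv.Perm GolayPt // ∃ c ∈ nT64, g = mk c}) : ↥(NTr Tr0) :=
  ⟨⟨⟨g.1, by
      obtain ⟨c, hc, hg⟩ := g.2
      rw [hg]
      exact mk_mem_M24 (nT64_spec hc).1⟩, by
      obtain ⟨c, hc, hg⟩ := g.2
      show g.1 • Tr0 = Tr0
      rw [hg]
      have hs := inNT_spec (nT64_spec hc).1 (nT64_spec hc).2.1
      ext x
      rw [Finset.mem_smul_finset]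
      constructor
      · rintro ⟨t, ht, rfl⟩
        rw [hs.1 t ht]
        exact ht
      · intro hx
        exact ⟨x, hx, hs.1 x hx⟩⟩, by
      obtain ⟨c, hc, hg⟩ := g.2
      have hs := inNT_spec (nT64_spec hc).1 (nT64_spec hc).2.1
      refine ⟨fun o ho => ?_, fun S hS => ?_⟩
      · show g.1 • o = o
        rw [hg]
        exact hs.1 o ho
      · show g.1 • S = S
        rw [hg]
        exact hs.2 S hS⟩

theorem iotaT_inj : Function.Injective iotaT := by
  intro a b h
  have : (iotaT a).1.1.1 = (iotaT b).1.1.1 := by rw [h]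
  exact Subtype.ext this

theorem card_list_T : Nat.card {g : Equiv.Perm GolayPt // ∃ c ∈ nT64, g = mk c} = 64 := by
  have h1 := card_of_list (p := fun g => ∃ c ∈ nT64, g = mk c) (L := nT64)
    (fun c hc => isAut_valid (nT64_spec hc).1) nT64_data.1 (fun g => Iff.rfl)
  rw [nT64_data.2] at h1
  exact h1

theorem card_NTr_and : Nat.card ↥(NTr Tr0) = 64 ∧ Function.Bijective phiTQ := by
  haveI := NTr_normal Tr0
  have h1 := Subgroup.card_eq_card_quotient_mul_card_subgroup (NTr Tr0)
  rw [card_stab_Tr0] at h1
  have h2 : 1008 ≤ Nat.card (↥(MulAction.stabilizer M24 Tr0) ⧸ NTr Tr0) := by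
    rw [← card_prodT]
    exact Nat.card_le_card_of_injective _ phiTQ_inj
  have h3 : 64 ≤ Nat.card ↥(NTr Tr0) := by
    rw [← card_list_T]
    exact Nat.card_le_card_of_injective _ iotaT_inj
  have h4 : Nat.card ↥(NTr Tr0) = 64 := by
    by_contra hne
    have h5 : 65 ≤ Nat.card ↥(NTr Tr0) := by omega
    have := Nat.mul_le_mul h2 h5
    omega
  refine ⟨h4, phiTQ_inj.bijective_of_nat_card_le ?_⟩
  rw [card_prodT]
  rw [h4] at h1
  omega

theorem NTr_sq (x : ↥(MulAction.stabilizer M24 Tr0)) (hx : x ∈ NTr Tr0) : x * x = 1 := by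
  have hb : Function.Bijective iotaT := iotaT_inj.bijective_of_nat_card_le (by
    rw [card_list_T, card_NTr_and.1])
  obtain ⟨g, hg⟩ := hb.2 ⟨x, hx⟩
  obtain ⟨c, hc, hgc⟩ := g.2
  have hx' : x.1.1 = g.1 := by
    have := congrArg (fun z : ↥(NTr Tr0) => z.1.1.1) hg
    exact this.symm
  have hv := isAut_valid (nT64_spec hc).1
  apply Subtype.ext
  apply Subtype.ext
  show x.1.1 * x.1.1 = 1
  rw [hx', hgc, ← mk_comp hv hv, mk_eq_of_samePerm (valid_comp hv hv) idP_valid5 (nT64_spec hc).2.2, mk_idP]

/-- Conjugation between stabilisers. -/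
noncomputable def eTr {u : Equiv.Perm GolayPt} (hu : u ∈ M24) :
    ↥(MulAction.stabilizer M24 (u • Tr0)) ≃* ↥(MulAction.stabilizer M24 Tr0) where
  toFun g := ⟨⟨u⁻¹ * g.1.1 * u, M24.mul_mem (M24.mul_mem (M24.inv_mem hu) g.1.2) hu⟩, by
    have hg : (g.1.1 : Equiv.Perm GolayPt) • (u • Tr0) = u • Tr0 := g.2
    show (u⁻¹ * g.1.1 * u) • Tr0 = Tr0
    rw [mul_smul, mul_smul, hg, inv_smul_smul]⟩
  invFun a := ⟨⟨u * a.1.1 * u⁻¹, M24.mul_mem (M24.mul_mem hu a.1.2) (M24.inv_mem hu)⟩, by
    have ha : (a.1.1 : Equiv.Perm GolayPt) • Tr0 = Tr0 := a.2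
    show (u * a.1.1 * u⁻¹) • (u • Tr0) = u • Tr0
    rw [mul_smul, mul_smul, inv_smul_smul, ha]⟩
  left_inv g := by
    apply Subtype.ext
    apply Subtype.ext
    show u * (u⁻¹ * g.1.1 * u) * u⁻¹ = g.1.1
    group
  right_inv a := by
    apply Subtype.ext
    apply Subtype.ext
    show u⁻¹ * (u * a.1.1 * u⁻¹) * u = a.1.1
    group
  map_mul' x y := by
    apply Subtype.ext
    apply Subtype.ext
    show u⁻¹ * (x.1.1 * y.1.1) * u = (u⁻¹ * x.1.1 * u) * (u⁻¹ * y.1.1 * u)
    group

theorem result_1558 (T : Finset (Finset GolayPt)) (hT : T ∈ trios) :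
    (∀ e : Equiv.Perm ↥T, ∃ g ∈ MulAction.stabilizer M24 T, ∀ o : ↥T,
      (g : Equiv.Perm GolayPt) • (o : Finset GolayPt) = ((e o : ↥T) : Finset GolayPt)) ∧
    ∃ (N : Subgroup ↥(MulAction.stabilizer M24 T)) (_ : N.Normal), Nat.card N = 64 ∧ (∀ x ∈ N, x * x = 1) ∧
      Nonempty (↥(MulAction.stabilizer M24 T) ⧸ N ≃* GL (Fin 3) (ZMod 2) × Equiv.Perm (Fin 3)) := by
  obtain ⟨u, hu, rfl⟩ := M24_trio_trans Tr0_mem hT
  have hsw : SwapFam (u • Tr0) := swap_Tr0.conj hu
  refine ⟨fun e => ?_, ?_⟩
  · obtain ⟨g, hg, hge⟩ := realize_fam hsw e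
    exact ⟨⟨g, hg⟩, stab_of_realize hge, hge⟩
  · let e := eTr hu
    haveI hN0 := NTr_normal Tr0
    haveI hN' : ((NTr Tr0).map e.symm.toMonoidHom).Normal := Subgroup.Normal.map hN0 _ e.symm.surjective
    refine ⟨(NTr Tr0).map e.symm.toMonoidHom, hN', ?_, ?_, ?_⟩
    · rw [Subgroup.card_map_of_injective e.symm.injective]
      exact card_NTr_and.1
    · rintro x ⟨y, hy, rfl⟩
      have := NTr_sq y hy
      show e.symm y * e.symm y = 1
      rw [← map_mul, this, map_one]
    · have he : ((NTr Tr0).map e.symm.toMonoidHom).map e.toMonoidHom = NTr Tr0 := by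
        rw [Subgroup.map_map]
        have : (e.toMonoidHom.comp e.symm.toMonoidHom) = MonoidHom.id _ := by
          ext x
          simp
        rw [this, Subgroup.map_id]
      exact ⟨(QuotientGroup.congr _ _ e he).trans (MulEquiv.ofBijective phiTQ card_NTr_and.2).symm⟩

end CfsgLib.Golay
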